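import Groth.Agent.Lib.Brauer.Cyclic

/-!
# Products of cyclic algebras, splitting and period
-/

namespace Groth.Agent.Lib.Brauer.CyclicMul

set_option linter.style.haveILetI false

open scoped TensorProduct
open Groth.Agent.Lib Groth.Agent.Lib.Brauer.BEq Groth.Agent.Lib.Brauer.Cyclic

universe u v w x y

variable {k : Type u} [Field k] {K : Type v} [Field K] [Algebra k K] [FiniteDimensional k K]
  [IsGalois k K] {σ : K ≃ₐ[k] K} (hgen : ∀ τ : K ≃ₐ[k] K, τ ∈ Subgroup.zpowers σ)
include hgen

theorem comm_gen (τ : K ≃ₐ[k] K) : σ * τ = τ * σ := by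
  obtain ⟨j, rfl⟩ := Subgroup.mem_zpowers_iff.mp (hgen τ)
  exact ((Commute.refl σ).zpow_right j).eq

omit hgen in
/-- The orthogonal idempotents of `K ⊗ K`. -/
theorem exists_idem : ∃ e : (K ≃ₐ[k] K) → K ⊗[k] K, (∀ τ, e τ ≠ 0) ∧ (∀ τ, e τ * e τ = e τ) ∧
    (∀ τ τ', τ ≠ τ' → e τ * e τ' = 0) ∧
    ∀ (s : K ≃ₐ[k] K), (∀ τ, s * τ = τ * s) →
      ∀ τ, Algebra.TensorProduct.map (s : K →ₐ[k] K) (s : K →ₐ[k] K) (e τ) = e τ := by
  classical
  let Φ : K ⊗[k] K →ₐ[K] ((K ≃ₐ[k] K) → K) := Algebra.TensorProduct.lift (Algebra.ofId K _)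
    (AlgHom.pi fun τ : K ≃ₐ[k] K => (τ : K →ₐ[k] K)) fun _ _ => Commute.all _ _
  have hΦ : ∀ x z τ, Φ (x ⊗ₜ[k] z) τ = x * τ z := fun x z τ => rfl
  have hinj : Function.Injective Φ := by
    have hdim : Module.finrank K (K ⊗[k] K) = Module.finrank K ((K ≃ₐ[k] K) → K) := by
      rw [Module.finrank_baseChange, Module.finrank_pi, ← Nat.card_eq_fintype_card,
        IsGalois.card_aut_eq_finrank]
    refine (LinearMap.injective_iff_surjective_of_finrank_eq_finrank hdim (f := Φ.toLinearMap)).mpr ?_
    rw [← LinearMap.range_eq_top]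
    by_contra h
    obtain ⟨f, hf0, hf⟩ := Submodule.exists_le_ker_of_lt_top _ (lt_top_iff_ne_top.mpr h)
    apply hf0
    have hli : LinearIndependent K fun τ : K ≃ₐ[k] K => ((τ : K →ₐ[k] K).toLinearMap : K →ₗ[k] K) :=
      (linearIndependent_toLinearMap k K K).comp _ fun _ _ h => AlgEquiv.ext fun z =>
        AlgHom.congr_fun h z
    have h0 : (∑ τ : K ≃ₐ[k] K, f (Pi.single τ 1) • ((τ : K →ₐ[k] K).toLinearMap : K →ₗ[k] K)) = 0 := by
      refine LinearMap.ext fun z => ?_
      have hz : f (Φ (1 ⊗ₜ z)) = 0 := hf ⟨1 ⊗ₜ z, rfl⟩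
      have hexp : Φ (1 ⊗ₜ z) = ∑ τ : K ≃ₐ[k] K, τ z • (Pi.single τ 1 : (K ≃ₐ[k] K) → K) := by
        funext τ
        simp [hΦ, Finset.sum_apply, Pi.single_apply]
      rw [hexp] at hz
      simpa [map_sum, LinearMap.sum_apply, mul_comm] using hz
    refine LinearMap.pi_ext fun τ c => ?_
    have hτ := Fintype.linearIndependent_iff.mp hli _ h0 τ
    rw [show (Pi.single τ c : (K ≃ₐ[k] K) → K) = c • Pi.single τ 1 by
      funext τ'; simp [Pi.single_apply], map_smul, hτ, smul_zero, LinearMap.zero_apply]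
  have hsurj : Function.Surjective Φ := by
    have hdim : Module.finrank K (K ⊗[k] K) = Module.finrank K ((K ≃ₐ[k] K) → K) := by
      rw [Module.finrank_baseChange, Module.finrank_pi, ← Nat.card_eq_fintype_card,
        IsGalois.card_aut_eq_finrank]
    exact (LinearMap.injective_iff_surjective_of_finrank_eq_finrank hdim (f := Φ.toLinearMap)).mp hinj
  choose e he using fun τ : K ≃ₐ[k] K => hsurj (Pi.single τ 1)
  refine ⟨e, fun τ h => ?_, fun τ => hinj ?_, fun τ τ' h => hinj ?_, fun s hs τ => hinj ?_⟩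
  · have := congrFun (he τ) τ
    rw [h, map_zero, Pi.single_eq_same] at this
    exact zero_ne_one this
  · rw [map_mul, he]; funext τ'; simp [Pi.single_apply]
  · rw [map_mul, he, he, map_zero]; funext τ''
    simp only [Pi.mul_apply, Pi.single_apply, Pi.zero_apply]
    split_ifs with h1 h2 <;> simp_all
  · have key : ∀ t τ', Φ (Algebra.TensorProduct.map (s : K →ₐ[k] K) (s : K →ₐ[k] K) t) τ' = s (Φ t τ') := by
      intro t τ'
      induction t using TensorProduct.induction_on with
      | zero => simp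
      | add x y hx hy => simp only [map_add, Pi.add_apply, hx, hy]
      | tmul a c =>
        rw [Algebra.TensorProduct.map_tmul, hΦ, hΦ, map_mul]
        congr 1
        exact (AlgEquiv.congr_fun (hs τ') c).symm
    funext τ'
    rw [key, he, Pi.single_apply]
    split_ifs <;> simp

/-- Products of cyclic algebras. -/
theorem beq_mul {b b' : k} {A : Type w} [Ring A] [Algebra k A] {A' : Type x} [Ring A'] [Algebra k A']
    {A'' : Type y} [Ring A''] [Algebra k A''] (P : Pres σ b A) (P' : Pres σ b' A')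
    (P'' : Pres σ (b * b') A'') : BEq k (A ⊗[k] A') A'' := by
  classical
  obtain ⟨_, _, _⟩ := isCSA hgen P
  obtain ⟨_, _, _⟩ := isCSA hgen P'
  obtain ⟨_, _, _⟩ := isCSA hgen P''
  haveI := CSA.Simple.isSimpleRing_tensor k A A'
  haveI := CSA.Simple.isCentral_tensor k A A'
  set m := Module.finrank k K with hm
  have hmpos : 0 < m := Module.finrank_pos
  let g : K ⊗[k] K →ₐ[k] A ⊗[k] A' := Algebra.TensorProduct.map P.ι P'.ι
  let Y : A ⊗[k] A' := (P.y : A) ⊗ₜ (P'.y : A')
  have hgY : ∀ t, g t * Y = Y * g (Algebra.TensorProduct.map (σ : K →ₐ[k] K) (σ : K →ₐ[k] K) t) := by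
    intro t
    induction t using TensorProduct.induction_on with
    | zero => simp
    | add x y hx hy => simp only [map_add, add_mul, mul_add, hx, hy]
    | tmul a c =>
      simp only [g, Y, Algebra.TensorProduct.map_tmul, Algebra.TensorProduct.tmul_mul_tmul]
      rw [P.rel, P'.rel]; rfl
  let ι' : K →ₐ[k] A ⊗[k] A' := g.comp Algebra.TensorProduct.includeLeft
  have hrel : ∀ z, ι' z * Y = Y * ι' (σ z) := fun z => by
    show g (z ⊗ₜ 1) * Y = Y * g (σ z ⊗ₜ 1)
    rw [hgY, Algebra.TensorProduct.map_tmul, map_one]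
    rfl
  have hYm : Y ^ m = algebraMap k (A ⊗[k] A') (b * b') := by
    rw [Algebra.TensorProduct.tmul_pow, P.pow, P'.pow, Algebra.TensorProduct.algebraMap_apply,
      Algebra.algebraMap_eq_smul_one b', TensorProduct.tmul_smul, TensorProduct.smul_tmul',
      Algebra.smul_def, ← map_mul, mul_comm b' b]
  obtain ⟨f, hfι, hfy⟩ := P''.exists_hom (orderOf_eq hgen) ι' Y hrel hYm
  haveI := P''.nontrivial
  haveI : Nontrivial (A ⊗[k] A') := IsSimpleRing.instNontrivial
  have hfinj : Function.Injective f := RingHom.injective f.toRingHom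
  set C := Subalgebra.centralizer k (f.range : Set (A ⊗[k] A')) with hC
  -- dimensions
  have hdimC : Module.finrank k C = m ^ 2 := by
    have h := CSA.SkolemNoether.finrank_centralizer_mul f
    rw [Module.finrank_tensorProduct, P.finrank, P'.finrank, P''.finrank] at h
    exact Nat.eq_of_mul_eq_mul_right (by positivity) h
  haveI : IsSimpleRing C := CSA.Centralizer.isSimpleRing_centralizer f
  haveI := CSA.Simple.isSimpleRing_tensor k A'' C
  let Θ : A'' ⊗[k] C →ₐ[k] A ⊗[k] A' := Algebra.TensorProduct.lift f C.val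
    fun a c => (Subalgebra.mem_centralizer_iff k).mp c.2 (f a) ⟨a, rfl⟩
  have hΘ : Function.Bijective Θ := CSA.Splitting.bijective_of_simple Θ (by
    rw [Module.finrank_tensorProduct, Module.finrank_tensorProduct, hdimC, P''.finrank, P.finrank,
      P'.finrank])
  -- the centralizer is central
  haveI : Algebra.IsCentral k C := by
    refine ⟨fun c hc => ?_⟩
    rw [Subalgebra.mem_center_iff] at hc
    have hcen : (c : A ⊗[k] A') ∈ Subalgebra.center k (A ⊗[k] A') := by
      rw [Subalgebra.mem_center_iff]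
      intro a
      obtain ⟨t, rfl⟩ := hΘ.2 a
      induction t using TensorProduct.induction_on with
      | zero => simp
      | add x y hx hy => simp only [map_add, add_mul, mul_add, hx, hy]
      | tmul a d =>
        show f a * (d : A ⊗[k] A') * c = c * (f a * d)
        rw [mul_assoc, show (d : A ⊗[k] A') * c = c * d from congrArg Subtype.val (hc d), ← mul_assoc,
          ← mul_assoc, (Subalgebra.mem_centralizer_iff k).mp c.2 (f a) ⟨a, rfl⟩]
    rw [Algebra.IsCentral.center_eq_bot, Algebra.mem_bot] at hcen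
    obtain ⟨r, hr⟩ := hcen
    exact Algebra.mem_bot.mpr ⟨r, Subtype.ext hr⟩
  -- orthogonal idempotents in the centralizer
  obtain ⟨e, he0, heid, heorth, hefix⟩ := exists_idem (k := k) (K := K)
  have hcomm := hefix σ (comm_gen hgen)
  have hgC : ∀ τ, g (e τ) ∈ C := by
    intro τ
    rw [hC, Subalgebra.mem_centralizer_iff]
    rintro _ ⟨a, rfl⟩
    have ha : a ∈ Algebra.adjoin k (Set.range P''.ι ∪ {(P''.y : A'')}) :=
      (P''.adjoin_eq_top (orderOf_eq hgen)).symm ▸ Algebra.mem_top
    induction ha using Algebra.adjoin_induction with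
    | mem z hz =>
      rcases hz with ⟨w, rfl⟩ | hz
      · show f (P''.ι w) * g (e τ) = g (e τ) * f (P''.ι w)
        rw [hfι]
        show g (w ⊗ₜ 1) * g (e τ) = g (e τ) * g (w ⊗ₜ 1)
        rw [← map_mul, ← map_mul, mul_comm]
      · rw [Set.mem_singleton_iff.mp hz]
        show f (P''.y : A'') * g (e τ) = g (e τ) * f (P''.y : A'')
        rw [hfy, hgY, hcomm]
    | algebraMap r =>
      show f (algebraMap k A'' r) * _ = _ * f (algebraMap k A'' r)
      rw [AlgHom.commutes]; exact Algebra.commutes r _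
    | add a b _ _ ha hb =>
      show f (a + b) * _ = _ * f (a + b)
      rw [map_add, add_mul, mul_add]; exact congrArg₂ (· + ·) ha hb
    | mul a b _ _ ha hb =>
      show f (a * b) * _ = _ * f (a * b)
      rw [map_mul, mul_assoc, show f b * g (e τ) = g (e τ) * f b from hb, ← mul_assoc,
        show f a * g (e τ) = g (e τ) * f a from ha, mul_assoc]
  have hginj : Function.Injective g :=
    TensorProduct.map_injective_of_flat_flat P.ι.toLinearMap P'.ι.toLinearMap
      (RingHom.injective P.ι.toRingHom) (RingHom.injective P'.ι.toRingHom)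
  obtain ⟨r, hr, D, _, _, _, _, ⟨ψ⟩⟩ := CSA.Basic.exists_algEquiv_matrix_central_divisionRing k C
  let idx : Fin m ≃ (K ≃ₐ[k] K) := (Fintype.equivFinOfCardEq (by
    rw [← Nat.card_eq_fintype_card, IsGalois.card_aut_eq_finrank])).symm
  have hmr : m ≤ r := CSA.Wedderburn.card_le_of_orthogonal
    (fun i => ψ ⟨g (e (idx i)), hgC _⟩)
    (fun i h => he0 (idx i) (hginj (by
      have h' := congrArg Subtype.val ((map_eq_zero_iff ψ ψ.injective).mp h)
      rw [map_zero]; exact h')))
    (fun i => by
      rw [← map_mul]; congr 1; apply Subtype.ext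
      show g _ * g _ = g _
      rw [← map_mul, heid])
    (fun i j h => by
      rw [← map_mul]
      convert map_zero ψ
      apply Subtype.ext
      show g _ * g _ = 0
      rw [← map_mul, heorth _ _ (fun h' => h (idx.injective h')), map_zero])
  have hD : Module.finrank k D = 1 := by
    have h := ψ.toLinearEquiv.finrank_eq
    rw [hdimC, Module.finrank_matrix, Fintype.card_fin] at h
    have hpos : 0 < Module.finrank k D := Module.finrank_pos
    have h1 : m * m ≤ r * r := Nat.mul_le_mul hmr hmr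
    nlinarith
  let ed : k ≃ₐ[k] D := AlgEquiv.ofBijective (Algebra.ofId k D)
    ⟨(algebraMap k D).injective, (LinearMap.injective_iff_surjective_of_finrank_eq_finrank
      (by rw [Module.finrank_self, hD]) (f := (Algebra.ofId k D).toLinearMap)).mp (algebraMap k D).injective⟩
  exact (of_algEquiv (AlgEquiv.ofBijective Θ hΘ)).symm.trans
    ((refl.tensor (of_matrix_equiv hr.out (ψ.trans ed.symm.mapMatrix))).trans rid)

theorem splits_iff_norm {b : k} {A : Type w} [Ring A] [Algebra k A] (P : Pres σ b A) :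
    Curves.Splits k A k ↔ ∃ c : K, Algebra.norm k c = b := by
  classical
  obtain ⟨_, _, _⟩ := isCSA hgen P
  have hord := orderOf_eq hgen
  set m := Module.finrank k K with hm
  let reg : K →ₐ[k] Module.End k K := Algebra.lmul k K
  let T : K → Module.End k K := fun c =>
    (LinearMap.mulLeft k c).comp (σ.symm : K →ₐ[k] K).toLinearMap
  have hT : ∀ c t, T c t = c * σ.symm t := fun c t => rfl
  have hTrel : ∀ c z, reg z * T c = T c * reg (σ z) := fun c z => LinearMap.ext fun t => by
    show z * (c * σ.symm t) = c * σ.symm (σ z * t)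
    rw [map_mul, AlgEquiv.symm_apply_apply]; ring
  have hTpow : ∀ (c : K) (j : ℕ) (t : K),
      (T c ^ j) t = (∏ i ∈ Finset.range j, (σ.symm ^ i) c) * (σ.symm ^ j) t := by
    intro c j
    induction j with
    | zero => intro t; simp
    | succ j ih =>
      intro t
      rw [pow_succ', Module.End.mul_apply, ih, hT, map_mul, map_prod, Finset.prod_range_succ',
        pow_zero, AlgEquiv.one_apply, ← AlgEquiv.mul_apply, ← pow_succ']
      simp only [← AlgEquiv.mul_apply, ← pow_succ']
      ring
  have hordinv : orderOf σ.symm = m := by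
    rw [show σ.symm = σ⁻¹ from rfl, orderOf_inv, hord]
  have hnorm : ∀ c : K, T c ^ m = algebraMap k (Module.End k K) (Algebra.norm k c) := by
    intro c
    refine LinearMap.ext fun t => ?_
    rw [hTpow, ← hordinv, pow_orderOf_eq_one, AlgEquiv.one_apply, Module.algebraMap_end_apply,
      Algebra.smul_def, Algebra.norm_eq_prod_automorphisms]
    congr 1
    rw [hordinv]
    refine Finset.prod_bij (fun i _ => σ.symm ^ i) (fun i _ => Finset.mem_univ _) ?_ ?_ (fun i _ => rfl)
    · intro i hi j hj h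
      exact pow_injOn_Iio_orderOf (by simpa [hordinv] using hi) (by simpa [hordinv] using hj) h
    · intro τ _
      have : τ ∈ Submonoid.powers (σ.symm) := by
        rw [mem_powers_iff_mem_zpowers, show σ.symm = σ⁻¹ from rfl, Subgroup.zpowers_inv]
        exact hgen τ
      obtain ⟨i, rfl⟩ := this
      exact ⟨i % m, Finset.mem_range.mpr (Nat.mod_lt _ Module.finrank_pos), by
        rw [← hordinv, pow_mod_orderOf]⟩
  have hdim : Module.finrank k A = Module.finrank k (Module.End k K) := by
    rw [P.finrank, Module.finrank_linearMap, sq]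
  constructor
  · intro h
    obtain ⟨n, -, ⟨φ⟩⟩ := BEq.splits_iff.mp h
    have hnm : n = m := by
      have h' := φ.toLinearEquiv.finrank_eq
      rw [P.finrank, Module.finrank_matrix, Fintype.card_fin, Module.finrank_self, mul_one, sq] at h'
      exact (Nat.mul_self_inj.mp h').symm
    subst hnm
    let E : A ≃ₐ[k] Module.End k K := φ.trans (LinearMap.toMatrixAlgEquiv (Module.finBasis k K)).symm
    haveI : Algebra.IsCentral k (Module.End k K) := CSA.Splitting.isCentral_of_algEquiv E
    haveI : IsSimpleRing (Module.End k K) := IsSimpleRing.of_ringEquiv E.toRingEquiv inferInstance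
    obtain ⟨u, hu⟩ := CSA.SkolemNoether.skolemNoether (k := k) (E.toAlgHom.comp P.ι) reg
    let y' : Module.End k K := u * E (P.y : A) * ↑u⁻¹
    have hrel : ∀ z, reg z * y' = y' * reg (σ z) := fun z => by
      rw [hu, hu]
      simp only [y', AlgHom.comp_apply, mul_assoc, Units.inv_mul_cancel_left]
      show (u : Module.End k K) * (E (P.ι z) * (E _ * _)) = u * (E _ * (E (P.ι (σ z)) * _))
      rw [← mul_assoc (E (P.ι z)), ← map_mul, P.rel, map_mul, mul_assoc]
    have hpow : y' ^ m = algebraMap k (Module.End k K) b := by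
      show ((u : Module.End k K) * E (P.y : A) * ↑u⁻¹) ^ m = _
      rw [Units.conj_pow, ← map_pow, P.pow, AlgEquiv.commutes, ← Algebra.commutes, mul_assoc,
        Units.mul_inv, mul_one]
    have hy : y' = T (y' 1) := LinearMap.ext fun t => by
      have h1 := LinearMap.congr_fun (hrel (σ.symm t)) 1
      rw [AlgEquiv.apply_symm_apply] at h1
      rw [hT]
      calc y' t = y' (reg t 1) := by simp [reg]
        _ = reg (σ.symm t) (y' 1) := h1.symm
        _ = _ := by simp [reg, mul_comm]
    refine ⟨y' 1, ?_⟩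
    have h2 := hnorm (y' 1)
    rw [← hy, hpow] at h2
    exact ((algebraMap k (Module.End k K)).injective h2).symm
  · rintro ⟨c, rfl⟩
    obtain ⟨f, -, -⟩ := P.exists_hom hord reg (T c) (hTrel c) (hnorm c)
    haveI : Nontrivial (Module.End k K) := inferInstance
    exact BEq.splits_iff.mpr ⟨m, Module.finrank_pos.ne',
      ⟨(AlgEquiv.ofBijective f (CSA.Splitting.bijective_of_simple f hdim)).trans
        (LinearMap.toMatrixAlgEquiv (Module.finBasis k K))⟩⟩

/-- Tensor powers of cyclic algebras. -/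
theorem tpow_beq {b : k} (hb : b ≠ 0) {A : Type w} [Ring A] [Algebra k A] (P : Pres σ b A) (e : ℕ) :
    BEq k (CSAGal.tpow k A e) (fixedAlg σ (b ^ e)) := by
  induction e with
  | zero =>
    obtain ⟨Q⟩ := pres_exists σ (b ^ 0) hgen (pow_ne_zero 0 hb)
    have hs : Curves.Splits k (fixedAlg σ (b ^ 0)) k :=
      (splits_iff_norm hgen Q).mpr ⟨1, by rw [map_one, pow_zero]⟩
    exact (of_algEquiv (TPow.tpowZero k A)).trans (of_splits hs).symm
  | succ e ih =>
    obtain ⟨Q⟩ := pres_exists σ (b ^ e) hgen (pow_ne_zero e hb)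
    obtain ⟨Q'⟩ := pres_exists σ (b ^ (e + 1)) hgen (pow_ne_zero _ hb)
    have Q'' : Pres σ (b ^ e * b) (fixedAlg σ (b ^ (e + 1))) :=
      ⟨Q'.ι, Q'.y, Q'.rel, by rw [Q'.pow, pow_succ], Q'.finrank⟩
    exact (of_algEquiv (TPow.tpowSucc k A e)).trans ((ih.tensor refl).trans (beq_mul hgen Q P Q''))

theorem splits_tpow_iff_norm {b : k} (hb : b ≠ 0) {A : Type w} [Ring A] [Algebra k A] (P : Pres σ b A)
    (e : ℕ) : Curves.Splits k (CSAGal.tpow k A e) k ↔ ∃ c : K, Algebra.norm k c = b ^ e := by
  obtain ⟨_, _, _⟩ := isCSA hgen P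
  obtain ⟨Q⟩ := pres_exists σ (b ^ e) hgen (pow_ne_zero e hb)
  obtain ⟨_, _, _⟩ := isCSA hgen Q
  rw [← splits_iff_norm hgen Q, Index.splits_tpow_iff]
  exact ⟨fun h => splits_of_beq_base ((tpow_beq hgen hb P e).symm.trans h),
    fun h => (tpow_beq hgen hb P e).trans (of_splits h)⟩

end Groth.Agent.Lib.Brauer.CyclicMul
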