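import Groth.Agent.Lib.Brauer.Index
import Groth.Agent.Lib.CSA.SkolemNoether
import Groth.Prelude.Def_GSzCSA
import Mathlib.FieldTheory.Galois.Basic
import Mathlib.RingTheory.Norm.Transitivity
import Mathlib.GroupTheory.OrderOfElement
import Mathlib.RingTheory.Flat.Basic
import Mathlib.FieldTheory.Fixed

/-!
# Cyclic algebras
-/

namespace Groth.Agent.Lib.Brauer.Cyclic

set_option linter.style.haveILetI false

open scoped TensorProduct
open Groth.Agent.Lib Groth.Agent.Lib.Brauer.BEq

universe u v w x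

variable {k : Type u} [Field k] {K : Type v} [Field K] [Algebra k K]

section Rel

variable {A : Type w} [Ring A] [Algebra k A] {σ : K ≃ₐ[k] K} {ι : K →ₐ[k] A} {y : Aˣ}

theorem rel_pow (hrel : ∀ z, ι z * y = y * ι (σ z)) (i : ℕ) (z : K) :
    ι z * (y : A) ^ i = (y : A) ^ i * ι ((σ ^ i) z) := by
  induction i with
  | zero => simp
  | succ i ih =>
    rw [pow_succ (y : A), ← mul_assoc, ih, mul_assoc, hrel, ← mul_assoc, ← AlgEquiv.mul_apply,
      ← pow_succ' σ]

variable (ι y) in
/-- The evaluation of a tuple of coefficients. -/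
noncomputable def eval (m : ℕ) : (Fin m → K) →ₗ[k] A :=
  ∑ i : Fin m, (LinearMap.mulLeft k ((y : A) ^ (i : ℕ))).comp
    (ι.toLinearMap.comp (LinearMap.proj i))

theorem eval_apply {m : ℕ} (c : Fin m → K) :
    eval ι y m c = ∑ i : Fin m, (y : A) ^ (i : ℕ) * ι (c i) := by
  simp [eval, LinearMap.sum_apply]

/-- The key lemma: an ideal containing a nonzero value contains one. -/
theorem one_mem_of_eval_mem (hrel : ∀ z, ι z * y = y * ι (σ z)) {m : ℕ}
    (hinj : ∀ i j : Fin m, σ ^ (i : ℕ) = σ ^ (j : ℕ) → i = j) (I : TwoSidedIdeal A)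
    (c : Fin m → K) (hc : c ≠ 0) (hI : eval ι y m c ∈ I) : (1 : A) ∈ I := by
  classical
  induction hn : (Finset.univ.filter fun i => c i ≠ 0).card using Nat.strong_induction_on
    generalizing c with
  | _ n ih =>
    subst hn
    obtain ⟨i₀, hi₀⟩ := Function.ne_iff.mp hc
    by_cases hone : ∀ i, i ≠ i₀ → c i = 0
    · rw [eval_apply, Finset.sum_eq_single i₀ (fun i _ hi => by rw [hone i hi, map_zero, mul_zero])
        (fun h => absurd (Finset.mem_univ i₀) h)] at hI
      have hu : IsUnit ((y : A) ^ (i₀ : ℕ) * ι (c i₀)) :=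
        (y.isUnit.pow _).mul ((isUnit_iff_ne_zero.mpr hi₀).map ι)
      have h := I.mul_mem_left (↑hu.unit⁻¹ : A) _ hI
      rwa [IsUnit.val_inv_mul] at h
    push_neg at hone
    obtain ⟨i₁, hne, hi₁⟩ := hone
    obtain ⟨z, hz⟩ : ∃ z, (σ ^ (i₁ : ℕ)) z ≠ (σ ^ (i₀ : ℕ)) z := by
      by_contra h
      push_neg at h
      exact hne (hinj _ _ (AlgEquiv.ext h))
    let d : Fin m → K := fun i => ((σ ^ (i : ℕ)) z - (σ ^ (i₀ : ℕ)) z) * c i
    refine ih _ ?_ d ?_ ?_ rfl
    · refine Finset.card_lt_card ⟨fun i hi => ?_, fun h => ?_⟩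
      · simp only [Finset.mem_filter, d] at hi ⊢
        exact ⟨hi.1, right_ne_zero_of_mul hi.2⟩
      · have := h (Finset.mem_filter.mpr ⟨Finset.mem_univ i₀, hi₀⟩)
        simp [d] at this
    · exact Function.ne_iff.mpr ⟨i₁, mul_ne_zero (sub_ne_zero.mpr hz) hi₁⟩
    · have : eval ι y m d = ι z * eval ι y m c - eval ι y m c * ι ((σ ^ (i₀ : ℕ)) z) := by
        simp only [eval_apply, Finset.mul_sum, Finset.sum_mul, ← Finset.sum_sub_distrib]
        refine Finset.sum_congr rfl fun i _ => ?_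
        rw [← mul_assoc, rel_pow hrel, mul_assoc, mul_assoc, ← map_mul, ← map_mul, ← mul_sub,
          ← map_sub]
        simp only [d]
        ring_nf
      rw [this]
      exact I.sub_mem (I.mul_mem_left _ _ hI) (I.mul_mem_right _ _ hI)

theorem eval_injective [Nontrivial A] (hrel : ∀ z, ι z * y = y * ι (σ z)) {m : ℕ}
    (hinj : ∀ i j : Fin m, σ ^ (i : ℕ) = σ ^ (j : ℕ) → i = j) :
    Function.Injective (eval ι y m) := by
  rw [← LinearMap.ker_eq_bot, eq_bot_iff]
  intro c hc
  rw [Submodule.mem_bot]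
  by_contra h
  exact one_ne_zero ((TwoSidedIdeal.mem_bot A).mp (one_mem_of_eval_mem hrel hinj ⊥ c h
    ((TwoSidedIdeal.mem_bot A).mpr hc)))

end Rel

/-- A presentation as a cyclic algebra. -/
structure Pres (σ : K ≃ₐ[k] K) (b : k) (A : Type w) [Ring A] [Algebra k A] where
  /-- The embedding. -/
  ι : K →ₐ[k] A
  /-- The generator. -/
  y : Aˣ
  rel : ∀ z, ι z * (y : A) = (y : A) * ι (σ z)
  pow : (y : A) ^ Module.finrank k K = algebraMap k A b
  finrank : Module.finrank k A = Module.finrank k K ^ 2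

variable [FiniteDimensional k K]

theorem nonempty_pres {σ : K ≃ₐ[k] K} {b : kˣ} {A : Type w} [Ring A] [Algebra k A]
    (h : CSAGal.IsCyclicAlg k K σ b A) : Nonempty (Pres σ (b : k) A) := by
  obtain ⟨ι, y, hy, hrel, -, hpos, hdim⟩ := h
  have hu : IsUnit y := (isUnit_pow_iff hpos.ne').mp (hy ▸ (b.isUnit.map (algebraMap k A)))
  exact ⟨⟨ι, hu.unit, hrel, hy, hdim⟩⟩

namespace Pres

variable {σ : K ≃ₐ[k] K} {b : k} {A : Type w} [Ring A] [Algebra k A] (P : Pres σ b A)

include P

theorem finrank_pos : 0 < Module.finrank k A := by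
  rw [P.finrank]; exact pow_pos Module.finrank_pos 2

theorem nontrivial : Nontrivial A := Module.nontrivial_of_finrank_pos P.finrank_pos

theorem finite : FiniteDimensional k A := Module.finite_of_finrank_pos P.finrank_pos

variable (hσ : orderOf σ = Module.finrank k K)
include hσ

theorem pow_inj (i j : Fin (Module.finrank k K)) (h : σ ^ (i : ℕ) = σ ^ (j : ℕ)) : i = j :=
  Fin.ext (pow_injOn_Iio_orderOf (by simp [hσ]) (by simp [hσ]) h)

theorem eval_bijective : Function.Bijective (eval P.ι P.y (Module.finrank k K)) := by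
  haveI := P.nontrivial
  haveI := P.finite
  have hinj := eval_injective P.rel (P.pow_inj hσ)
  refine ⟨hinj, (LinearMap.injective_iff_surjective_of_finrank_eq_finrank ?_).mp hinj⟩
  rw [Module.finrank_pi_fintype, P.finrank]
  simp [sq]

theorem adjoin_eq_top : Algebra.adjoin k (Set.range P.ι ∪ {(P.y : A)}) = ⊤ := by
  rw [eq_top_iff]
  intro a _
  obtain ⟨c, rfl⟩ := (P.eval_bijective hσ).2 a
  rw [eval_apply]
  refine sum_mem fun i _ => mul_mem (pow_mem ?_ _) ?_
  · exact Algebra.subset_adjoin (Or.inr rfl)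
  · exact Algebra.subset_adjoin (Or.inl ⟨_, rfl⟩)

theorem isSimpleRing : IsSimpleRing A := by
  haveI := P.nontrivial
  refine IsSimpleRing.of_eq_bot_or_eq_top fun I => or_iff_not_imp_left.mpr fun hne => ?_
  obtain ⟨a, ha, ha0⟩ : ∃ a ∈ I, a ≠ 0 := by
    by_contra h
    push_neg at h
    exact hne (eq_bot_iff.mpr fun a ha => (TwoSidedIdeal.mem_bot A).mpr (h a ha))
  obtain ⟨c, rfl⟩ := (P.eval_bijective hσ).2 a
  exact (I.one_mem_iff).mp (one_mem_of_eval_mem P.rel (P.pow_inj hσ) I c
    (fun h => ha0 (by rw [h, map_zero])) ha)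

theorem isCentral [IsGalois k K] (hgen : ∀ τ : K ≃ₐ[k] K, τ ∈ Subgroup.zpowers σ) :
    Algebra.IsCentral k A := by
  haveI : NeZero (Module.finrank k K) := ⟨Module.finrank_pos.ne'⟩
  refine ⟨fun a ha => ?_⟩
  rw [Subalgebra.mem_center_iff] at ha
  obtain ⟨c, rfl⟩ := (P.eval_bijective hσ).2 a
  have hc : ∀ i : Fin (Module.finrank k K), i ≠ 0 → c i = 0 := fun i hi => by
    obtain ⟨z, hz⟩ : ∃ z, (σ ^ (i : ℕ)) z ≠ z := by
      by_contra h
      push_neg at h
      exact hi (P.pow_inj hσ i 0 (AlgEquiv.ext (by simpa using h)))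
    have h : eval P.ι P.y _ (fun j => ((σ ^ (j : ℕ)) z - z) * c j) = 0 := by
      rw [← sub_eq_zero.mpr (ha (P.ι z))]
      simp only [eval_apply, Finset.mul_sum, Finset.sum_mul, ← Finset.sum_sub_distrib]
      refine Finset.sum_congr rfl fun j _ => ?_
      rw [← mul_assoc, rel_pow P.rel, mul_assoc, mul_assoc, ← map_mul, ← map_mul, ← mul_sub,
        ← map_sub]
      ring_nf
    have := congrFun ((map_eq_zero_iff _ (P.eval_bijective hσ).1).mp h) i
    exact (mul_eq_zero.mp this).resolve_left (sub_ne_zero.mpr hz)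
  have hev : eval P.ι P.y _ c = P.ι (c 0) := by
    rw [eval_apply, Finset.sum_eq_single 0 (fun i _ hi => by rw [hc i hi, map_zero, mul_zero])
      (fun h => absurd (Finset.mem_univ 0) h)]
    simp
  have hfix : σ (c 0) = c 0 := by
    haveI := P.nontrivial
    have h := ha P.y
    rw [hev, P.rel, P.y.isUnit.mul_right_inj] at h
    exact (P.ι.toRingHom.injective h).symm
  rw [hev]
  obtain ⟨r, hr⟩ : c 0 ∈ Set.range (algebraMap k K) := by
    rw [IsGalois.mem_range_algebraMap_iff_fixed]
    intro τ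
    have hmem : σ ∈ MulAction.stabilizer (K ≃ₐ[k] K) (c 0) := hfix
    exact (Subgroup.zpowers_le.mpr hmem (hgen τ) : _)
  rw [← hr, P.ι.commutes]
  exact Subalgebra.algebraMap_mem _ r

theorem isCyclicAlg (b' : kˣ) (hb : b = b') : CSAGal.IsCyclicAlg k K σ b' A :=
  ⟨P.ι, P.y, hb ▸ P.pow, P.rel, P.adjoin_eq_top hσ, Module.finrank_pos, P.finrank⟩

theorem splits [IsGalois k K] (hgen : ∀ τ : K ≃ₐ[k] K, τ ∈ Subgroup.zpowers σ) : Curves.Splits k A K := by
  haveI := P.isCentral hσ hgen
  haveI := P.finite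
  haveI := P.nontrivial
  letI : Module K A := Module.compHom A ((RingHom.op P.ι.toRingHom).comp (RingEquiv.toOpposite K).toRingHom)
  have hmod : ∀ (l : K) (a : A), l • a = a * P.ι l := fun _ _ => rfl
  haveI := CSA.Splitting.tower_of_mod (k := k) P.ι hmod
  haveI := P.isSimpleRing hσ
  have hdim : Module.finrank K A = Module.finrank k K := by
    have h := Module.finrank_mul_finrank k K A
    rw [P.finrank, sq] at h
    exact Nat.eq_of_mul_eq_mul_left Module.finrank_pos h
  obtain ⟨g⟩ := CSA.Splitting.exists_regular_equiv P.ι hmod P.ι.toRingHom.injective hdim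
  exact ⟨_, Module.finrank_pos.ne', ⟨g⟩⟩

/-- The universal property. -/
theorem exists_hom {B : Type x} [Ring B] [Algebra k B] (ι' : K →ₐ[k] B) (y' : B)
    (hrel : ∀ z, ι' z * y' = y' * ι' (σ z)) (hpow : y' ^ Module.finrank k K = algebraMap k B b) :
    ∃ f : A →ₐ[k] B, (∀ z, f (P.ι z) = ι' z) ∧ f P.y = y' := by
  classical
  set m := Module.finrank k K
  haveI : NeZero m := ⟨Module.finrank_pos.ne'⟩
  let e := LinearEquiv.ofBijective _ (P.eval_bijective hσ)
  let Ψ : (Fin m → K) →ₗ[k] B := ∑ i : Fin m, (LinearMap.mulLeft k (y' ^ (i : ℕ))).comp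
    (ι'.toLinearMap.comp (LinearMap.proj i))
  let L : A →ₗ[k] B := Ψ.comp e.symm.toLinearMap
  have hL : ∀ (j : Fin m) (z : K), L ((P.y : A) ^ (j : ℕ) * P.ι z) = y' ^ (j : ℕ) * ι' z := by
    intro j z
    have h : e (Pi.single j z) = (P.y : A) ^ (j : ℕ) * P.ι z := by
      show eval P.ι P.y m (Pi.single j z) = _
      rw [eval_apply, Finset.sum_eq_single j (fun i _ hi => by simp [hi])
        (fun h => absurd (Finset.mem_univ j) h), Pi.single_eq_same]
    rw [← h]
    show Ψ (e.symm (e (Pi.single j z))) = _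
    rw [e.symm_apply_apply]
    simp only [Ψ, LinearMap.sum_apply, LinearMap.comp_apply, LinearMap.mulLeft_apply,
      LinearMap.proj_apply, AlgHom.toLinearMap_apply]
    rw [Finset.sum_eq_single j (fun i _ hi => by simp [hi])
      (fun h => absurd (Finset.mem_univ j) h), Pi.single_eq_same]
  have hL' : ∀ (i : ℕ) (z : K), L ((P.y : A) ^ i * P.ι z) = y' ^ i * ι' z := by
    intro i z
    have hq := Nat.div_add_mod i m
    rw [← hq, pow_add, pow_add, pow_mul, pow_mul, P.pow, hpow, ← map_pow, ← map_pow,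
      ← Algebra.smul_def, ← Algebra.smul_def, smul_mul_assoc, smul_mul_assoc, map_smul,
      hL ⟨i % m, Nat.mod_lt _ (NeZero.pos m)⟩ z]
  have hone : L 1 = 1 := by simpa using hL' 0 1
  have hmul : ∀ a a' : A, L (a * a') = L a * L a' := by
    have h1 : ∀ (i j : ℕ) (z z' : K), L ((P.y : A) ^ i * P.ι z * ((P.y : A) ^ j * P.ι z')) =
        L ((P.y : A) ^ i * P.ι z) * L ((P.y : A) ^ j * P.ι z') := by
      intro i j z z'
      have hrel' : ι' z * y' ^ j = y' ^ j * ι' ((σ ^ j) z) := by
        induction j with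
        | zero => simp
        | succ j ih =>
          rw [pow_succ y', ← mul_assoc, ih, mul_assoc, hrel, ← mul_assoc, ← AlgEquiv.mul_apply,
            ← pow_succ' σ]
      rw [hL', hL', mul_assoc ((P.y : A) ^ i), ← mul_assoc (P.ι z), rel_pow P.rel,
        mul_assoc ((P.y : A) ^ j), ← map_mul, ← mul_assoc, ← pow_add, hL', mul_assoc (y' ^ i),
        ← mul_assoc (ι' z), hrel', mul_assoc (y' ^ j), ← map_mul, ← mul_assoc, ← pow_add]
    intro a a'
    obtain ⟨c, rfl⟩ := (P.eval_bijective hσ).2 a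
    obtain ⟨c', rfl⟩ := (P.eval_bijective hσ).2 a'
    simp only [eval_apply, Finset.sum_mul, Finset.mul_sum, map_sum, h1]
  refine ⟨AlgHom.ofLinearMap L hone hmul, fun z => ?_, ?_⟩
  · simpa using hL' 0 z
  · simpa using hL' 1 1

end Pres

theorem orderOf_eq [IsGalois k K] {σ : K ≃ₐ[k] K}
    (hgen : ∀ τ : K ≃ₐ[k] K, τ ∈ Subgroup.zpowers σ) : orderOf σ = Module.finrank k K := by
  rw [← IsGalois.card_aut_eq_finrank, ← Nat.card_zpowers]
  rw [show Subgroup.zpowers σ = ⊤ from eq_top_iff.mpr fun τ _ => hgen τ, Subgroup.card_top]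

theorem isCSA [IsGalois k K] {σ : K ≃ₐ[k] K} (hgen : ∀ τ : K ≃ₐ[k] K, τ ∈ Subgroup.zpowers σ)
    {b : k} {A : Type w} [Ring A] [Algebra k A] (P : Pres σ b A) :
    Algebra.IsCentral k A ∧ IsSimpleRing A ∧ FiniteDimensional k A :=
  ⟨P.isCentral (orderOf_eq hgen) hgen, P.isSimpleRing (orderOf_eq hgen), P.finite⟩

section Existence

variable (σ : K ≃ₐ[k] K) (b : k)

/-- The companion matrix. -/
noncomputable def F : Matrix (Fin (Module.finrank k K)) (Fin (Module.finrank k K)) K :=
  Matrix.of fun i j =>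
    if j.val + 1 = i.val then (1 : K)
    else if i.val = 0 ∧ j.val + 1 = Module.finrank k K then algebraMap k K b else 0

/-- The fixed subalgebra. -/
noncomputable def fixedAlg : Subalgebra k (Matrix (Fin (Module.finrank k K)) (Fin (Module.finrank k K)) K) where
  carrier := {M | F (K := K) b * σ.toAlgHom.mapMatrix M = M * F (K := K) b}
  mul_mem' {M N} hM hN := by
    show F (K := K) b * σ.toAlgHom.mapMatrix (M * N) = M * N * F (K := K) b
    rw [map_mul, ← mul_assoc, hM, mul_assoc, hN, mul_assoc]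
  one_mem' := by show F (K := K) b * σ.toAlgHom.mapMatrix 1 = 1 * F (K := K) b; rw [map_one, mul_one, one_mul]
  add_mem' {M N} hM hN := by
    show F (K := K) b * σ.toAlgHom.mapMatrix (M + N) = (M + N) * F (K := K) b
    rw [map_add, mul_add, add_mul, hM, hN]
  zero_mem' := by show F (K := K) b * σ.toAlgHom.mapMatrix 0 = 0 * F (K := K) b; rw [map_zero, mul_zero, zero_mul]
  algebraMap_mem' r := by
    show F (K := K) b * σ.toAlgHom.mapMatrix (algebraMap k _ r) = algebraMap k _ r * F (K := K) b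
    rw [AlgHom.commutes, Algebra.commutes]

theorem F_apply (i j : Fin (Module.finrank k K)) : F (K := K) b i j =
    if j.val + 1 = i.val then (1 : K)
    else if i.val = 0 ∧ j.val + 1 = Module.finrank k K then algebraMap k K b else 0 := rfl

theorem map_F : σ.toAlgHom.mapMatrix (F (K := K) b) = F (K := K) b := by
  ext i j
  rw [AlgHom.mapMatrix_apply, Matrix.map_apply, F_apply]
  split_ifs <;> simp

/-- The twisted diagonal embedding. -/
noncomputable def diag : K →ₐ[k] Matrix (Fin (Module.finrank k K)) (Fin (Module.finrank k K)) K :=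
  (Matrix.diagonalAlgHom k).comp (AlgHom.pi fun i : Fin (Module.finrank k K) => (σ ^ (i : ℕ) : K ≃ₐ[k] K).toAlgHom)

theorem diag_apply (z : K) :
    diag σ z = Matrix.diagonal fun i : Fin (Module.finrank k K) => (σ ^ (i : ℕ)) z := rfl

theorem pres_exists [IsGalois k K] (hgen : ∀ τ : K ≃ₐ[k] K, τ ∈ Subgroup.zpowers σ) (hb : b ≠ 0) :
    Nonempty (Pres σ b (fixedAlg σ b)) := by
  classical
  have hord := orderOf_eq hgen
  have hσm : σ ^ Module.finrank k K = 1 := by rw [← hord]; exact pow_orderOf_eq_one σ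
  set m := Module.finrank k K with hm
  haveI : NeZero m := ⟨Module.finrank_pos.ne'⟩
  have hrel : ∀ z, diag σ z * F (K := K) b = F (K := K) b * diag σ (σ z) := fun z => by
    ext i j
    rw [diag_apply, diag_apply, Matrix.diagonal_mul, Matrix.mul_diagonal, F_apply,
      ← AlgEquiv.mul_apply, ← pow_succ]
    split_ifs with h h'
    · rw [h, one_mul, mul_one]
    · rw [h'.1, h'.2, pow_zero, mul_comm]
      exact congrArg _ (AlgEquiv.congr_fun hσm z).symm
    · simp
  have hι : ∀ z, diag σ z ∈ fixedAlg σ b := fun z => by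
    show F (K := K) b * σ.toAlgHom.mapMatrix (diag σ z) = diag σ z * F (K := K) b
    rw [hrel]
    congr 1
    rw [diag_apply, diag_apply, AlgHom.mapMatrix_apply, Matrix.diagonal_map (map_zero _)]
    congr 1
    funext i
    show σ ((σ ^ (i : ℕ)) z) = (σ ^ (i : ℕ)) (σ z)
    rw [← AlgEquiv.mul_apply, ← AlgEquiv.mul_apply, ← pow_succ', pow_succ]
  have hF : F (K := K) b ∈ fixedAlg σ b := by
    show F (K := K) b * σ.toAlgHom.mapMatrix (F (K := K) b) = F (K := K) b * F (K := K) b
    rw [map_F]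
  -- powers of the companion matrix
  have hcol : ∀ t : ℕ, ∀ ht : t < m,
      (F (K := K) b ^ t).mulVec (Pi.single 0 1) = Pi.single ⟨t, ht⟩ 1 := by
    intro t
    induction t with
    | zero => intro ht; rw [pow_zero, Matrix.one_mulVec]; rfl
    | succ t ih =>
      intro ht
      rw [pow_succ', ← Matrix.mulVec_mulVec, ih (Nat.lt_of_succ_lt ht), Matrix.mulVec_single_one]
      funext i
      show F (K := K) b i ⟨t, _⟩ = _
      rw [F_apply, Pi.single_apply]
      rcases eq_or_ne i ⟨t + 1, ht⟩ with h | h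
      · subst h; simp
      · rw [if_neg (fun h' => h (Fin.ext h'.symm)), if_neg (fun h' => by simp at h'; omega), if_neg h]
  have hm0 : (F (K := K) b ^ m).mulVec (Pi.single 0 1) = algebraMap k K b • Pi.single 0 1 := by
    obtain ⟨t, ht⟩ : ∃ t, m = t + 1 := ⟨m - 1, by have := NeZero.ne m; omega⟩
    conv_lhs => rw [ht, pow_succ', ← Matrix.mulVec_mulVec, hcol t (by omega), Matrix.mulVec_single_one]
    funext i
    show F (K := K) b i ⟨t, _⟩ = _
    rw [F_apply, Pi.smul_apply, Pi.single_apply]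
    rcases eq_or_ne i 0 with h | h
    · subst h; simp [← hm, ht]
    · rw [if_neg (fun h' => by have := i.isLt; simp at h'; omega),
        if_neg (fun h' => h (Fin.ext h'.1)), if_neg h, smul_zero]
  have hpow : F (K := K) b ^ m = algebraMap k _ b := by
    refine Matrix.ext_of_mulVec_single fun j => ?_
    rw [show (Pi.single j 1 : Fin m → K) = (F (K := K) b ^ (j : ℕ)).mulVec (Pi.single 0 1) from
      (hcol j j.isLt).symm, Matrix.mulVec_mulVec, Matrix.mulVec_mulVec, Algebra.commutes,
      ← pow_add, add_comm, pow_add, ← Matrix.mulVec_mulVec, hm0, Matrix.mulVec_smul,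
      ← Matrix.mulVec_mulVec, IsScalarTower.algebraMap_apply k K (Matrix (Fin m) (Fin m) K),
      Algebra.algebraMap_eq_smul_one (R := K) (A := Matrix (Fin m) (Fin m) K),
      Matrix.smul_mulVec, Matrix.one_mulVec, Matrix.mulVec_smul]
  let y₀ : fixedAlg σ b := ⟨F (K := K) b, hF⟩
  let ι : K →ₐ[k] fixedAlg σ b := (diag σ).codRestrict _ hι
  have hpow' : y₀ ^ m = algebraMap k (fixedAlg σ b) b := Subtype.ext hpow
  have hu : IsUnit y₀ := (isUnit_pow_iff (NeZero.ne m)).mp
    (hpow' ▸ (isUnit_iff_ne_zero.mpr hb).map (algebraMap k (fixedAlg σ b)))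
  have hrel' : ∀ z, ι z * hu.unit = hu.unit * ι (σ z) := fun z => Subtype.ext (hrel z)
  haveI : FiniteDimensional k (fixedAlg σ b) := inferInstance
  refine ⟨⟨ι, hu.unit, hrel', hpow', le_antisymm ?_ ?_⟩⟩
  · let c : fixedAlg σ b →ₗ[k] (Fin m → K) :=
      { toFun := fun M i => M.1 i 0
        map_add' := fun _ _ => rfl
        map_smul' := fun _ _ => rfl }
    have hc : Function.Injective c := by
      rw [← LinearMap.ker_eq_bot, eq_bot_iff]
      intro M hM
      rw [Submodule.mem_bot]
      have key : ∀ t : ℕ, ∀ ht : t < m, ∀ i, M.1 i ⟨t, ht⟩ = 0 := by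
        intro t
        induction t with
        | zero => intro ht i; exact congrFun hM i
        | succ t ih =>
          intro ht i
          have h : (F (K := K) b * σ.toAlgHom.mapMatrix M.1) i ⟨t, Nat.lt_of_succ_lt ht⟩ =
              (M.1 * F (K := K) b) i ⟨t, Nat.lt_of_succ_lt ht⟩ := by rw [M.2]
          rw [Matrix.mul_apply, Matrix.mul_apply, Finset.sum_eq_zero (fun l _ => by
              rw [AlgHom.mapMatrix_apply, Matrix.map_apply, ih, map_zero, mul_zero]),
            Finset.sum_eq_single ⟨t + 1, ht⟩ (fun l _ hl => by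
              rw [F_apply, if_neg (fun h' => hl (Fin.ext h'.symm)),
                if_neg (fun h' => by simp at h'; omega), mul_zero])
              (fun h => absurd (Finset.mem_univ _) h), F_apply, if_pos rfl, mul_one] at h
          exact h.symm
      exact Subtype.ext (Matrix.ext fun i j => key j.1 j.2 i)
    refine (LinearMap.finrank_le_finrank_of_injective hc).trans_eq ?_
    rw [Module.finrank_pi_fintype]; simp [m, sq]
  · have hinj : ∀ i j : Fin m, σ ^ (i : ℕ) = σ ^ (j : ℕ) → i = j := fun i j h =>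
      Fin.ext (pow_injOn_Iio_orderOf (by simp [hord, ← hm]) (by simp [hord, ← hm]) h)
    refine Eq.trans_le ?_ (LinearMap.finrank_le_finrank_of_injective (eval_injective hrel' hinj))
    rw [Module.finrank_pi_fintype]; simp [m, sq]

end Existence

end Groth.Agent.Lib.Brauer.Cyclic
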