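import Groth.Prelude.Def_GSzCSA
import Mathlib.LinearAlgebra.PiTensorProduct.Basic
import Mathlib.RingTheory.PiTensorProduct
import Mathlib.RingTheory.TensorProduct.Maps

/-!
# Algebra equivalences between iterated tensor products
-/

namespace Groth.Agent.Lib.Brauer.TPow

open scoped TensorProduct
open PiTensorProduct

universe u v w

section general

variable {k : Type u} [CommRing k]

/-- A tensor product of two families is the tensor product over the sum type. -/
noncomputable def sumEquiv {ι ι' : Type*} (A : ι ⊕ ι' → Type v) [∀ i, Ring (A i)]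
    [∀ i, Algebra k (A i)] :
    ((⨂[k] i, A (.inl i)) ⊗[k] (⨂[k] j, A (.inr j))) ≃ₐ[k] ⨂[k] i, A i :=
  AlgEquiv.ofLinearEquiv (tmulEquivDep k A)
    (by
      show tmulEquivDep k A ((tprod k (1 : Π i, A (.inl i))) ⊗ₜ (tprod k (1 : Π j, A (.inr j)))) = 1
      rw [tmulEquivDep_apply, one_def]
      congr 1
      funext i
      cases i <;> rfl)
    (by
      refine (LinearMap.map_mul_iff (tmulEquivDep k A).toLinearMap).mpr ?_
      ext a b a' b'
      simp only [LinearMap.compMultilinearMap_apply, LinearMap.compl₂_apply,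
        TensorProduct.AlgebraTensorModule.curry_apply, LinearMap.restrictScalars_self,
        TensorProduct.curry_apply, LinearMap.compr₂_apply, LinearMap.mul_apply', LinearMap.coe_comp,
        Function.comp_apply, LinearEquiv.coe_coe, Algebra.TensorProduct.tmul_mul_tmul,
        tprod_mul_tprod, tmulEquivDep_apply]
      congr 1
      funext i
      cases i <;> rfl)

/-- The tensor product does not depend on the indexing. -/
noncomputable def reindexEquiv {ι ι' : Type*} (A : ι → Type v) [∀ i, Ring (A i)]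
    [∀ i, Algebra k (A i)] (e : ι ≃ ι') :
    (⨂[k] i, A i) ≃ₐ[k] ⨂[k] j, A (e.symm j) :=
  AlgEquiv.ofLinearEquiv (reindex k A e)
    (by rw [one_def, reindex_tprod]; rfl)
    (by
      refine (LinearMap.map_mul_iff (reindex k A e).toLinearMap).mpr ?_
      ext a b
      simp [tprod_mul_tprod]
      rfl)

/-- Factorwise algebra equivalences. -/
noncomputable def congrEquiv {ι : Type*} {A : ι → Type v} [∀ i, Ring (A i)] [∀ i, Algebra k (A i)]
    {B : ι → Type w} [∀ i, Ring (B i)] [∀ i, Algebra k (B i)] (e : ∀ i, A i ≃ₐ[k] B i) :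
    (⨂[k] i, A i) ≃ₐ[k] ⨂[k] i, B i :=
  AlgEquiv.ofLinearEquiv (PiTensorProduct.congr fun i => (e i).toLinearEquiv)
    (by rw [one_def, congr_tprod, one_def]; simp; rfl)
    (by
      refine (LinearMap.map_mul_iff (PiTensorProduct.congr fun i => (e i).toLinearEquiv).toLinearMap).mpr ?_
      ext a b
      simp [tprod_mul_tprod]
      rfl)

/-- The empty tensor product is the base. -/
noncomputable def emptyEquiv {ι : Type*} [IsEmpty ι] (A : ι → Type v) [∀ i, Ring (A i)]
    [∀ i, Algebra k (A i)] : (⨂[k] i, A i) ≃ₐ[k] k :=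
  AlgEquiv.ofLinearEquiv (isEmptyEquiv ι)
    (by rw [one_def, isEmptyEquiv_apply_tprod])
    (by
      refine (LinearMap.map_mul_iff (isEmptyEquiv (R := k) (s := A) ι).toLinearMap).mpr ?_
      ext a b
      simp [tprod_mul_tprod])

/-- A tensor product over one index. -/
noncomputable def uniqueEquiv {ι : Type*} [Subsingleton ι] (i₀ : ι) (A : ι → Type v)
    [∀ i, Ring (A i)] [∀ i, Algebra k (A i)] : (⨂[k] i, A i) ≃ₐ[k] A i₀ :=
  AlgEquiv.ofLinearEquiv (subsingletonEquiv i₀)
    (by rw [one_def, subsingletonEquiv_apply_tprod]; rfl)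
    (by
      refine (LinearMap.map_mul_iff (subsingletonEquiv (R := k) (s := A) i₀).toLinearMap).mpr ?_
      ext a b
      simp [tprod_mul_tprod])

/-- Constant families with equivalent index types. -/
noncomputable def reindexConst {ι ι' : Type*} (A : Type v) [Ring A] [Algebra k A] (e : ι ≃ ι') :
    (⨂[k] _ : ι, A) ≃ₐ[k] ⨂[k] _ : ι', A :=
  reindexEquiv (fun _ => A) e

end general

section tpow

variable (k : Type u) [Field k] (A : Type v) [Ring A] [Algebra k A]

/-- Zeroth tensor power. -/
noncomputable def tpowZero : CSAGal.tpow k A 0 ≃ₐ[k] k := emptyEquiv _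

/-- First tensor power. -/
noncomputable def tpowOne : CSAGal.tpow k A 1 ≃ₐ[k] A := uniqueEquiv 0 _

/-- Sums of exponents. -/
noncomputable def tpowAdd (a b : ℕ) :
    CSAGal.tpow k A a ⊗[k] CSAGal.tpow k A b ≃ₐ[k] CSAGal.tpow k A (a + b) :=
  (sumEquiv (k := k) (fun _ : Fin a ⊕ Fin b => A)).trans (reindexConst A finSumFinEquiv)

/-- Successor exponent. -/
noncomputable def tpowSucc (e : ℕ) :
    CSAGal.tpow k A (e + 1) ≃ₐ[k] CSAGal.tpow k A e ⊗[k] A :=
  (tpowAdd k A e 1).symm.trans (Algebra.TensorProduct.congr AlgEquiv.refl (tpowOne k A))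

variable {A}

/-- Isomorphic algebras have isomorphic powers. -/
noncomputable def tpowCongr {B : Type w} [Ring B] [Algebra k B] (e : A ≃ₐ[k] B) (n : ℕ) :
    CSAGal.tpow k A n ≃ₐ[k] CSAGal.tpow k B n :=
  congrEquiv fun _ => e

end tpow

end Groth.Agent.Lib.Brauer.TPow
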