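import Groth.Agent.Lib.Azumaya.Criterion
import Groth.Agent.Lib.CSA.Basic
import Mathlib.RingTheory.Finiteness.Descent
import Mathlib.RingTheory.Flat.EquationalCriterion
import Mathlib.RingTheory.Flat.FaithfullyFlat.Algebra
import Mathlib.Algebra.Module.FinitePresentation
import Mathlib.RingTheory.SimpleRing.Matrix
import Mathlib

/-! Basic permanence properties of Azumaya algebras. -/

set_option autoImplicit false
universe u v w z

open scoped TensorProduct

namespace Groth.Agent.Lib.Brauer.AzumayaBasics

open Groth.Agent.Lib.Azumaya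

variable (R : Type u) [CommRing R]

theorem tensor (A : Type v) [Ring A] [Algebra R A] [IsAzumaya R A]
    (B : Type w) [Ring B] [Algebra R B] [IsAzumaya R B] : IsAzumaya R (A ⊗[R] B) := by
  refine Criterion.isAzumaya_of_fibres _ fun m _ => ?_
  obtain ⟨hA, hA'⟩ := Criterion.central_simple_baseChange (R := R) A m.ResidueField
  obtain ⟨hB, hB'⟩ := Criterion.central_simple_baseChange (R := R) B m.ResidueField
  haveI := Groth.Agent.Lib.CSA.Simple.isSimpleRing_tensor m.ResidueField
    (m.ResidueField ⊗[R] A) (m.ResidueField ⊗[R] B)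
  haveI := Groth.Agent.Lib.CSA.Simple.isCentral_tensor m.ResidueField
    (m.ResidueField ⊗[R] A) (m.ResidueField ⊗[R] B)
  haveI := Groth.Agent.Lib.CSA.Basic.isAzumaya m.ResidueField
    ((m.ResidueField ⊗[R] A) ⊗[m.ResidueField] (m.ResidueField ⊗[R] B))
  let K := m.ResidueField
  let l := TensorProduct.AlgebraTensorModule.distribBaseChange R K A B
  have hmul : ∀ x y, l (x * y) = l x * l y :=
    LinearMap.map_mul_of_map_mul_tmul (f := l.toLinearMap) fun a b c d => by
      induction c using TensorProduct.induction_on with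
      | zero => simp
      | add c c' hc hc' =>
        simp only [TensorProduct.tmul_add, add_mul, map_add] at hc hc' ⊢
        rw [hc, hc']
      | tmul x y =>
        induction d using TensorProduct.induction_on with
        | zero => simp
        | add d d' hd hd' =>
          simp only [TensorProduct.tmul_add, mul_add, map_add] at hd hd' ⊢
          rw [hd, hd']
        | tmul x' y' => simp [l, TensorProduct.smul_tmul']
  exact IsAzumaya.of_AlgEquiv K _ _
    (AlgEquiv.ofLinearEquiv l (by simp [l, Algebra.TensorProduct.one_def]) hmul).symm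

theorem moduleEnd (P : Type v) [AddCommGroup P] [Module R P] [Module.Finite R P]
    [Module.Projective R P] [FaithfulSMul R P] : IsAzumaya R (Module.End R P) := by
  haveI : Module.Finite R (Module.End R P) :=
    Module.Finite.of_surjective _ (dualTensorHom_bijective (R := R) (M := P) (N := P)).2
  haveI : Module.Projective R (Module.End R P) :=
    Module.Projective.of_equiv (dualTensorHomEquiv R P P)
  refine Criterion.isAzumaya_of_fibres _ fun m _ => ?_
  let K := m.ResidueField
  haveI : FaithfulSMul K (K ⊗[R] P) :=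
    BaseChange.faithfulSMul_baseChange_of_traceIdeal (S := K) (R := R) (M := P) (BaseChange.traceIdeal_eq_top R P)
  let b := Module.finBasis K (K ⊗[R] P)
  have hn : Module.finrank K (K ⊗[R] P) ≠ 0 := by
    intro h0
    haveI := Module.finrank_zero_iff.mp h0
    exact one_ne_zero (FaithfulSMul.eq_of_smul_eq_smul (α := K ⊗[R] P) (m₁ := (1 : K)) (m₂ := 0)
      fun _ => Subsingleton.elim _ _)
  haveI : NeZero (Module.finrank K (K ⊗[R] P)) := ⟨hn⟩
  haveI : IsAzumaya K (Matrix (Fin (Module.finrank K (K ⊗[R] P))) (Fin (Module.finrank K (K ⊗[R] P))) K) :=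
    IsAzumaya.matrix K _
  exact IsAzumaya.of_AlgEquiv K _ _ ((AlgEquiv.ofBijective (LinearMap.tensorProductEnd R K P)
    (BaseChange.tensorProductEnd_bijective (R := R) (M := P) K)).trans
      (algEquivMatrix b)).symm

theorem finitePresentation_of_projective_baseChange {S : Type v} [CommRing S] [Algebra R S]
    [Module.FaithfullyFlat R S] (B : Type w) [AddCommGroup B] [Module R B]
    [Module.Finite S (S ⊗[R] B)] [Module.Projective S (S ⊗[R] B)] :
    Module.FinitePresentation R B := by
  haveI : Module.Finite R B := Module.Finite.of_finite_tensorProduct_of_faithfullyFlat S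
  obtain ⟨n, f, hf⟩ := Module.Finite.exists_fin' R B
  let K := LinearMap.ker f
  let i : S ⊗[R] K →ₗ[S] S ⊗[R] (Fin n → R) := K.subtype.baseChange S
  let g : S ⊗[R] (Fin n → R) →ₗ[S] S ⊗[R] B := f.baseChange S
  have hi : Function.Injective i :=
    Module.Flat.lTensor_preserves_injective_linearMap _ (Submodule.injective_subtype K)
  have hex : Function.Exact i g := lTensor_exact S (LinearMap.exact_subtype_ker_map f) hf
  have hg : Function.Surjective g := LinearMap.lTensor_surjective S hf
  obtain ⟨h, hh⟩ := Module.projective_lifting_property g LinearMap.id hg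
  have hh' : ∀ x, g (h x) = x := fun x => LinearMap.congr_fun hh x
  have hrange : LinearMap.range i = LinearMap.range (LinearMap.id - h ∘ₗ g) := by
    apply le_antisymm
    · rintro _ ⟨x, rfl⟩
      exact ⟨i x, by simp [hex.apply_apply_eq_zero x]⟩
    · rintro _ ⟨x, rfl⟩
      exact (hex _).mp (by simp [hh'])
  haveI : Module.Finite S (LinearMap.range i) := by
    rw [hrange]; exact Module.Finite.range _
  haveI : Module.Finite S (S ⊗[R] K) := Module.Finite.equiv (LinearEquiv.ofInjective i hi).symm
  haveI : Module.Finite R K := Module.Finite.of_finite_tensorProduct_of_faithfullyFlat S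
  exact Module.finitePresentation_of_surjective f hf (Module.Finite.iff_fg.mp inferInstance)

theorem of_faithfullyFlat (S : Type v) [CommRing S] [Algebra R S] [Module.FaithfullyFlat R S]
    (B : Type w) [Ring B] [Algebra R B] [IsAzumaya S (S ⊗[R] B)] : IsAzumaya R B := by
  haveI : Module.FinitePresentation R B := finitePresentation_of_projective_baseChange R (S := S) B
  haveI : Module.Flat R B := Module.Flat.of_flat_tensorProduct R B S
  haveI : Module.Projective R B := Module.Flat.projective_of_finitePresentation
  haveI : FaithfulSMul R B := by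
    refine (faithfulSMul_iff_algebraMap_injective R B).mpr fun x y hxy => ?_
    refine FaithfulSMul.algebraMap_injective R S (FaithfulSMul.algebraMap_injective S (S ⊗[R] B) ?_)
    rw [← IsScalarTower.algebraMap_apply, ← IsScalarTower.algebraMap_apply,
      Algebra.TensorProduct.algebraMap_apply', Algebra.TensorProduct.algebraMap_apply', hxy]
  refine ⟨(Module.FaithfullyFlat.lTensor_bijective_iff_bijective R S
    (AlgHom.mulLeftRight R B).toLinearMap).mp ?_⟩
  rw [← BaseChange.mulLeftRight_baseChange_bijective_iff]
  exact IsAzumaya.bij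

theorem of_comap_surjective (S : Type v) [CommRing S] [Algebra R S]
    (hS : Function.Surjective (PrimeSpectrum.comap (algebraMap R S)))
    (B : Type w) [Ring B] [Algebra R B] [Module.Finite R B] [Module.Projective R B]
    [IsAzumaya S (S ⊗[R] B)] : IsAzumaya R B := by
  rw [Criterion.isAzumaya_iff_fibres]
  intro p hp
  obtain ⟨q, hq⟩ := hS ⟨p, hp⟩
  have hpq : p = q.asIdeal.comap (algebraMap R S) := (congrArg PrimeSpectrum.asIdeal hq).symm
  subst hpq
  let k := (q.asIdeal.comap (algebraMap R S)).ResidueField
  let K := q.asIdeal.ResidueField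
  letI : Algebra k K :=
    (Ideal.ResidueField.map (q.asIdeal.comap (algebraMap R S)) q.asIdeal (algebraMap R S) rfl).toAlgebra
  haveI : IsScalarTower R k K := IsScalarTower.of_algebraMap_eq fun r => by
    show algebraMap R K r =
      Ideal.ResidueField.map (q.asIdeal.comap (algebraMap R S)) q.asIdeal (algebraMap R S) rfl (algebraMap R k r)
    simp [K, k, ← IsScalarTower.algebraMap_apply R S q.asIdeal.ResidueField]
  obtain ⟨hc, hs⟩ := Criterion.central_simple_baseChange (R := S) (S ⊗[R] B) K
  let e : (K ⊗[S] (S ⊗[R] B)) ≃ₐ[K] K ⊗[k] (k ⊗[R] B) :=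
    (Criterion.cancelBaseChange R S K B).trans (Criterion.cancelBaseChange R k K B).symm
  haveI : IsSimpleRing (K ⊗[k] (k ⊗[R] B)) := IsSimpleRing.of_ringEquiv e.toRingEquiv hs
  haveI : Algebra.IsCentral K (K ⊗[k] (k ⊗[R] B)) := ⟨fun x hx => by
    have hx' : e.symm x ∈ Subalgebra.center K (K ⊗[S] (S ⊗[R] B)) := by
      rw [Subalgebra.mem_center_iff] at hx ⊢
      intro y
      apply e.injective
      simp [hx (e y)]
    rw [Algebra.IsCentral.center_eq_bot, Algebra.mem_bot] at hx'
    obtain ⟨c, hc⟩ := hx'
    exact Algebra.mem_bot.mpr ⟨c, by rw [← e.commutes c, hc, AlgEquiv.apply_symm_apply]⟩⟩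
  exact ⟨Groth.Agent.Lib.CSA.Basic.isCentral_of_baseChange k (k ⊗[R] B) K,
    Groth.Agent.Lib.CSA.Basic.isSimpleRing_of_baseChange k (k ⊗[R] B) K⟩

/-- Two-sided ideals of an Azumaya algebra are the extended ideals. -/
theorem twoSidedIdeal_eq (A : Type v) [Ring A] [Algebra R A] [IsAzumaya R A] (I : TwoSidedIdeal A) :
    TwoSidedIdeal.asIdeal I =
      Ideal.map (algebraMap R A) ((TwoSidedIdeal.asIdeal I).comap (algebraMap R A)) := by
  refine le_antisymm (fun x hx => ?_) Ideal.map_comap_le
  rw [TwoSidedIdeal.mem_asIdeal] at hx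
  have hstab : ∀ z, AlgHom.mulLeftRight R A z x ∈ I := fun z => by
    induction z using TensorProduct.induction_on with
    | zero => simp [I.zero_mem]
    | add y z hy hz => rw [map_add, LinearMap.add_apply]; exact I.add_mem hy hz
    | tmul a b => rw [AlgHom.mulLeftRight_apply]; exact I.mul_mem_right _ _ (I.mul_mem_left _ _ hx)
  obtain ⟨n, π, i, -, -, hπi⟩ := Module.Finite.exists_comp_eq_id_of_projective R A
  have hx' : x = π (i x) := (LinearMap.congr_fun hπi x).symm
  rw [hx', pi_eq_sum_univ (i x), map_sum]
  refine Ideal.sum_mem _ fun j _ => ?_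
  rw [map_smul, Algebra.smul_def, Algebra.commutes]
  refine Ideal.mul_mem_left _ _ (Ideal.mem_map_of_mem _ ?_)
  rw [Ideal.mem_comap, TwoSidedIdeal.mem_asIdeal]
  obtain ⟨z, hz⟩ := (IsAzumaya.bij (R := R) (A := A)).2
    ((Algebra.linearMap R A).comp ((LinearMap.proj j).comp i))
  have := hstab z
  rw [hz] at this
  exact this

theorem comap_map (A : Type v) [Ring A] [Algebra R A] [IsAzumaya R A] (J : Ideal R) :
    (Ideal.map (algebraMap R A) J).comap (algebraMap R A) = J := by
  refine le_antisymm (fun r hr => ?_) Ideal.le_comap_map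
  rw [Ideal.mem_comap] at hr
  have key : ∀ y ∈ Ideal.map (algebraMap R A) J, ∀ φ : Module.Dual R A, ∀ m : A,
      φ (m * y) ∈ J := by
    intro y hy φ
    induction hy using Submodule.span_induction with
    | mem y hy =>
      obtain ⟨j, hj, rfl⟩ := hy
      intro m
      rw [← Algebra.commutes, ← Algebra.smul_def, map_smul, smul_eq_mul]
      exact J.mul_mem_right _ hj
    | zero => intro m; simp
    | add a b _ _ ha hb => intro m; rw [mul_add, map_add]; exact J.add_mem (ha m) (hb m)
    | smul a b _ hb => intro m; rw [smul_eq_mul, ← mul_assoc]; exact hb (m * a)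
  have h1 : (1 : R) ∈ BaseChange.traceIdeal R A := by
    rw [BaseChange.traceIdeal_eq_top R A]; exact Submodule.mem_top
  have : ∀ t ∈ BaseChange.traceIdeal R A, r * t ∈ J := by
    intro t ht
    induction ht using Submodule.span_induction with
    | mem t ht =>
      obtain ⟨⟨φ, m⟩, rfl⟩ := ht
      rw [← smul_eq_mul, ← map_smul, Algebra.smul_def, Algebra.commutes]
      exact key _ hr φ m
    | zero => simp
    | add a b _ _ ha hb => rw [mul_add]; exact J.add_mem ha hb
    | smul a b _ hb => rw [smul_eq_mul, mul_left_comm]; exact J.mul_mem_left _ hb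
  simpa using this 1 h1

end Groth.Agent.Lib.Brauer.AzumayaBasics
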