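import Groth.Agent.Lib.Brauer.RedNorm
import Mathlib.Algebra.CharP.Lemmas
import Mathlib.Algebra.Polynomial.Splits
import Mathlib.LinearAlgebra.Eigenspace.Minpoly
import Mathlib.RingTheory.UniqueFactorizationDomain.NormalizedFactors

/-!
# Elements with a central power over a field containing all roots of unity
-/

namespace Groth.Agent.Lib.Brauer.PowCenter

open Polynomial

universe u v

variable {K : Type u} [Field K]

theorem mem_range_of_pow_eq_one (hK : ∀ n : ℕ, 0 < n → (X ^ n - 1 : K[X]).Splits)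
    {Ω : Type*} [Field Ω] [Algebra K Ω] {m : ℕ} (hm : 0 < m) {z : Ω} (hz : z ^ m = 1) :
    z ∈ (algebraMap K Ω).range :=
  (hK m hm).mem_range_of_isRoot (by simpa using X_pow_sub_C_ne_zero hm (1 : K)) (i := algebraMap K Ω)
    (by simp [hz])

theorem eq_X_pow_sub_C (hK : ∀ n : ℕ, 0 < n → (X ^ n - 1 : K[X]).Splits) {m : ℕ} (hm : 0 < m)
    {c : K} (hc : c ≠ 0) {f : K[X]} (hf : Irreducible f) (hfm : f.Monic) (hdvd : f ∣ X ^ m - C c) :
    ∃ a : K, f = X ^ f.natDegree - C a := by
  let Ω := AlgebraicClosure K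
  let φ := algebraMap K Ω
  have hs : (f.map φ).Splits := IsAlgClosed.splits _
  have hfm' := hfm.map φ
  have hroot : ∀ z ∈ (f.map φ).roots, z ^ m = φ c := fun z hz => by
    have h := (isRoot_of_mem_roots hz).dvd (Polynomial.map_dvd φ hdvd)
    simpa [sub_eq_zero] using h
  obtain ⟨α, hα⟩ := Multiset.exists_mem_of_ne_zero (hs.roots_ne_zero (by
    rw [natDegree_map]; exact hf.natDegree_pos.ne'))
  have hα0 : α ≠ 0 := fun h => hc (by
    have := hroot α hα
    rw [h, zero_pow hm.ne'] at this
    exact φ.injective (by simpa using this.symm))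
  have h1 : ((f.map φ).roots.map fun z => z / α).prod ∈ φ.fieldRange := by
    refine multiset_prod_mem _ fun w hw => ?_
    obtain ⟨z, hz, rfl⟩ := Multiset.mem_map.mp hw
    exact mem_range_of_pow_eq_one hK hm (by
      rw [div_pow, hroot z hz, hroot α hα, div_self]; simpa using hc)
  have h2 : (f.map φ).roots.prod ∈ φ.fieldRange := by
    have h := hs.coeff_zero_eq_prod_roots_of_monic hfm'
    rw [coeff_map] at h
    have h' : (f.map φ).roots.prod = (-1) ^ (f.map φ).natDegree * φ (f.coeff 0) := by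
      rw [h, ← mul_assoc, ← mul_pow, neg_one_mul, neg_neg, one_pow, one_mul]
    rw [h']
    exact mul_mem (pow_mem (neg_mem (one_mem _)) _) ⟨_, rfl⟩
  rw [Multiset.prod_map_div, Multiset.map_id', Multiset.map_const', Multiset.prod_replicate,
    ← hs.natDegree_eq_card_roots, natDegree_map] at h1
  have h3 : α ^ f.natDegree ∈ φ.fieldRange := by
    have h0 : (f.map φ).roots.prod ≠ 0 := Multiset.prod_ne_zero fun h0 => hc (φ.injective (by
      have := hroot 0 h0
      rw [zero_pow hm.ne'] at this
      simpa using this.symm))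
    have := div_mem h2 h1
    rwa [div_div_cancel₀ h0] at this
  obtain ⟨a, ha⟩ := h3
  refine ⟨a, Polynomial.eq_of_monic_of_associated hfm (monic_X_pow_sub_C a hf.natDegree_pos.ne') ?_⟩
  have hd : f ∣ X ^ f.natDegree - C a := by
    have hmin : f = minpoly K α := by
      refine minpoly.eq_of_irreducible_of_monic hf ?_ hfm
      rw [aeval_def, ← eval_map]; exact isRoot_of_mem_roots hα
    conv_lhs => rw [hmin]
    refine minpoly.dvd K α ?_
    simp [φ] at ha
    simp [ha]
  exact associated_of_dvd_of_natDegree_le hd (monic_X_pow_sub_C a hf.natDegree_pos.ne').ne_zero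
    (by rw [natDegree_X_pow_sub_C])

theorem natDegree_le (hK : ∀ n : ℕ, 0 < n → (X ^ n - 1 : K[X]).Splits) {m : ℕ} (hm : 0 < m)
    {c : K} (hc : c ≠ 0) {f g : K[X]} (hf : Irreducible f) (hfm : f.Monic) (hfd : f ∣ X ^ m - C c)
    (hg : Irreducible g) (hgm : g.Monic) (hgd : g ∣ X ^ m - C c) :
    g.natDegree ≤ f.natDegree := by
  let Ω := AlgebraicClosure K
  let φ := algebraMap K Ω
  obtain ⟨a, ha⟩ := eq_X_pow_sub_C hK hm hc hf hfm hfd
  obtain ⟨α, hα⟩ := IsAlgClosed.exists_root (f.map φ) (degree_ne_of_natDegree_ne (n := 0)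
    (by rw [natDegree_map]; exact hf.natDegree_pos.ne'))
  obtain ⟨β, hβ⟩ := IsAlgClosed.exists_root (g.map φ) (degree_ne_of_natDegree_ne (n := 0)
    (by rw [natDegree_map]; exact hg.natDegree_pos.ne'))
  have hαm : α ^ m = φ c := by
    simpa [sub_eq_zero] using (show IsRoot (f.map φ) α from hα).dvd (Polynomial.map_dvd φ hfd)
  have hβm : β ^ m = φ c := by
    simpa [sub_eq_zero] using (show IsRoot (g.map φ) β from hβ).dvd (Polynomial.map_dvd φ hgd)
  have hα0 : α ^ m ≠ 0 := by rw [hαm]; simpa using hc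
  have hα0' : α ≠ 0 := fun h => hα0 (by rw [h, zero_pow hm.ne'])
  obtain ⟨z, hz⟩ := mem_range_of_pow_eq_one hK hm (z := β / α) (by rw [div_pow, hαm, hβm, ← hαm, div_self hα0])
  have hαe : α ^ f.natDegree = φ a := by
    rw [ha] at hα
    simpa [sub_eq_zero] using hα
  have hd : g ∣ X ^ f.natDegree - C (z ^ f.natDegree * a) := by
    have hmin : g = minpoly K β := minpoly.eq_of_irreducible_of_monic hg
      (by rw [aeval_def, ← eval_map]; exact hβ) hgm
    rw [hmin]
    refine minpoly.dvd K β ?_
    rw [map_sub, map_pow, aeval_X, aeval_C, map_mul, map_pow, ← hαe, hz, ← mul_pow,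
      div_mul_cancel₀ _ hα0', sub_self]
  exact (Polynomial.natDegree_le_of_dvd hd (monic_X_pow_sub_C _ hf.natDegree_pos.ne').ne_zero).trans
    natDegree_X_pow_sub_C.le

variable {A : Type v} [Ring A] [Algebra K A] [Algebra.IsCentral K A] [IsSimpleRing A]
  [FiniteDimensional K A] {n : ℕ}

theorem isRoot_minpoly_of_isRoot_rcp (hn : Module.finrank K A = n ^ 2) (x : A)
    {β : AlgebraicClosure K} (hβ : ((RedNorm.rcp hn x).map (algebraMap K _)).IsRoot β) :
    aeval β (minpoly K x) = 0 := by
  obtain ⟨ρ⟩ := RedNorm.exists_rep_sepClosed hn (AlgebraicClosure K)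
  rw [RedNorm.map_rcp hn ρ, IsRoot, Matrix.eval_charpoly] at hβ
  obtain ⟨v, hv0, hv⟩ := Matrix.exists_mulVec_eq_zero_iff.mpr hβ
  have hev : Module.End.HasEigenvector (Matrix.toLin' (ρ x)) β v :=
    ⟨Module.End.mem_eigenspace_iff.mpr (by
      rw [Matrix.sub_mulVec, sub_eq_zero] at hv
      rw [Matrix.toLin'_apply, ← hv]
      simp [Matrix.mulVec_diagonal, funext_iff]), hv0⟩
  have h := Module.End.aeval_apply_of_hasEigenvector hev
    (p := (minpoly K x).map (algebraMap K (AlgebraicClosure K)))
  have h0 : aeval (Matrix.toLin' (ρ x)) ((minpoly K x).map (algebraMap K (AlgebraicClosure K))) = 0 := by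
    rw [show Matrix.toLin' (ρ x) = (Matrix.toLinAlgEquiv' (ρ x)) from rfl,
      show (Matrix.toLinAlgEquiv' (ρ x)) = Matrix.toLinAlgEquiv'.toAlgHom (ρ x) from rfl,
      Polynomial.aeval_algHom_apply, aeval_map_algebraMap, Polynomial.aeval_algHom_apply,
      minpoly.aeval, map_zero, map_zero]
  rw [h0, LinearMap.zero_apply] at h
  rw [aeval_def, ← eval_map]
  exact (smul_eq_zero.mp h.symm).resolve_right hv0

/-- The common degree of the irreducible factors of the minimal polynomial. -/
theorem exists_degree (hK : ∀ n : ℕ, 0 < n → (X ^ n - 1 : K[X]).Splits)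
    (hn : Module.finrank K A = n ^ 2) (x : A) {m : ℕ} (hm : 0 < m) {c : K} (hc : c ≠ 0)
    (hx : x ^ m = algebraMap K A c) :
    ∃ r : ℕ, 0 < r ∧ r ∣ n ∧ ∀ g : K[X], Irreducible g → g.Monic → g ∣ minpoly K x →
      ∃ a : K, g = X ^ r - C a := by
  classical
  have hdvd : minpoly K x ∣ X ^ m - C c := minpoly.dvd K x (by simp [hx])
  have hint : IsIntegral K x := Algebra.IsIntegral.isIntegral x
  obtain ⟨f, hfm, hf, hfdvd⟩ := Polynomial.exists_monic_irreducible_factor (minpoly K x)
    (minpoly.not_isUnit K x)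
  have key : ∀ g : K[X], Irreducible g → g.Monic → g ∣ minpoly K x →
      g.natDegree = f.natDegree := fun g hg hgm hgd =>
    le_antisymm (natDegree_le hK hm hc hf hfm (hfdvd.trans hdvd) hg hgm (hgd.trans hdvd))
      (natDegree_le hK hm hc hg hgm (hgd.trans hdvd) hf hfm (hfdvd.trans hdvd))
  refine ⟨f.natDegree, hf.natDegree_pos, ?_, fun g hgi hgm hgd => ?_⟩
  · have hne := (RedNorm.rcp_monic hn x).ne_zero
    have h : (UniqueFactorizationMonoid.normalizedFactors (RedNorm.rcp hn x)).prod =
        RedNorm.rcp hn x := by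
      have := UniqueFactorizationMonoid.prod_normalizedFactors_eq hne
      rwa [(RedNorm.rcp_monic hn x).normalize_eq_self] at this
    rw [← RedNorm.rcp_natDegree hn x, ← h, Polynomial.natDegree_multiset_prod _
      (fun h0 => UniqueFactorizationMonoid.zero_notMem_normalizedFactors _ h0)]
    refine Multiset.dvd_sum fun d hd => ?_
    obtain ⟨g, hg, rfl⟩ := Multiset.mem_map.mp hd
    have hgi := UniqueFactorizationMonoid.irreducible_of_normalized_factor g hg
    have hgm : g.Monic := by
      rw [← UniqueFactorizationMonoid.normalize_normalized_factor g hg]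
      exact Polynomial.monic_normalize hgi.ne_zero
    obtain ⟨β, hβ⟩ := IsAlgClosed.exists_root (g.map (algebraMap K (AlgebraicClosure K)))
      (degree_ne_of_natDegree_ne (n := 0) (by rw [natDegree_map]; exact hgi.natDegree_pos.ne'))
    have hr := (show IsRoot _ β from hβ).dvd
      (Polynomial.map_dvd (algebraMap K (AlgebraicClosure K))
        (UniqueFactorizationMonoid.dvd_of_mem_normalizedFactors hg))
    have hmin : g = minpoly K β := minpoly.eq_of_irreducible_of_monic hgi
      (by rw [aeval_def, ← eval_map]; exact hβ) hgm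
    rw [key g hgi hgm (by rw [hmin]; exact minpoly.dvd K β (isRoot_minpoly_of_isRoot_rcp hn x hr))]
  · obtain ⟨a, ha⟩ := eq_X_pow_sub_C hK hm hc hgi hgm (hgd.trans hdvd)
    exact ⟨a, by rw [← key g hgi hgm hgd]; exact ha⟩

theorem prod_form (hK : ∀ n : ℕ, 0 < n → (X ^ n - 1 : K[X]).Splits)
    (hn : Module.finrank K A = n ^ 2) (x : A) {m : ℕ} (hm : 0 < m) {c : K} (hc : c ≠ 0)
    (hx : x ^ m = algebraMap K A c) :
    ∃ r : ℕ, 0 < r ∧ r ∣ n ∧ ∃ s : Multiset K,
      minpoly K x = (s.map fun a : K => X ^ r - C a).prod := by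
  classical
  obtain ⟨r, hr, hrn, h⟩ := exists_degree hK hn x hm hc hx
  have h' : ∀ g ∈ UniqueFactorizationMonoid.normalizedFactors (minpoly K x),
      ∃ a : K, g = X ^ r - C a := fun g hg => by
    have hgi := UniqueFactorizationMonoid.irreducible_of_normalized_factor g hg
    refine h g hgi ?_ (UniqueFactorizationMonoid.dvd_of_mem_normalizedFactors hg)
    rw [← UniqueFactorizationMonoid.normalize_normalized_factor g hg]
    exact Polynomial.monic_normalize hgi.ne_zero
  choose a ha using h'

  refine ⟨r, hr, hrn, (UniqueFactorizationMonoid.normalizedFactors (minpoly K x)).attach.map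
    (fun g => a g.1 g.2), ?_⟩
  have hmon := minpoly.monic (Algebra.IsIntegral.isIntegral (R := K) x)
  have hp := UniqueFactorizationMonoid.prod_normalizedFactors_eq hmon.ne_zero
  rw [hmon.normalize_eq_self] at hp
  rw [Multiset.map_map, Multiset.map_congr rfl (g := fun g => g.1) fun g _ => (ha g.1 g.2).symm,
    Multiset.attach_map_val, hp]

omit [Algebra.IsCentral K A] [IsSimpleRing A] in
theorem pow_mem_of_division (hK : ∀ n : ℕ, 0 < n → (X ^ n - 1 : K[X]).Splits)
    (D : Type v) [DivisionRing D] [Algebra K D] [Algebra.IsCentral K D] [FiniteDimensional K D]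
    (hn : Module.finrank K D = n ^ 2) (x : D) (hxm : ∃ m : ℕ, 0 < m ∧ x ^ m ∈ (algebraMap K D).range) :
    x ^ n ∈ (algebraMap K D).range := by
  obtain ⟨m, hm, c, hc⟩ := hxm
  rcases eq_or_ne x 0 with rfl | hx
  · exact ⟨0, by rw [map_zero, zero_pow (RedNorm.deg_pos hn).ne']⟩
  have hc0 : c ≠ 0 := fun h => pow_ne_zero m hx (by rw [← hc, h, map_zero])
  obtain ⟨r, -, ⟨q, hq⟩, h⟩ := exists_degree hK hn x hm hc0 hc.symm
  have hirr := minpoly.irreducible (A := K) (Algebra.IsIntegral.isIntegral x)
  obtain ⟨a, ha⟩ := h _ hirr (minpoly.monic (Algebra.IsIntegral.isIntegral x)) dvd_rfl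
  have h0 := minpoly.aeval K x
  rw [ha, map_sub, map_pow, aeval_X, aeval_C, sub_eq_zero] at h0
  exact ⟨a ^ q, by rw [hq, pow_mul, h0, map_pow]⟩

omit [Algebra.IsCentral K A] [IsSimpleRing A] in
theorem rcp_eq_pow (D : Type v) [DivisionRing D] [Algebra K D] [Algebra.IsCentral K D]
    [FiniteDimensional K D] (hn : Module.finrank K D = n ^ 2) (x : D) :
    ∃ j : ℕ, j * (minpoly K x).natDegree = n ∧ RedNorm.rcp hn x = minpoly K x ^ j := by
  classical
  have hint : IsIntegral K x := Algebra.IsIntegral.isIntegral x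
  have hirr := minpoly.irreducible hint
  have hne := (RedNorm.rcp_monic hn x).ne_zero
  have h := UniqueFactorizationMonoid.prod_normalizedFactors_eq hne
  rw [(RedNorm.rcp_monic hn x).normalize_eq_self] at h
  have hall : ∀ g ∈ UniqueFactorizationMonoid.normalizedFactors (RedNorm.rcp hn x),
      g = minpoly K x := fun g hg => by
    have hgi := UniqueFactorizationMonoid.irreducible_of_normalized_factor g hg
    have hgm : g.Monic := by
      rw [← UniqueFactorizationMonoid.normalize_normalized_factor g hg]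
      exact Polynomial.monic_normalize hgi.ne_zero
    obtain ⟨β, hβ⟩ := IsAlgClosed.exists_root (g.map (algebraMap K (AlgebraicClosure K)))
      (degree_ne_of_natDegree_ne (n := 0) (by rw [natDegree_map]; exact hgi.natDegree_pos.ne'))
    have hr := hβ.dvd (Polynomial.map_dvd (algebraMap K (AlgebraicClosure K))
        (UniqueFactorizationMonoid.dvd_of_mem_normalizedFactors hg))
    have hmin : g = minpoly K β := minpoly.eq_of_irreducible_of_monic hgi
      (by rw [aeval_def, ← eval_map]; exact hβ) hgm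
    have hd : g ∣ minpoly K x := by
      rw [hmin]; exact minpoly.dvd K β (isRoot_minpoly_of_isRoot_rcp hn x hr)
    exact Polynomial.eq_of_monic_of_associated hgm (minpoly.monic hint)
      (hgi.associated_of_dvd hirr hd)
  rw [Multiset.eq_replicate_card.mpr hall, Multiset.prod_replicate] at h
  refine ⟨_, ?_, h.symm⟩
  rw [← (minpoly.monic hint).natDegree_pow, h, RedNorm.rcp_natDegree]

end Groth.Agent.Lib.Brauer.PowCenter
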