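import Groth.Agent.Lib.Brauer.MatCharpoly
import Groth.Agent.Lib.CSA.Basic
import Groth.Agent.Lib.CSA.SkolemNoether
import Groth.Agent.Lib.CSA.Splitting
import Groth.Prelude.Def_GSzCSA
import Mathlib.FieldTheory.Galois.Infinite
import Mathlib.FieldTheory.IsAlgClosed.AlgebraicClosure
import Mathlib.LinearAlgebra.Charpoly.BaseChange
import Mathlib.LinearAlgebra.Matrix.Charpoly.Coeff
import Mathlib.RingTheory.Norm.Defs
import Mathlib.RingTheory.Trace.Defs

/-!
# Reduced characteristic polynomial, norm and trace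
-/

namespace Groth.Agent.Lib.Brauer.RedNorm

set_option linter.style.haveILetI false

open scoped TensorProduct
open Polynomial Groth.Agent.Lib

universe u v w x

variable {k : Type u} [Field k] {A : Type v} [Ring A] [Algebra k A]
  [Algebra.IsCentral k A] [IsSimpleRing A] [FiniteDimensional k A] {n : ℕ}

theorem linTrace_eq {R : Type*} [Field R] {M : Type*} [AddCommGroup M] [Module R M]
    [FiniteDimensional R M] [Nontrivial M] (f : M →ₗ[R] M) :
    LinearMap.trace R M f = -f.charpoly.coeff (Module.finrank R M - 1) := by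
  haveI : Nonempty (Fin (Module.finrank R M)) := ⟨⟨0, Module.finrank_pos⟩⟩
  rw [LinearMap.trace_eq_matrix_trace R (Module.finBasis R M), Matrix.trace_eq_neg_charpoly_coeff,
    Fintype.card_fin, LinearMap.charpoly_toMatrix]

/-- The extension of a representation to the base change. -/
noncomputable def ext {L : Type w} [Field L] [Algebra k L] (ρ : A →ₐ[k] Matrix (Fin n) (Fin n) L) :
    L ⊗[k] A →ₐ[L] Matrix (Fin n) (Fin n) L :=
  Algebra.TensorProduct.lift (Algebra.ofId L _) ρ fun l M => Algebra.commutes l _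

omit [Algebra.IsCentral k A] [IsSimpleRing A] [FiniteDimensional k A] in
theorem ext_one_tmul {L : Type w} [Field L] [Algebra k L] (ρ : A →ₐ[k] Matrix (Fin n) (Fin n) L)
    (a : A) : ext ρ (1 ⊗ₜ a) = ρ a := by
  show algebraMap L (Matrix (Fin n) (Fin n) L) (1 : L) * ρ a = _
  rw [map_one, one_mul]

theorem deg_pos (hn : Module.finrank k A = n ^ 2) : 0 < n := by
  rcases Nat.eq_zero_or_pos n with h | h
  · exact absurd (hn.trans (by simp [h])) (Module.finrank_pos (R := k) (M := A)).ne'
  · exact h

theorem ext_bijective (hn : Module.finrank k A = n ^ 2) {L : Type w} [Field L] [Algebra k L]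
    (ρ : A →ₐ[k] Matrix (Fin n) (Fin n) L) : Function.Bijective (ext ρ) := by
  haveI := CSA.Simple.isSimpleRing_baseChange k L A
  haveI : NeZero n := ⟨(deg_pos hn).ne'⟩
  refine CSA.Splitting.bijective_of_simple (ext ρ) ?_
  rw [Module.finrank_baseChange, Module.finrank_matrix, hn]
  simp [sq]

theorem charpoly_rep_eq (hn : Module.finrank k A = n ^ 2) {L : Type w} [Field L] [Algebra k L]
    (ρ ρ' : A →ₐ[k] Matrix (Fin n) (Fin n) L) (a : A) : (ρ a).charpoly = (ρ' a).charpoly := by
  haveI := CSA.Simple.isSimpleRing_baseChange k L A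
  haveI : NeZero n := ⟨(deg_pos hn).ne'⟩
  obtain ⟨u, hu⟩ := CSA.SkolemNoether.skolemNoether (k := L) (ext ρ) (ext ρ')
  have h := hu (1 ⊗ₜ a)
  rw [ext_one_tmul, ext_one_tmul] at h
  rw [h, Matrix.coe_units_inv, Matrix.charpoly_units_conj]

theorem exists_rep_sepClosed (hn : Module.finrank k A = n ^ 2) (L : Type w) [Field L] [Algebra k L]
    [IsSepClosed L] : Nonempty (A →ₐ[k] Matrix (Fin n) (Fin n) L) := by
  haveI := CSA.Simple.isSimpleRing_baseChange k L A
  haveI := CSA.Simple.isCentral_baseChange k L A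
  obtain ⟨m, -, ⟨φ⟩⟩ := CSA.Basic.exists_algEquiv_matrix_of_isSepClosed L (L ⊗[k] A)
  have hmn : n = m := by
    have h := φ.toLinearEquiv.finrank_eq
    rw [Module.finrank_baseChange, Module.finrank_matrix, hn, Fintype.card_fin,
      Module.finrank_self, mul_one, sq] at h
    exact Nat.mul_self_inj.mp h
  subst hmn
  exact ⟨(φ.toAlgHom.restrictScalars k).comp Algebra.TensorProduct.includeRight⟩

theorem exists_redCharpoly (hn : Module.finrank k A = n ^ 2) (L : Type w) [Field L] [Algebra k L]
    [IsSepClosed L] [IsGalois k L] (ρ : A →ₐ[k] Matrix (Fin n) (Fin n) L) (a : A) :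
    ∃ p : k[X], p.map (algebraMap k L) = (ρ a).charpoly := by
  have h : (ρ a).charpoly ∈ Polynomial.lifts (algebraMap k L) := by
    rw [Polynomial.lifts_iff_coeff_lifts]
    intro i
    rw [InfiniteGalois.mem_range_algebraMap_iff_fixed]
    intro τ
    have h1 := charpoly_rep_eq hn ρ ((τ : L →ₐ[k] L).mapMatrix.comp ρ) a
    conv_rhs => rw [h1]
    show τ ((ρ a).charpoly.coeff i) = (((τ : L →ₐ[k] L) : L →+* L).mapMatrix (ρ a)).charpoly.coeff i
    rw [RingHom.mapMatrix_apply, Matrix.charpoly_map, Polynomial.coeff_map]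
    rfl
  exact (Polynomial.mem_lifts _).mp h

/-- The reduced characteristic polynomial in degree `n`. -/
noncomputable def rcp (hn : Module.finrank k A = n ^ 2) (a : A) : k[X] :=
  (exists_redCharpoly hn (SeparableClosure k) (exists_rep_sepClosed hn (SeparableClosure k)).some a).choose

theorem map_rcp (hn : Module.finrank k A = n ^ 2) {L : Type w} [Field L] [Algebra k L]
    (ρ : A →ₐ[k] Matrix (Fin n) (Fin n) L) (a : A) :
    (rcp hn a).map (algebraMap k L) = (ρ a).charpoly := by
  let S := SeparableClosure k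
  let ρ₀ : A →ₐ[k] Matrix (Fin n) (Fin n) S := (exists_rep_sepClosed hn S).some
  have h₀ : (rcp hn a).map (algebraMap k S) = (ρ₀ a).charpoly :=
    (exists_redCharpoly hn S ρ₀ a).choose_spec
  let Ω := AlgebraicClosure L
  let j : S →ₐ[k] Ω := IsAlgClosed.lift
  let i : L →ₐ[k] Ω := IsScalarTower.toAlgHom k L Ω
  have e := charpoly_rep_eq hn (i.mapMatrix.comp ρ) (j.mapMatrix.comp ρ₀) a
  apply Polynomial.map_injective (i : L →+* Ω) i.toRingHom.injective
  rw [← Matrix.charpoly_map, Polynomial.map_map, AlgHom.comp_algebraMap]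
  refine Eq.trans ?_ e.symm
  show _ = ((ρ₀ a).map (j : S →+* Ω)).charpoly
  rw [Matrix.charpoly_map, ← h₀, Polynomial.map_map, AlgHom.comp_algebraMap]

theorem rcp_monic (hn : Module.finrank k A = n ^ 2) (a : A) : (rcp hn a).Monic := by
  obtain ⟨ρ⟩ := exists_rep_sepClosed hn (SeparableClosure k)
  apply Polynomial.monic_of_injective (algebraMap k (SeparableClosure k)).injective
  rw [map_rcp hn ρ]
  exact Matrix.charpoly_monic _

theorem rcp_natDegree (hn : Module.finrank k A = n ^ 2) (a : A) : (rcp hn a).natDegree = n := by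
  obtain ⟨ρ⟩ := exists_rep_sepClosed hn (SeparableClosure k)
  rw [← Polynomial.natDegree_map_eq_of_injective (algebraMap k (SeparableClosure k)).injective,
    map_rcp hn ρ, Matrix.charpoly_natDegree_eq_dim, Fintype.card_fin]

theorem aeval_rcp (hn : Module.finrank k A = n ^ 2) (a : A) : aeval a (rcp hn a) = 0 := by
  let S := SeparableClosure k
  obtain ⟨ρ⟩ := exists_rep_sepClosed hn S
  have hinj : Function.Injective ρ := fun x y h => by
    haveI : Nontrivial (Matrix (Fin n) (Fin n) S) := by
      haveI : NeZero n := ⟨(deg_pos hn).ne'⟩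
      infer_instance
    exact RingHom.injective ρ.toRingHom h
  apply hinj
  rw [map_zero, ← Polynomial.aeval_algHom_apply, ← Polynomial.aeval_map_algebraMap S, map_rcp hn ρ]
  exact Matrix.aeval_self_charpoly _

theorem charpoly_lmul (hn : Module.finrank k A = n ^ 2) (a : A) :
    (LinearMap.mulLeft k a).charpoly = rcp hn a ^ n := by
  let S := SeparableClosure k
  obtain ⟨ρ⟩ := exists_rep_sepClosed hn S
  apply Polynomial.map_injective (algebraMap k S) (algebraMap k S).injective
  rw [Polynomial.map_pow, map_rcp hn ρ, ← LinearMap.charpoly_baseChange,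
    ← MatCharpoly.charpoly_lmul_matrix]
  let Φ := AlgEquiv.ofBijective (ext ρ) (ext_bijective hn ρ)
  rw [← LinearEquiv.charpoly_conj Φ.toLinearEquiv]
  congr 1
  ext1 M
  obtain ⟨x, rfl⟩ := Φ.surjective M
  induction x using TensorProduct.induction_on with
  | zero => simp
  | add x y hx hy => simp only [map_add, hx, hy]
  | tmul l b =>
    simp only [LinearEquiv.conj_apply, LinearMap.comp_apply, LinearEquiv.coe_coe,
      LinearMap.mulLeft_apply]
    rw [show Φ.toLinearEquiv.symm (Φ (l ⊗ₜ b)) = l ⊗ₜ b from Φ.symm_apply_apply _,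
      LinearMap.baseChange_tmul, ← ext_one_tmul ρ a]
    show ext ρ (l ⊗ₜ (a * b)) = ext ρ (1 ⊗ₜ a) * ext ρ (l ⊗ₜ b)
    rw [← map_mul]
    simp

/-- The reduced norm as a monoid homomorphism. -/
noncomputable def redNorm (hn : Module.finrank k A = n ^ 2) (a : A) : k :=
  (-1) ^ n * (rcp hn a).coeff 0

/-- The reduced trace. -/
noncomputable def redTrace (hn : Module.finrank k A = n ^ 2) (a : A) : k :=
  -(rcp hn a).coeff (n - 1)

theorem map_redNorm (hn : Module.finrank k A = n ^ 2) {L : Type w} [Field L] [Algebra k L]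
    (ρ : A →ₐ[k] Matrix (Fin n) (Fin n) L) (a : A) :
    algebraMap k L (redNorm hn a) = (ρ a).det := by
  rw [redNorm, map_mul, ← Polynomial.coeff_map, map_rcp hn ρ, Matrix.det_eq_sign_charpoly_coeff]
  simp

theorem map_redTrace (hn : Module.finrank k A = n ^ 2) {L : Type w} [Field L] [Algebra k L]
    (ρ : A →ₐ[k] Matrix (Fin n) (Fin n) L) (a : A) :
    algebraMap k L (redTrace hn a) = (ρ a).trace := by
  haveI : Nonempty (Fin n) := ⟨⟨0, deg_pos hn⟩⟩
  rw [redTrace, map_neg, ← Polynomial.coeff_map, map_rcp hn ρ, Matrix.trace_eq_neg_charpoly_coeff,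
    Fintype.card_fin]

theorem redNorm_mul (hn : Module.finrank k A = n ^ 2) (a b : A) :
    redNorm hn (a * b) = redNorm hn a * redNorm hn b := by
  obtain ⟨ρ⟩ := exists_rep_sepClosed hn (SeparableClosure k)
  apply (algebraMap k (SeparableClosure k)).injective
  rw [map_mul, map_redNorm hn ρ, map_redNorm hn ρ, map_redNorm hn ρ, map_mul, Matrix.det_mul]

theorem redNorm_one (hn : Module.finrank k A = n ^ 2) : redNorm hn (1 : A) = 1 := by
  obtain ⟨ρ⟩ := exists_rep_sepClosed hn (SeparableClosure k)
  apply (algebraMap k (SeparableClosure k)).injective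
  rw [map_redNorm hn ρ, map_one, map_one, Matrix.det_one]

theorem redNorm_algebraMap (hn : Module.finrank k A = n ^ 2) (c : k) :
    redNorm hn (algebraMap k A c) = c ^ n := by
  obtain ⟨ρ⟩ := exists_rep_sepClosed hn (SeparableClosure k)
  apply (algebraMap k (SeparableClosure k)).injective
  rw [map_redNorm hn ρ, AlgHom.commutes, Matrix.algebraMap_eq_diagonal, Matrix.det_diagonal]
  simp

/-- The bundled reduced norm. -/
noncomputable def redNormHom (hn : Module.finrank k A = n ^ 2) : A →* k where
  toFun := redNorm hn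
  map_one' := redNorm_one hn
  map_mul' := redNorm_mul hn

theorem isUnit_iff (hn : Module.finrank k A = n ^ 2) (a : A) :
    IsUnit a ↔ redNorm hn a ≠ 0 := by
  refine ⟨fun h => (h.map (redNormHom hn)).ne_zero, fun h => ?_⟩
  obtain ⟨ρ⟩ := exists_rep_sepClosed hn (SeparableClosure k)
  have hρ : IsUnit (ρ a) := by
    rw [Matrix.isUnit_iff_isUnit_det, isUnit_iff_ne_zero, ← map_redNorm hn ρ]
    simpa using h
  haveI : NeZero n := ⟨(deg_pos hn).ne'⟩
  have hinj : Function.Injective (LinearMap.mulLeft k a) := fun x y hxy => by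
    apply RingHom.injective ρ.toRingHom
    apply hρ.mul_left_cancel
    show ρ a * ρ x = ρ a * ρ y
    rw [← map_mul, ← map_mul]
    exact congrArg ρ hxy
  obtain ⟨b, hb⟩ := LinearMap.injective_iff_surjective.mp hinj 1
  refine ⟨⟨a, b, hb, ?_⟩, rfl⟩
  apply hinj
  show a * (b * a) = a * 1
  rw [← mul_assoc, show a * b = 1 from hb, one_mul, mul_one]

theorem norm_eq (hn : Module.finrank k A = n ^ 2) (a : A) :
    Algebra.norm k a = redNorm hn a ^ n := by
  rw [Algebra.norm_apply, LinearMap.det_eq_sign_charpoly_coeff,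
    show Algebra.lmul k A a = LinearMap.mulLeft k a from rfl, charpoly_lmul hn, hn, redNorm,
    mul_pow, ← pow_mul, sq, Polynomial.coeff_zero_eq_eval_zero, Polynomial.coeff_zero_eq_eval_zero,
    Polynomial.eval_pow]

theorem trace_mulLeft (hn : Module.finrank k A = n ^ 2) (a : A) :
    LinearMap.trace k A (LinearMap.mulLeft k a) = n • redTrace hn a := by
  let S := SeparableClosure k
  obtain ⟨ρ⟩ := exists_rep_sepClosed hn S
  apply (algebraMap k S).injective
  rw [map_nsmul, map_redTrace hn ρ, linTrace_eq, charpoly_lmul hn, hn,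
    map_neg, ← Polynomial.coeff_map, Polynomial.map_pow, map_rcp hn ρ,
    ← MatCharpoly.charpoly_lmul_matrix (ρ a)]
  haveI : NeZero n := ⟨(deg_pos hn).ne'⟩
  have h2 := linTrace_eq (LinearMap.mulLeft S (ρ a))
  haveI : Nonempty (Fin n) := ⟨⟨0, deg_pos hn⟩⟩
  rw [Module.finrank_matrix, Fintype.card_fin, Module.finrank_self, mul_one, ← sq] at h2
  rw [← h2, LinearMap.trace_eq_matrix_trace S (Matrix.stdBasis S (Fin n) (Fin n)),
    MatCharpoly.toMatrix_mulLeft, Matrix.trace_blockDiagonal, Finset.sum_const, Finset.card_univ,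
    Fintype.card_fin]

theorem eq_redNorm (hn : Module.finrank k A = n ^ 2) {N : A →* k} (hN : CSAGal.IsRedNorm k A N)
    (a : A) : N a = redNorm hn a := by
  obtain ⟨K, _, _, _, m, φ, hφ⟩ := hN
  have hm : n = m := by
    have h := φ.toLinearEquiv.finrank_eq
    rw [Module.finrank_baseChange, Module.finrank_matrix, hn, Fintype.card_fin,
      Module.finrank_self, mul_one, sq] at h
    exact Nat.mul_self_inj.mp h
  subst hm
  apply (algebraMap k K).injective
  rw [hφ, map_redNorm hn ((φ.toAlgHom.restrictScalars k).comp Algebra.TensorProduct.includeRight)]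
  rfl

theorem eq_redTrace (hn : Module.finrank k A = n ^ 2) {T : A →+ k} (hT : CSAGal.IsRedTrace k A T)
    (a : A) : T a = redTrace hn a := by
  obtain ⟨K, _, _, _, m, φ, hφ⟩ := hT
  have hm : n = m := by
    have h := φ.toLinearEquiv.finrank_eq
    rw [Module.finrank_baseChange, Module.finrank_matrix, hn, Fintype.card_fin,
      Module.finrank_self, mul_one, sq] at h
    exact Nat.mul_self_inj.mp h
  subst hm
  apply (algebraMap k K).injective
  rw [hφ, map_redTrace hn ((φ.toAlgHom.restrictScalars k).comp Algebra.TensorProduct.includeRight)]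
  rfl

/-- On a subfield of full degree the reduced polynomial is the characteristic polynomial. -/
theorem rcp_subfield (hn : Module.finrank k A = n ^ 2) {K : Type x} [Field K] [Algebra k K]
    [FiniteDimensional k K]
    (hK : Module.finrank k K = n) (ι : K →ₐ[k] A) (x : K) :
    rcp hn (ι x) = (LinearMap.mulLeft k x).charpoly := by
  classical
  letI : Module K A := Module.compHom A ι.toRingHom
  haveI : IsScalarTower k K A := ⟨fun c x a => by
    show ι (c • x) * a = c • (ι x * a)
    rw [map_smul, smul_mul_assoc]⟩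
  haveI : Module.Finite K A := Module.Finite.of_restrictScalars_finite k K A
  have hKA : Module.finrank K A = n := by
    refine Nat.eq_of_mul_eq_mul_left (deg_pos hn) ?_
    rw [← sq, ← hn, ← Module.finrank_mul_finrank k K A, hK]
  refine MatCharpoly.monic_eq_of_pow_eq (rcp_monic hn _) (LinearMap.charpoly_monic _) (deg_pos hn).ne' ?_
  rw [← charpoly_lmul hn]
  let b := Module.finBasis k K
  let c := Module.finBasis K A
  rw [← LinearMap.charpoly_toMatrix _ (b.smulTower c), ← LinearMap.charpoly_toMatrix _ b]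
  have h : LinearMap.toMatrix (b.smulTower c) (b.smulTower c) (LinearMap.mulLeft k (ι x)) =
      Matrix.blockDiagonal fun _ => LinearMap.toMatrix b b (LinearMap.mulLeft k x) := by
    ext ⟨i, j⟩ ⟨i', j'⟩
    rw [LinearMap.toMatrix_apply, Matrix.blockDiagonal_apply, Module.Basis.smulTower_repr,
      Module.Basis.smulTower_apply, LinearMap.mulLeft_apply,
      show ι x * (b i' • c j') = (x * b i') • c j' from ((mul_smul x (b i') (c j')).symm : _)]
    by_cases hj : j = j'
    · subst hj; simp [LinearMap.toMatrix_apply]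
    · simp [hj]
  rw [h, MatCharpoly.charpoly_blockDiagonal, Finset.prod_const, Finset.card_univ, Fintype.card_fin, hKA]

end Groth.Agent.Lib.Brauer.RedNorm
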