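import Groth.Agent.Lib.Brauer.BaseChangeRank
import Mathlib.LinearAlgebra.Matrix.ToLin
import Mathlib.LinearAlgebra.Multilinear.Basic
import Mathlib.GroupTheory.Perm.Sign
import Mathlib.Data.Finset.Sort
import Mathlib.Data.Finset.Powerset
import Mathlib.LinearAlgebra.Multilinear.Pi

/-!
# The antisymmetrisation matrix on tensor powers
-/

namespace Groth.Agent.Lib.Brauer.Antisym

open Finset

universe u

variable {L : Type u} [Field L] {d r : ℕ}

/-- The tensor power of a family of matrices. -/
def tensorMat (M : Fin r → Matrix (Fin d) (Fin d) L) :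
    Matrix (Fin r → Fin d) (Fin r → Fin d) L :=
  Matrix.of fun I J => ∏ i, M i (I i) (J i)

theorem tensorMat_mul (M N : Fin r → Matrix (Fin d) (Fin d) L) :
    tensorMat M * tensorMat N = tensorMat (fun i => M i * N i) := by
  ext I J
  simp only [Matrix.mul_apply, tensorMat, Matrix.of_apply, ← Finset.prod_mul_distrib]
  rw [Finset.prod_univ_sum, Fintype.piFinset_univ]

theorem tensorMat_one : tensorMat (1 : Fin r → Matrix (Fin d) (Fin d) L) = 1 := by
  ext I J
  by_cases h : I = J
  · subst h; simp [tensorMat]
  · obtain ⟨i, hi⟩ := Function.ne_iff.mp h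
    rw [Matrix.one_apply_ne h]
    exact Finset.prod_eq_zero (Finset.mem_univ i) (by simp [Matrix.one_apply_ne hi])

variable (L d r) in
/-- Antisymmetrisation. -/
def antisym : Matrix (Fin r → Fin d) (Fin r → Fin d) L :=
  Matrix.of fun I J => ∑ σ : Equiv.Perm (Fin r),
    if J ∘ σ = I then ((Equiv.Perm.sign σ : ℤ) : L) else 0

theorem antisym_comm (M : Matrix (Fin d) (Fin d) L) :
    antisym L d r * tensorMat (fun _ => M) = tensorMat (fun _ => M) * antisym L d r := by
  ext I J
  simp only [Matrix.mul_apply, antisym, Matrix.of_apply, Finset.sum_mul, Finset.mul_sum, tensorMat,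
    ite_mul, mul_ite, zero_mul, mul_zero]
  rw [Finset.sum_comm]
  conv_rhs => rw [Finset.sum_comm]
  refine Finset.sum_congr rfl fun σ _ => ?_
  have h1 : ∀ K : Fin r → Fin d, K ∘ σ = I ↔ K = I ∘ σ.symm := fun K =>
    ⟨fun h => by rw [← h]; ext; simp, fun h => by rw [h]; ext; simp⟩
  simp only [h1, eq_comm (a := J ∘ σ), Finset.sum_ite_eq', Finset.mem_univ, if_true]
  rw [mul_comm]
  congr 1
  exact Fintype.prod_equiv σ.symm _ _ fun i => by simp

theorem antisym_map {L' : Type*} [Field L'] (τ : L →+* L') :
    (antisym L d r).map τ = antisym L' d r := by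
  ext I J
  simp [antisym, Matrix.map_apply, map_sum, apply_ite τ]

/-- The increasing tuple of a subset. -/
def tuple (s : {s : Finset (Fin d) // s.card = r}) : Fin r → Fin d :=
  s.1.orderEmbOfFin s.2

theorem row_eq_smul (I : Fin r → Fin d) (τ : Equiv.Perm (Fin r)) :
    antisym L d r (I ∘ τ) = ((Equiv.Perm.sign τ : ℤ) : L) • antisym L d r I := by
  funext J
  show antisym L d r (I ∘ τ) J = ((Equiv.Perm.sign τ : ℤ) : L) * antisym L d r I J
  simp only [antisym, Matrix.of_apply, Finset.mul_sum, mul_ite, mul_zero]
  refine Fintype.sum_equiv (Equiv.mulRight τ⁻¹) _ _ fun σ => ?_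
  simp only [Equiv.coe_mulRight]
  have h2 : J ∘ (σ * τ⁻¹ : Equiv.Perm (Fin r)) = I ↔ J ∘ σ = I ∘ τ :=
    ⟨fun h => by rw [← h]; ext; simp [Equiv.Perm.mul_apply],
      fun h => by
        funext i
        simpa [Equiv.Perm.mul_apply] using congrFun h (τ⁻¹ i)⟩
  simp only [h2]
  split_ifs
  · rw [map_mul, map_inv, mul_comm, Units.val_mul, Int.cast_mul, mul_assoc, ← Int.cast_mul,
      ← Units.val_mul, inv_mul_cancel, Units.val_one, Int.cast_one, mul_one]
  · rfl

theorem row_eq_zero (I : Fin r → Fin d) (h : ¬ Function.Injective I) : antisym L d r I = 0 := by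
  rw [Function.not_injective_iff] at h
  obtain ⟨a, b, hab, hne⟩ := h
  funext J
  show antisym L d r I J = 0
  simp only [antisym, Matrix.of_apply]
  refine Finset.sum_involution (fun σ _ => σ * Equiv.swap a b) (fun σ _ => ?_) (fun σ _ _ => ?_)
    (fun σ _ => Finset.mem_univ _) (fun σ _ => by simp)
  · have h2 : J ∘ (σ * Equiv.swap a b : Equiv.Perm (Fin r)) = I ↔ J ∘ σ = I := by
      constructor <;> intro h <;> funext i
      · have := congrFun h (Equiv.swap a b i)
        simp only [Function.comp_apply, Equiv.Perm.mul_apply, Equiv.swap_apply_self] at this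
        rw [Function.comp_apply, this]
        rcases eq_or_ne i a with rfl | ha
        · rw [Equiv.swap_apply_left, hab]
        rcases eq_or_ne i b with rfl | hb
        · rw [Equiv.swap_apply_right, hab]
        rw [Equiv.swap_apply_of_ne_of_ne ha hb]
      · have := congrFun h (Equiv.swap a b i)
        simp only [Function.comp_apply, Equiv.Perm.mul_apply] at this ⊢
        rw [this]
        rcases eq_or_ne i a with rfl | ha
        · rw [Equiv.swap_apply_left, hab]
        rcases eq_or_ne i b with rfl | hb
        · rw [Equiv.swap_apply_right, hab]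
        rw [Equiv.swap_apply_of_ne_of_ne ha hb]
    simp only [h2, Equiv.Perm.sign_mul, Equiv.Perm.sign_swap hne]
    split_ifs <;> simp
  · exact fun h' => hne (Equiv.swap_eq_one_iff.mp (mul_left_cancel (h'.trans (mul_one σ).symm)))

theorem row_tuple (s t : {s : Finset (Fin d) // s.card = r}) :
    antisym L d r (tuple s) (tuple t) = if s = t then 1 else 0 := by
  simp only [antisym, Matrix.of_apply]
  have key : ∀ σ : Equiv.Perm (Fin r), tuple t ∘ σ = tuple s ↔ σ = 1 ∧ s = t := by
    intro σ
    constructor
    · intro h
      have hst : s = t := by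
        apply Subtype.ext
        have h1 := congrArg Set.range h
        simp only [Set.range_comp, σ.range_eq_univ, Set.image_univ, tuple,
          Finset.range_orderEmbOfFin] at h1
        exact Finset.coe_injective h1.symm
      subst hst
      refine ⟨Equiv.ext fun i => ?_, rfl⟩
      exact (s.1.orderEmbOfFin s.2).injective (congrFun h i)
    · rintro ⟨rfl, rfl⟩; rfl
  simp only [key]
  by_cases h : s = t
  · simp [h]
  · simp [h]

/-- The row rank of the antisymmetrisation is `d` choose `r`. -/
theorem finrank_range :
    Module.finrank L (LinearMap.range (antisym L d r).vecMulLinear) = Nat.choose d r := by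
  classical
  have hspan : LinearMap.range (antisym L d r).vecMulLinear =
      Submodule.span L (Set.range fun s => antisym L d r (tuple s)) := by
    rw [range_vecMulLinear]
    refine le_antisymm (Submodule.span_le.mpr ?_) (Submodule.span_mono ?_)
    · rintro _ ⟨I, rfl⟩
      by_cases hI : Function.Injective I
      · have hcard : (Finset.univ.image I).card = r := by
          rw [Finset.card_image_of_injective _ hI]; simp
        let s : {s : Finset (Fin d) // s.card = r} := ⟨_, hcard⟩
        have hrange : ∀ i, ∃ j, tuple s j = I i := fun i => by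
          have : I i ∈ Set.range (tuple s) := by
            rw [tuple, Finset.range_orderEmbOfFin]; simp [s]
          exact this
        choose τ hτ using hrange
        have hbij : Function.Bijective τ := Finite.injective_iff_bijective.mp fun a b h =>
          hI (by rw [← hτ a, ← hτ b, h])
        have hIs : I = tuple s ∘ (Equiv.ofBijective τ hbij) := funext fun i => (hτ i).symm
        show antisym L d r I ∈ _
        rw [hIs, row_eq_smul]
        exact Submodule.smul_mem _ _ (Submodule.subset_span ⟨s, rfl⟩)
      · show antisym L d r I ∈ _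
        rw [row_eq_zero I hI]
        exact zero_mem _
    · rintro _ ⟨s, rfl⟩
      exact ⟨tuple s, rfl⟩
  have hli : LinearIndependent L fun s : {s : Finset (Fin d) // s.card = r} =>
      antisym L d r (tuple s) := by
    rw [Fintype.linearIndependent_iff]
    intro g hg t
    have := congrFun hg (tuple t)
    simpa [row_tuple] using this
  rw [hspan, finrank_span_eq_card hli, Fintype.card_finset_len, Fintype.card_fin]

end Groth.Agent.Lib.Brauer.Antisym
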