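import Groth.Agent.Lib.Azumaya.BaseChange
import Mathlib

/-! Corners of Azumaya algebras over connected rings. -/

set_option autoImplicit false
universe u v

open scoped TensorProduct
open MulOpposite

namespace Groth.Agent.Lib.Brauer.AzumayaCorner

variable {R : Type u} [CommRing R] {A : Type u} [Ring A] [Algebra R A]

/-- Constant rank: a nonzero direct summand of a connected ring's module has positive rank. -/
theorem rank_pos [ConnectedSpace (PrimeSpectrum R)] (P : Type u) [AddCommGroup P] [Module R P]
    [Module.Finite R P] [Module.Projective R P] [Nontrivial P] (p : PrimeSpectrum R) :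
    0 < Module.rankAtStalk (R := R) P p := by
  haveI : Module.FinitePresentation R P := Module.finitePresentation_of_projective R P
  refine Nat.pos_of_ne_zero fun h0 => ?_
  have hsub : Subsingleton P := Module.rankAtStalk_eq_zero_iff_subsingleton.mp (funext fun q =>
    (Module.isLocallyConstant_rankAtStalk.apply_eq_of_preconnectedSpace q p).trans h0)
  exact not_subsingleton P hsub

theorem faithful [ConnectedSpace (PrimeSpectrum R)] (P : Type u) [AddCommGroup P] [Module R P]
    [Module.Finite R P] [Module.Projective R P] [Nontrivial P] : FaithfulSMul R P := by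
  have htr := Groth.Agent.Lib.Azumaya.BaseChange.traceIdeal_eq_top_of_nontrivial R P fun m _ => by
    have h := (Module.rankAtStalk_pos_iff_mem_support (R := R) (M := P) ⟨m, inferInstance⟩).mp
      (rank_pos P _)
    rwa [Module.mem_support_iff_nontrivial_residueField_tensorProduct] at h
  have := Groth.Agent.Lib.Azumaya.BaseChange.faithfulSMul_baseChange_of_traceIdeal (S := R) (R := R) (M := P) htr
  refine ⟨fun {s t} hst => FaithfulSMul.eq_of_smul_eq_smul (α := R ⊗[R] P) fun z => ?_⟩
  apply (TensorProduct.lid R P).injective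
  rw [map_smul, map_smul, hst]

variable {e : A} (he : IsIdempotentElem e)
include he

theorem corner_mul (b : he.Corner) : e * b.1 = b.1 ∧ b.1 * e = b.1 :=
  (Subsemigroup.mem_corner_iff he).mp b.2

noncomputable instance cornerAlgebra : Algebra R he.Corner :=
  RingHom.toAlgebra'
    { toFun := fun r => ⟨e * algebraMap R A r * e, _, rfl⟩
      map_one' := Subtype.ext (show e * algebraMap R A 1 * e = e by rw [map_one, mul_one, he.eq])
      map_zero' := Subtype.ext (show e * algebraMap R A 0 * e = 0 by simp)
      map_add' := fun r s => Subtype.ext (show _ = e * algebraMap R A r * e + e * algebraMap R A s * e by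
        show e * algebraMap R A (r + s) * e = _
        rw [map_add, mul_add, add_mul])
      map_mul' := fun r s => Subtype.ext (show e * algebraMap R A (r * s) * e =
          e * algebraMap R A r * e * (e * algebraMap R A s * e) by
        have h : ∀ t, e * algebraMap R A t * e = algebraMap R A t * e := fun t => by
          rw [← Algebra.commutes, mul_assoc, he.eq]
        rw [h, h, h, map_mul, mul_assoc (algebraMap R A r) e, ← mul_assoc e (algebraMap R A s), h,
          ← mul_assoc]) }
    (fun r b => Subtype.ext (show e * algebraMap R A r * e * b.1 = b.1 * (e * algebraMap R A r * e) by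
      obtain ⟨h1, h2⟩ := corner_mul he b
      rw [mul_assoc, h1, mul_assoc, Algebra.commutes, ← mul_assoc e b.1, h1]
      conv_rhs => rw [← mul_assoc b.1, ← mul_assoc b.1, h2, mul_assoc, Algebra.commutes, ← mul_assoc, h2]))

theorem smul_val (r : R) (b : he.Corner) : (r • b).1 = r • b.1 := by
  obtain ⟨h1, -⟩ := corner_mul he b
  show e * algebraMap R A r * e * b.1 = r • b.1
  rw [mul_assoc, h1, mul_assoc, Algebra.smul_def, Algebra.commutes, ← mul_assoc, h1]

noncomputable def ι : he.Corner →ₗ[R] A :=
  { toFun := fun b => b.1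
    map_add' := fun a b => rfl
    map_smul' := fun r b => smul_val he r b }

theorem mul_val (a b : he.Corner) : ι (R := R) he (a * b) = ι (R := R) he a * ι (R := R) he b := rfl

def toCorner (x : A) : he.Corner := ⟨e * x * e, x, rfl⟩

noncomputable def π : A →ₗ[R] he.Corner :=
  { toFun := toCorner he
    map_add' := fun a b => Subtype.ext (show e * (a + b) * e = e * a * e + e * b * e by
      rw [mul_add, add_mul])
    map_smul' := fun r x => Subtype.ext (show e * (r • x) * e = (r • toCorner he x).1 by
      rw [smul_val he, mul_smul_comm, smul_mul_assoc]; rfl) }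

theorem ι_π (x : A) : ι (R := R) he (π (R := R) he x) = e * x * e := rfl

theorem π_ι (b : he.Corner) : π (R := R) he (ι (R := R) he b) = b := by
  obtain ⟨h1, h2⟩ := corner_mul he b
  exact Subtype.ext (show e * b.1 * e = b.1 by rw [h1, h2])

omit he in
/-- The left ideal `A e`. -/
abbrev Ae (R : Type u) [CommRing R] [Algebra R A] (e : A) : Submodule R A :=
  LinearMap.range (LinearMap.mulRight R e)

theorem Ae_mul (y : Ae R e) : (y : A) * e = y := by
  obtain ⟨x, hx⟩ := y.2
  rw [← hx, LinearMap.mulRight_apply, mul_assoc, he.eq]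

variable [IsAzumaya R A]

instance corner_finite : Module.Finite R he.Corner :=
  Module.Finite.of_surjective (π (R := R) he) fun b => ⟨ι (R := R) he b, π_ι he b⟩

instance corner_projective : Module.Projective R he.Corner :=
  Module.Projective.of_split (ι (R := R) he) (π (R := R) he) (LinearMap.ext (π_ι he))

theorem Ae_finite : Module.Finite R (Ae R e) :=
  Module.Finite.of_surjective (LinearMap.mulRight R e).rangeRestrict (LinearMap.surjective_rangeRestrict _)

theorem Ae_projective : Module.Projective R (Ae R e) :=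
  Module.Projective.of_split (Ae R e).subtype (LinearMap.mulRight R e).rangeRestrict
    (LinearMap.ext fun y => Subtype.ext (Ae_mul he y))

theorem bij_corner : Function.Bijective (AlgHom.mulLeftRight R he.Corner) := by
  let iop : he.Cornerᵐᵒᵖ →ₗ[R] Aᵐᵒᵖ :=
    (opLinearEquiv R).toLinearMap ∘ₗ ι (R := R) he ∘ₗ (opLinearEquiv R).symm.toLinearMap
  let pop : Aᵐᵒᵖ →ₗ[R] he.Cornerᵐᵒᵖ :=
    (opLinearEquiv R).toLinearMap ∘ₗ π (R := R) he ∘ₗ (opLinearEquiv R).symm.toLinearMap
  let Ψ := TensorProduct.map (ι (R := R) he) iop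
  let Prj := TensorProduct.map (π (R := R) he) pop
  have hPΨ : ∀ z, Prj (Ψ z) = z := fun z => by
    induction z using TensorProduct.induction_on with
    | zero => simp
    | add a b ha hb => simp [ha, hb]
    | tmul a b => simp [Ψ, Prj, iop, pop, π_ι]
  have hkey : ∀ z (y : A), AlgHom.mulLeftRight R A (Ψ z) y =
      ι (R := R) he (AlgHom.mulLeftRight R he.Corner z (π (R := R) he y)) := fun z y => by
    induction z using TensorProduct.induction_on with
    | zero => simp
    | add a b ha hb => simp [ha, hb]
    | tmul a b =>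
      simp only [Ψ, TensorProduct.map_tmul, AlgHom.mulLeftRight_apply, iop, LinearMap.comp_apply]
      rw [mul_val he, mul_val he, ι_π]
      show a.1 * y * b.unop.1 = a.1 * (e * y * e) * b.unop.1
      obtain ⟨-, ha⟩ := corner_mul he a
      obtain ⟨hb, -⟩ := corner_mul he b.unop
      rw [← mul_assoc, ← mul_assoc, ha, mul_assoc _ e, hb]
  constructor
  · rw [injective_iff_map_eq_zero]
    intro z hz
    rw [← hPΨ z]
    have : Ψ z = 0 := by
      apply (IsAzumaya.bij (R := R) (A := A)).1
      refine LinearMap.ext fun y => ?_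
      rw [hkey, hz, map_zero]
      simp
    rw [this, map_zero]
  · intro f
    obtain ⟨w, hw⟩ := (IsAzumaya.bij (R := R) (A := A)).2 (ι (R := R) he ∘ₗ f ∘ₗ π (R := R) he)
    refine ⟨Prj w, LinearMap.ext fun b => ?_⟩
    have h1 : ∀ v : A ⊗[R] Aᵐᵒᵖ, AlgHom.mulLeftRight R he.Corner (Prj v) b =
        π (R := R) he (AlgHom.mulLeftRight R A v (ι (R := R) he b)) := fun v => by
      induction v using TensorProduct.induction_on with
      | zero => simp
      | add a c ha hc => simp [ha, hc]
      | tmul a x =>
        simp only [Prj, TensorProduct.map_tmul, AlgHom.mulLeftRight_apply, pop, LinearMap.comp_apply]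
        apply Subtype.ext
        show e * a * e * b.1 * (e * x.unop * e) = e * (a * b.1 * x.unop) * e
        obtain ⟨hb, hb'⟩ := corner_mul he b
        simp only [mul_assoc]
        rw [← mul_assoc e b.1, hb, ← mul_assoc b.1 e, hb']
    rw [h1, hw]
    simp [π_ι]

theorem isAzumaya_corner [ConnectedSpace (PrimeSpectrum R)] (h0 : e ≠ 0) : IsAzumaya R he.Corner := by
  haveI : Nontrivial he.Corner := nontrivial_of_ne 1 0 fun h => h0 (congrArg (fun b : he.Corner => b.1) h)
  haveI := faithful (R := R) he.Corner
  exact ⟨bij_corner he⟩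

noncomputable def lmulAe : A →ₐ[R] Module.End R (Ae R e) :=
  AlgHom.ofLinearMap
    { toFun := fun a => (LinearMap.mulLeft R a).restrict (p := Ae R e) (q := Ae R e) fun y hy => by
        obtain ⟨x, rfl⟩ := hy
        exact ⟨a * x, by simp [mul_assoc]⟩
      map_add' := fun a b => LinearMap.ext fun y => Subtype.ext (add_mul _ _ _)
      map_smul' := fun r a => LinearMap.ext fun y => Subtype.ext (smul_mul_assoc _ _ _) }
    (LinearMap.ext fun y => Subtype.ext (one_mul _))
    (fun a b => LinearMap.ext fun y => Subtype.ext (mul_assoc _ _ _))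

noncomputable def rmulAe : he.Cornerᵐᵒᵖ →ₐ[R] Module.End R (Ae R e) :=
  AlgHom.ofLinearMap
    { toFun := fun b => (LinearMap.mulRight R (b.unop).1).restrict (p := Ae R e) (q := Ae R e)
        fun y hy => ⟨y * b.unop.1, by
          simp only [LinearMap.mulRight_apply, mul_assoc, (corner_mul he b.unop).2]⟩
      map_add' := fun a b => LinearMap.ext fun y => Subtype.ext (mul_add _ _ _)
      map_smul' := fun r a => LinearMap.ext fun y => Subtype.ext (by
        show (y : A) * (r • a.unop).1 = r • ((y : A) * a.unop.1)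
        rw [smul_val he, mul_smul_comm]) }
    (LinearMap.ext fun y => Subtype.ext (Ae_mul he y))
    (fun a b => LinearMap.ext fun y => Subtype.ext (mul_assoc _ _ _).symm)

theorem exists_algEquiv : Nonempty (A ⊗[R] he.Cornerᵐᵒᵖ ≃ₐ[R] Module.End R (Ae R e)) := by
  let Φ := Algebra.TensorProduct.lift (lmulAe (R := R) (e := e)) (rmulAe (R := R) he) fun a b =>
    LinearMap.ext fun y => Subtype.ext (mul_assoc a (y : A) b.unop.1).symm
  let iop : he.Cornerᵐᵒᵖ →ₗ[R] Aᵐᵒᵖ :=
    (opLinearEquiv R).toLinearMap ∘ₗ ι (R := R) he ∘ₗ (opLinearEquiv R).symm.toLinearMap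
  let pop : Aᵐᵒᵖ →ₗ[R] he.Cornerᵐᵒᵖ :=
    (opLinearEquiv R).toLinearMap ∘ₗ π (R := R) he ∘ₗ (opLinearEquiv R).symm.toLinearMap
  let Ψ := TensorProduct.map (LinearMap.id : A →ₗ[R] A) iop
  let Prj := TensorProduct.map (LinearMap.id : A →ₗ[R] A) pop
  have hPΨ : ∀ z, Prj (Ψ z) = z := fun z => by
    induction z using TensorProduct.induction_on with
    | zero => simp
    | add a b ha hb => simp [ha, hb]
    | tmul a b => simp [Ψ, Prj, iop, pop, π_ι]
  have hkey : ∀ z (y : Ae R e), (Φ z y : A) = AlgHom.mulLeftRight R A (Ψ z) y := fun z y => by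
    induction z using TensorProduct.induction_on with
    | zero => simp
    | add a b ha hb => simp [ha, hb]
    | tmul a b =>
      simp only [Φ, Algebra.TensorProduct.lift_tmul, Ψ, TensorProduct.map_tmul,
        AlgHom.mulLeftRight_apply, LinearMap.id_apply]
      show a * ((y : A) * b.unop.1) = a * y * b.unop.1
      rw [mul_assoc]
  have hye : ∀ z (y : A), AlgHom.mulLeftRight R A (Ψ z) y = AlgHom.mulLeftRight R A (Ψ z) (y * e) :=
    fun z y => by
      induction z using TensorProduct.induction_on with
      | zero => simp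
      | add a b ha hb => simp [ha, hb]
      | tmul a b =>
        simp only [Ψ, TensorProduct.map_tmul, AlgHom.mulLeftRight_apply]
        show a * y * b.unop.1 = a * (y * e) * b.unop.1
        simp only [mul_assoc, (corner_mul he b.unop).1]
  refine ⟨AlgEquiv.ofBijective Φ ⟨?_, ?_⟩⟩
  · rw [injective_iff_map_eq_zero]
    intro z hz
    have : Ψ z = 0 := by
      apply (IsAzumaya.bij (R := R) (A := A)).1
      refine LinearMap.ext fun y => ?_
      rw [hye, ← hkey z ⟨y * e, y, rfl⟩, hz]
      simp
    rw [← hPΨ z, this, map_zero]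
  · intro f
    obtain ⟨w, hw⟩ := (IsAzumaya.bij (R := R) (A := A)).2
      ((Ae R e).subtype ∘ₗ f ∘ₗ (LinearMap.mulRight R e).rangeRestrict)
    refine ⟨Prj w, LinearMap.ext fun y => Subtype.ext ?_⟩
    have h1 : ∀ v : A ⊗[R] Aᵐᵒᵖ,
        AlgHom.mulLeftRight R A (Ψ (Prj v)) y = AlgHom.mulLeftRight R A v y * e := fun v => by
      induction v using TensorProduct.induction_on with
      | zero => simp
      | add a c ha hc => simp [ha, hc, add_mul]
      | tmul a x =>
        simp only [Ψ, Prj, TensorProduct.map_tmul, AlgHom.mulLeftRight_apply]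
        show a * (y : A) * (e * x.unop * e) = a * y * x.unop * e
        simp only [mul_assoc]
        rw [← mul_assoc (y : A) e, Ae_mul he y]
    rw [hkey, h1, hw]
    have hy : (LinearMap.mulRight R e).rangeRestrict (y : A) = y := Subtype.ext (Ae_mul he y)
    simp [hy, Ae_mul he]

theorem rank_lt [ConnectedSpace (PrimeSpectrum R)] (h1 : e ≠ 1) (p : PrimeSpectrum R) :
    Module.rankAtStalk (R := R) he.Corner p < Module.rankAtStalk (R := R) A p := by
  let K := LinearMap.ker (π (R := R) he)
  let q : A →ₗ[R] K := (LinearMap.id - ι (R := R) he ∘ₗ π (R := R) he).codRestrict K fun x => by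
    rw [LinearMap.mem_ker]
    simp [π_ι]
  haveI : Module.Finite R K := Module.Finite.of_surjective q fun y => ⟨y, Subtype.ext (by
    simp [q, LinearMap.mem_ker.mp y.2])⟩
  haveI : Module.Projective R K := Module.Projective.of_split K.subtype q (LinearMap.ext fun y =>
    Subtype.ext (by simp [q, LinearMap.mem_ker.mp y.2]))
  haveI : Nontrivial K := by
    have hm : (1 - e) ∈ K := LinearMap.mem_ker.mpr (Subtype.ext (show e * (1 - e) * e = 0 by
      rw [mul_sub, mul_one, he.eq, sub_self, zero_mul]))
    exact nontrivial_of_ne ⟨1 - e, hm⟩ 0 fun h => h1 (sub_eq_zero.mp (congrArg Subtype.val h)).symm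
  let eq : A ≃ₗ[R] he.Corner × K :=
    LinearEquiv.ofLinearMap ((π (R := R) he).prod q) ((ι (R := R) he).coprod K.subtype)
      (LinearMap.ext fun ⟨b, y⟩ => Prod.ext (by simp [π_ι, LinearMap.mem_ker.mp y.2])
        (Subtype.ext (by simp [q, π_ι, LinearMap.mem_ker.mp y.2])))
      (LinearMap.ext fun x => by simp [q])
  rw [congrFun (Module.rankAtStalk_eq_of_equiv eq) p, Module.rankAtStalk_prod, Pi.add_apply]
  exact Nat.lt_add_of_pos_right (rank_pos K p)

end Groth.Agent.Lib.Brauer.AzumayaCorner

namespace Groth.Agent.Lib.Brauer.AzumayaCorner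

variable {R : Type u} [CommRing R]

theorem endTensorEnd_equiv (M : Type u) [AddCommMonoid M] [Module R M] [Module.Finite R M]
    [Module.Projective R M] (N : Type u) [AddCommMonoid N] [Module R N] [Module.Finite R N]
    [Module.Projective R N] :
    Nonempty (Module.End R M ⊗[R] Module.End R N ≃ₐ[R] Module.End R (M ⊗[R] N)) := by
  refine ⟨AlgEquiv.ofBijective (Module.endTensorEndAlgHom (R := R) (S := R) (A := R)) ?_⟩
  have h : (Module.endTensorEndAlgHom (R := R) (S := R) (A := R) (M := M) (N := N)).toLinearMap =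
      (homTensorHomEquiv R M N M N).toLinearMap := by
    rw [homTensorHomEquiv_toLinearMap]
    exact TensorProduct.ext' fun f g => by
      simp [Module.endTensorEndAlgHom_apply, TensorProduct.homTensorHomMap_apply]
      rfl
  have h' : ∀ x, Module.endTensorEndAlgHom (R := R) (S := R) (A := R) (M := M) (N := N) x =
      homTensorHomEquiv R M N M N x := fun x => LinearMap.congr_fun h x
  rw [show ⇑(Module.endTensorEndAlgHom (R := R) (S := R) (A := R) (M := M) (N := N)) =
    ⇑(homTensorHomEquiv R M N M N) from funext h']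
  exact LinearEquiv.bijective _

theorem nontrivial_of_faithful [Nontrivial R] (M : Type u) [AddCommGroup M] [Module R M]
    [FaithfulSMul R M] : Nontrivial M := by
  by_contra h
  haveI := not_nontrivial_iff_subsingleton.mp h
  exact zero_ne_one (FaithfulSMul.eq_of_smul_eq_smul (α := M) (m₁ := (0 : R)) (m₂ := 1)
    fun _ => Subsingleton.elim _ _)

theorem nontrivial_tensor [ConnectedSpace (PrimeSpectrum R)] (M N : Type u) [AddCommGroup M]
    [Module R M] [Module.Finite R M] [Module.Projective R M] [Nontrivial M] [AddCommGroup N]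
    [Module R N] [Module.Finite R N] [Module.Projective R N] [Nontrivial N] :
    Nontrivial (M ⊗[R] N) := by
  by_contra h
  haveI := not_nontrivial_iff_subsingleton.mp h
  let p : PrimeSpectrum R := Classical.arbitrary _
  have h0 := congrFun (Module.rankAtStalk_eq_zero_of_subsingleton (R := R) (M := M ⊗[R] N)) p
  rw [Module.rankAtStalk_tensorProduct, Pi.mul_apply, Pi.zero_apply] at h0
  exact (Nat.mul_pos (rank_pos M p) (rank_pos N p)).ne' h0

noncomputable def chain {A C B EC EA EP EQ X Y : Type u} [Semiring A] [Algebra R A] [Semiring C]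
    [Algebra R C] [Semiring B] [Algebra R B] [Semiring EC] [Algebra R EC] [Semiring EA] [Algebra R EA]
    [Semiring EP] [Algebra R EP] [Semiring EQ] [Algebra R EQ] [Semiring X] [Algebra R X] [Semiring Y] [Algebra R Y]
    (E₁ : A ⊗[R] EC ≃ₐ[R] C ⊗[R] EA) (E : C ⊗[R] EP ≃ₐ[R] B ⊗[R] EQ)
    (fP : EC ⊗[R] EP ≃ₐ[R] X) (fQ : EQ ⊗[R] EA ≃ₐ[R] Y) : A ⊗[R] X ≃ₐ[R] B ⊗[R] Y :=
  (Algebra.TensorProduct.congr AlgEquiv.refl fP.symm).trans <|
  (Algebra.TensorProduct.assoc R R R A EC EP).symm.trans <|
  (Algebra.TensorProduct.congr E₁ AlgEquiv.refl).trans <|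
  (Algebra.TensorProduct.assoc R R R C EA EP).trans <|
  (Algebra.TensorProduct.congr AlgEquiv.refl (Algebra.TensorProduct.comm R EA EP)).trans <|
  (Algebra.TensorProduct.assoc R R R C EP EA).symm.trans <|
  (Algebra.TensorProduct.congr E AlgEquiv.refl).trans <|
  (Algebra.TensorProduct.assoc R R R B EQ EA).trans <|
  Algebra.TensorProduct.congr AlgEquiv.refl fQ

set_option maxHeartbeats 1000000 in
set_option synthInstance.maxHeartbeats 100000 in
theorem main [ConnectedSpace (PrimeSpectrum R)] : ∀ (n : ℕ) (A : Type u) [Ring A] [Algebra R A]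
    [IsAzumaya R A], Module.rankAtStalk (R := R) A (Classical.arbitrary _) = n →
    ∃ (B : Type u) (_ : Ring B) (_ : Algebra R B) (_ : IsAzumaya R B) (P Q : Type u)
      (_ : AddCommGroup P) (_ : Module R P) (_ : AddCommGroup Q) (_ : Module R Q),
      (∀ b : B, IsIdempotentElem b → b = 0 ∨ b = 1) ∧ Module.Finite R P ∧ Module.Projective R P ∧
      FaithfulSMul R P ∧ Module.Finite R Q ∧ Module.Projective R Q ∧ FaithfulSMul R Q ∧
      Nonempty (A ⊗[R] Module.End R P ≃ₐ[R] B ⊗[R] Module.End R Q) := by
  intro n
  induction n using Nat.strongRecOn with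
  | _ n ih =>
  intro A _ _ _ hn
  have hNR : Nontrivial R := PrimeSpectrum.nontrivial (Classical.arbitrary _)
  by_cases htriv : ∀ b : A, IsIdempotentElem b → b = 0 ∨ b = 1
  · exact ⟨A, inferInstance, inferInstance, inferInstance, R, R, inferInstance, inferInstance,
      inferInstance, inferInstance, htriv, inferInstance, inferInstance, inferInstance,
      inferInstance, inferInstance, inferInstance, ⟨AlgEquiv.refl⟩⟩
  push Not at htriv
  obtain ⟨e, he, h0, h1⟩ := htriv
  haveI := isAzumaya_corner (R := R) he h0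
  haveI := Ae_finite (R := R) (e := e) (A := A)
  haveI := Ae_projective (R := R) he
  haveI : Nontrivial (Ae R e) := nontrivial_of_ne ⟨e, e, he.eq⟩ 0 fun h => h0 (congrArg Subtype.val h)
  haveI := faithful (R := R) (Ae R e)
  obtain ⟨B, _, _, _, P, Q, _, _, _, _, hB, _, _, _, _, _, _, ⟨E⟩⟩ :=
    ih _ (hn ▸ rank_lt he h1 _) he.Corner rfl
  obtain ⟨Φ⟩ := exists_algEquiv (R := R) he
  let ε : he.Corner ⊗[R] he.Cornerᵐᵒᵖ ≃ₐ[R] Module.End R he.Corner :=
    AlgEquiv.ofBijective _ IsAzumaya.bij
  let E₁ : A ⊗[R] Module.End R he.Corner ≃ₐ[R] he.Corner ⊗[R] Module.End R (Ae R e) :=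
    (Algebra.TensorProduct.congr AlgEquiv.refl
      (ε.symm.trans (Algebra.TensorProduct.comm R he.Corner he.Cornerᵐᵒᵖ))).trans <|
    (Algebra.TensorProduct.assoc R R R A he.Cornerᵐᵒᵖ he.Corner).symm.trans <|
    (Algebra.TensorProduct.congr Φ AlgEquiv.refl).trans (Algebra.TensorProduct.comm R _ _)
  haveI : Nontrivial he.Corner := nontrivial_of_faithful (R := R) he.Corner
  obtain ⟨fP⟩ := endTensorEnd_equiv (R := R) he.Corner P
  obtain ⟨fQ⟩ := endTensorEnd_equiv (R := R) Q (Ae R e)
  refine ⟨B, inferInstance, inferInstance, inferInstance, he.Corner ⊗[R] P, Q ⊗[R] Ae R e,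
    inferInstance, inferInstance, inferInstance, inferInstance, hB, inferInstance, inferInstance,
    ?_, inferInstance, inferInstance, ?_, ⟨?_⟩⟩
  · haveI : Nontrivial (he.Corner ⊗[R] P) := by
      haveI : Nontrivial P := nontrivial_of_faithful (R := R) P
      exact nontrivial_tensor _ _
    exact faithful _
  · haveI : Nontrivial (Q ⊗[R] Ae R e) := by
      haveI : Nontrivial Q := nontrivial_of_faithful (R := R) Q
      exact nontrivial_tensor _ _
    exact faithful _
  · exact chain E₁ E fP fQ

end Groth.Agent.Lib.Brauer.AzumayaCorner
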