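import Groth.Agent.Lib.Brauer.AzumayaBasics
import Groth.Agent.H48.MilGlue

/-! Azumaya algebras over Milnor squares. -/

set_option autoImplicit false
universe u v w

open scoped TensorProduct

namespace Groth.Agent.Lib.Brauer.AzumayaGlue

open Groth.Agent.Lib.Azumaya Groth.Agent.H48

theorem fibre_of_prime {R : Type u} [CommRing R] (S : Type v) [CommRing S] [Algebra R S]
    (B : Type w) [Ring B] [Algebra R B] [IsAzumaya S (S ⊗[R] B)] (q : Ideal S) [q.IsPrime] :
    Algebra.IsCentral (q.comap (algebraMap R S)).ResidueField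
        ((q.comap (algebraMap R S)).ResidueField ⊗[R] B) ∧
      IsSimpleRing ((q.comap (algebraMap R S)).ResidueField ⊗[R] B) := by
  let k := (q.comap (algebraMap R S)).ResidueField
  let K := q.ResidueField
  letI : Algebra k K :=
    (Ideal.ResidueField.map (q.comap (algebraMap R S)) q (algebraMap R S) rfl).toAlgebra
  haveI : IsScalarTower R k K := IsScalarTower.of_algebraMap_eq fun r => by
    show algebraMap R K r =
      Ideal.ResidueField.map (q.comap (algebraMap R S)) q (algebraMap R S) rfl (algebraMap R k r)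
    simp [K, k, ← IsScalarTower.algebraMap_apply R S q.ResidueField]
  obtain ⟨hc, hs⟩ := Criterion.central_simple_baseChange (R := S) (S ⊗[R] B) K
  let e : (K ⊗[S] (S ⊗[R] B)) ≃ₐ[K] K ⊗[k] (k ⊗[R] B) :=
    (Criterion.cancelBaseChange R S K B).trans (Criterion.cancelBaseChange R k K B).symm
  haveI : IsSimpleRing (K ⊗[k] (k ⊗[R] B)) := IsSimpleRing.of_ringEquiv e.toRingEquiv hs
  haveI : Algebra.IsCentral K (K ⊗[k] (k ⊗[R] B)) := ⟨fun x hx => by
    have hx' : e.symm x ∈ Subalgebra.center K (K ⊗[S] (S ⊗[R] B)) := by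
      rw [Subalgebra.mem_center_iff] at hx ⊢
      intro y
      apply e.injective
      simp [hx (e y)]
    rw [Algebra.IsCentral.center_eq_bot, Algebra.mem_bot] at hx'
    obtain ⟨c, hc⟩ := hx'
    exact Algebra.mem_bot.mpr ⟨c, by rw [← e.commutes c, hc, AlgEquiv.apply_symm_apply]⟩⟩
  exact ⟨Groth.Agent.Lib.CSA.Basic.isCentral_of_baseChange k (k ⊗[R] B) K,
    Groth.Agent.Lib.CSA.Basic.isSimpleRing_of_baseChange k (k ⊗[R] B) K⟩

variable {B' B A' A : Type u} [CommRing B'] [CommRing B] [CommRing A'] [CommRing A]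
  [Algebra B' B] [Algebra B' A'] [Algebra B A] [Algebra A' A] [Algebra B' A]
  [IsScalarTower B' B A] [IsScalarTower B' A' A]

/-- Every prime of the fibre product comes from one of the two factors. -/
theorem exists_prime_over (hsq : EtMil.IsFibreSquare B' B A' A) (p : Ideal B') [p.IsPrime] :
    (∃ q : Ideal B, ∃ _ : q.IsPrime, p = q.comap (algebraMap B' B)) ∨
      ∃ q : Ideal A', ∃ _ : q.IsPrime, p = q.comap (algebraMap B' A') := by
  by_cases h : RingHom.ker (algebraMap B' B) ≤ p
  · refine Or.inl ⟨p.map (algebraMap B' B),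
      Ideal.map_isPrime_of_surjective (Mil.surjective_left hsq) h, ?_⟩
    rw [Ideal.comap_map_of_surjective _ (Mil.surjective_left hsq)]
    exact (sup_eq_left.mpr h).symm
  · obtain ⟨j, hj, hjp⟩ := SetLike.not_le_iff_exists.mp h
    obtain ⟨μ, hμ1, hμ⟩ := Mil.exists_mu hsq j hj
    have hmul : ∀ r a, j * μ (r * a) = μ r * μ a := fun r a =>
      Mil.ext_square hsq (by simp [(hμ r).1, (hμ (r * a)).1])
        (by simp [(hμ r).2, (hμ (r * a)).2, (hμ a).2]; ring)
    let q : Ideal A' :=
      { carrier := {a | μ a ∈ p}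
        add_mem' := fun {a b} ha hb => by
          show μ (a + b) ∈ p
          rw [map_add]; exact p.add_mem ha hb
        zero_mem' := by
          show μ 0 ∈ p
          rw [map_zero]; exact p.zero_mem
        smul_mem' := fun r a (ha : μ a ∈ p) => by
          show μ (r * a) ∈ p
          have : j * μ (r * a) ∈ p := by rw [hmul]; exact p.mul_mem_left _ ha
          exact ((Ideal.IsPrime.mem_or_mem inferInstance this).resolve_left hjp) }
    have hq : q.IsPrime := by
      constructor
      · rw [Ideal.ne_top_iff_one]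
        show μ 1 ∉ p
        rw [hμ1]; exact hjp
      · intro r a (hra : μ (r * a) ∈ p)
        have : μ r * μ a ∈ p := by rw [← hmul]; exact p.mul_mem_left _ hra
        exact (Ideal.IsPrime.mem_or_mem (I := p) inferInstance this : μ r ∈ p ∨ μ a ∈ p)
    refine Or.inr ⟨q, hq, Ideal.ext fun b => ?_⟩
    show b ∈ p ↔ μ (algebraMap B' A' b) ∈ p
    rw [Algebra.algebraMap_eq_smul_one, map_smul, hμ1, smul_eq_mul]
    exact ⟨fun hb => p.mul_mem_right _ hb,
      fun hb => (Ideal.IsPrime.mem_or_mem inferInstance hb).resolve_right hjp⟩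

theorem isAzumaya_of_pair (hsq : EtMil.IsFibreSquare B' B A' A) (D' : Type u) [Ring D']
    [Algebra B' D'] [IsAzumaya B (B ⊗[B'] D')] [IsAzumaya A' (A' ⊗[B'] D')] :
    IsAzumaya B' D' := by
  haveI : Module.FinitePresentation B (B ⊗[B'] D') := Module.finitePresentation_of_projective _ _
  haveI : Module.FinitePresentation A' (A' ⊗[B'] D') := Module.finitePresentation_of_projective _ _
  haveI := Mil.finitePresentation_of_baseChange hsq D'
  haveI := Mil.flat_of_baseChange hsq D'
  haveI : Module.Projective B' D' := Module.Flat.projective_of_finitePresentation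
  rw [Criterion.isAzumaya_iff_fibres]
  intro p hp
  rcases exists_prime_over hsq p with ⟨q, hq, rfl⟩ | ⟨q, hq, rfl⟩
  · exact fibre_of_prime B D' q
  · exact fibre_of_prime A' D' q

theorem isAzumaya_of_glue (hsq : EtMil.IsFibreSquare B' B A' A)
    {N : Type u} [Ring N] [Algebra B N] [Algebra B' N] [IsScalarTower B' B N] [IsAzumaya B N]
    {M' : Type u} [Ring M'] [Algebra A' M'] [Algebra B' M'] [IsScalarTower B' A' M'] [IsAzumaya A' M']
    (φ : A ⊗[B] N ≃ₐ[A] A ⊗[A'] M')
    {D' : Type u} [Ring D'] [Algebra B' D'] (π₁ : D' →ₐ[B'] N) (π₂ : D' →ₐ[B'] M')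
    (hinj : ∀ d : D', π₁ d = 0 → π₂ d = 0 → d = 0)
    (himg : ∀ (n : N) (m' : M'), φ ((1 : A) ⊗ₜ[B] n) = (1 : A) ⊗ₜ[A'] m' ↔
      ∃ d : D', π₁ d = n ∧ π₂ d = m') :
    IsAzumaya B' D' := by
  let φl : A ⊗[B] N ≃ₗ[A] A ⊗[A'] M' := φ.toLinearEquiv
  let l : D' →ₗ[B'] EtMil.glue B' φl :=
    LinearMap.codRestrict _ (π₁.toLinearMap.prod π₂.toLinearMap) fun d =>
      (himg _ _).mpr ⟨d, rfl, rfl⟩
  have hl : Function.Bijective l := by
    constructor
    · rw [injective_iff_map_eq_zero]
      intro d hd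
      exact hinj d (congrArg (fun z : EtMil.glue B' φl => (z : N × M').1) hd)
        (congrArg (fun z : EtMil.glue B' φl => (z : N × M').2) hd)
    · rintro ⟨⟨n, m⟩, hnm⟩
      obtain ⟨d, h1, h2⟩ := (himg n m).mp hnm
      exact ⟨d, Subtype.ext (Prod.ext h1 h2)⟩
  let e := LinearEquiv.ofBijective l hl
  let gB : B ⊗[B'] D' →ₐ[B] N :=
    Algebra.TensorProduct.lift (Algebra.ofId B N) π₁ fun b d => Algebra.commutes b (π₁ d)
  have hgB : Function.Bijective gB := by
    have h : ∀ x, gB x =
        LinearMap.liftBaseChange B (EtMil.glueFst B' φl) (e.toLinearMap.lTensor B x) := fun x => by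
      induction x using TensorProduct.induction_on with
      | zero => simp
      | add x y hx hy => simp [hx, hy]
      | tmul b d => simp [gB, e, l, EtMil.glueFst, Algebra.smul_def]
    rw [show (gB : B ⊗[B'] D' → N) = _ from funext h]
    exact (Mil.bijective_glueFst hsq φl).comp (e.lTensor B).bijective
  let gA : A' ⊗[B'] D' →ₐ[A'] M' :=
    Algebra.TensorProduct.lift (Algebra.ofId A' M') π₂ fun b d => Algebra.commutes b (π₂ d)
  have hgA : Function.Bijective gA := by
    have h : ∀ x, gA x =
        LinearMap.liftBaseChange A' (EtMil.glueSnd B' φl) (e.toLinearMap.lTensor A' x) := fun x => by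
      induction x using TensorProduct.induction_on with
      | zero => simp
      | add x y hx hy => simp [hx, hy]
      | tmul b d => simp [gA, e, l, EtMil.glueSnd, Algebra.smul_def]
    rw [show (gA : A' ⊗[B'] D' → M') = _ from funext h]
    exact (Mil.bijective_glueSnd hsq φl).comp (e.lTensor A').bijective
  haveI := IsAzumaya.of_AlgEquiv B _ _ (AlgEquiv.ofBijective gB hgB).symm
  haveI := IsAzumaya.of_AlgEquiv A' _ _ (AlgEquiv.ofBijective gA hgA).symm
  exact isAzumaya_of_pair hsq D'

end Groth.Agent.Lib.Brauer.AzumayaGlue
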