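import Groth.Agent.Lib.Brauer.TPow
import Groth.Agent.Lib.CSA.Basic
import Groth.Agent.Lib.CSA.Division
import Groth.Agent.Lib.CSA.Splitting
import Mathlib.RingTheory.MatrixAlgebra
import Mathlib.LinearAlgebra.Matrix.Reindex

/-!
# Brauer equivalence of algebras over a field
-/

namespace Groth.Agent.Lib.Brauer.BEq

set_option linter.style.haveILetI false

open scoped TensorProduct
open Groth.Agent.Lib

universe u v w x y

variable (k : Type u) [Field k]

/-- Brauer equivalence: matrix algebras of positive sizes are isomorphic. -/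
structure BEq (A : Type v) [Ring A] [Algebra k A] (B : Type w) [Ring B] [Algebra k B] : Prop where
  /-- The witnesses. -/
  out : ∃ n m : ℕ, n ≠ 0 ∧ m ≠ 0 ∧ Nonempty (Matrix (Fin n) (Fin n) A ≃ₐ[k] Matrix (Fin m) (Fin m) B)

variable {k}
variable {A : Type v} [Ring A] [Algebra k A] {B : Type w} [Ring B] [Algebra k B]
  {C : Type x} [Ring C] [Algebra k C] {D : Type y} [Ring D] [Algebra k D]

/-- Matrices of matrices. -/
noncomputable def matMat (k : Type u) [Field k] (A : Type v) [Ring A] [Algebra k A] (n m : ℕ) :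
    Matrix (Fin n) (Fin n) (Matrix (Fin m) (Fin m) A) ≃ₐ[k] Matrix (Fin (n * m)) (Fin (n * m)) A :=
  (Matrix.compAlgEquiv _ _ _ _).trans (Matrix.reindexAlgEquiv _ _ finProdFinEquiv)

theorem of_algEquiv (e : A ≃ₐ[k] B) : BEq k A B :=
  ⟨⟨1, 1, one_ne_zero, one_ne_zero, ⟨e.mapMatrix⟩⟩⟩

theorem refl : BEq k A A := of_algEquiv AlgEquiv.refl

theorem BEq.symm (h : BEq k A B) : BEq k B A :=
  let ⟨n, m, hn, hm, ⟨e⟩⟩ := h.out
  ⟨⟨m, n, hm, hn, ⟨e.symm⟩⟩⟩

theorem BEq.trans (h₁ : BEq k A B) (h₂ : BEq k B C) : BEq k A C := by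
  obtain ⟨n, m, hn, hm, ⟨e₁⟩⟩ := h₁.out
  obtain ⟨p, q, hp, hq, ⟨e₂⟩⟩ := h₂.out
  exact ⟨⟨p * n, m * q, mul_ne_zero hp hn, mul_ne_zero hm hq,
    ⟨(matMat k A p n).symm.trans (e₁.mapMatrix.trans ((matMat k B p m).trans
      ((Matrix.reindexAlgEquiv k B (finCongr (Nat.mul_comm p m))).trans
        ((matMat k B m p).symm.trans (e₂.mapMatrix.trans (matMat k C m q))))))⟩⟩⟩

theorem matrix_equiv (n : ℕ) [NeZero n] : BEq k (Matrix (Fin n) (Fin n) A) A := by
  refine ⟨⟨1, n, one_ne_zero, NeZero.ne n, ⟨(matMat k A 1 n).trans ?_⟩⟩⟩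
  exact Matrix.reindexAlgEquiv k A (finCongr (one_mul n))

theorem of_matrix_equiv {n : ℕ} (hn : n ≠ 0) (e : A ≃ₐ[k] Matrix (Fin n) (Fin n) B) : BEq k A B :=
  haveI : NeZero n := ⟨hn⟩
  (of_algEquiv e).trans (matrix_equiv n)

theorem BEq.tensor (h₁ : BEq k A B) (h₂ : BEq k C D) : BEq k (A ⊗[k] C) (B ⊗[k] D) := by
  obtain ⟨n, m, hn, hm, ⟨e₁⟩⟩ := h₁.out
  obtain ⟨p, q, hp, hq, ⟨e₂⟩⟩ := h₂.out
  exact ⟨⟨n * p, m * q, mul_ne_zero hn hp, mul_ne_zero hm hq,
    ⟨(Matrix.reindexAlgEquiv k _ finProdFinEquiv).symm.trans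
      ((Matrix.kroneckerTMulAlgEquiv (Fin n) (Fin p) k k A C).symm.trans
        ((Algebra.TensorProduct.congr e₁ e₂).trans
          ((Matrix.kroneckerTMulAlgEquiv (Fin m) (Fin q) k k B D).trans
            (Matrix.reindexAlgEquiv k _ finProdFinEquiv))))⟩⟩⟩

theorem lid : BEq k (k ⊗[k] A) A := of_algEquiv (Algebra.TensorProduct.lid k A)

theorem rid : BEq k (A ⊗[k] k) A := of_algEquiv (Algebra.TensorProduct.rid k k A)

theorem comm : BEq k (A ⊗[k] B) (B ⊗[k] A) := of_algEquiv (Algebra.TensorProduct.comm k A B)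

theorem assoc : BEq k ((A ⊗[k] B) ⊗[k] C) (A ⊗[k] (B ⊗[k] C)) :=
  of_algEquiv (Algebra.TensorProduct.assoc k k k A B C)

theorem tensor_right_split (h : BEq k B k) : BEq k (A ⊗[k] B) A :=
  ((refl (A := A)).tensor h).trans rid

theorem splits_iff : Curves.Splits k A k ↔ ∃ n : ℕ, n ≠ 0 ∧ Nonempty (A ≃ₐ[k] Matrix (Fin n) (Fin n) k) :=
  ⟨fun ⟨n, hn, ⟨e⟩⟩ => ⟨n, hn, ⟨(Algebra.TensorProduct.lid k A).symm.trans e⟩⟩,
    fun ⟨n, hn, ⟨e⟩⟩ => ⟨n, hn, ⟨(Algebra.TensorProduct.lid k A).trans e⟩⟩⟩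

theorem of_splits (h : Curves.Splits k A k) : BEq k A k :=
  let ⟨_, hn, ⟨e⟩⟩ := splits_iff.mp h
  of_matrix_equiv hn e

/-- Brauer equivalent algebras are split by the same fields. -/
theorem splits_of_beq [Algebra.IsCentral k A] [IsSimpleRing A] [FiniteDimensional k A]
    [Algebra.IsCentral k B] [IsSimpleRing B] [FiniteDimensional k B]
    (h : BEq k A B) (L : Type x) [Field L] [Algebra k L] (hB : Curves.Splits k B L) :
    Curves.Splits k A L := by
  obtain ⟨n, m, hn, hm, ⟨e⟩⟩ := h.out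
  haveI : NeZero n := ⟨hn⟩
  haveI : NeZero m := ⟨hm⟩
  exact CSA.Splitting.splits_of_matrix L n
    (CSA.Splitting.splits_congr L e (CSA.Splitting.splits_matrix L m hB))

theorem splits_of_beq_base [Algebra.IsCentral k A] [IsSimpleRing A] [FiniteDimensional k A]
    (h : BEq k A k) : Curves.Splits k A k :=
  splits_of_beq h k (splits_iff.mpr ⟨1, one_ne_zero,
    ⟨AlgEquiv.ofBijective (Algebra.ofId k (Matrix (Fin 1) (Fin 1) k))
      ⟨(algebraMap k (Matrix (Fin 1) (Fin 1) k)).injective, fun M => ⟨M 0 0, by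
        ext i j; simp [Subsingleton.elim i 0, Subsingleton.elim j 0, Algebra.ofId_apply,
          Matrix.algebraMap_matrix_apply]⟩⟩⟩⟩)

theorem beq_op [Algebra.IsCentral k A] [IsSimpleRing A] [FiniteDimensional k A] :
    BEq k (A ⊗[k] Aᵐᵒᵖ) k :=
  of_matrix_equiv (Module.finrank_pos (R := k) (M := A)).ne'
    ((AlgEquiv.ofBijective _ (CSA.Basic.mulLeftRight_bijective k A)).trans
      (LinearMap.toMatrixAlgEquiv (Module.finBasis k A)))

theorem cancel_left [Algebra.IsCentral k A] [IsSimpleRing A] [FiniteDimensional k A]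
    (h : BEq k (A ⊗[k] B) (A ⊗[k] C)) : BEq k B C := by
  have key : ∀ (E : Type x) [Ring E] [Algebra k E], BEq k (Aᵐᵒᵖ ⊗[k] (A ⊗[k] E)) E := fun E _ _ =>
    ((assoc (k := k) (A := Aᵐᵒᵖ) (B := A) (C := E)).symm).trans
      (((comm.trans beq_op).tensor (refl (A := E))).trans lid)
  have key' : BEq k (Aᵐᵒᵖ ⊗[k] (A ⊗[k] B)) B :=
    ((assoc (k := k) (A := Aᵐᵒᵖ) (B := A) (C := B)).symm).trans
      (((comm.trans beq_op).tensor (refl (A := B))).trans lid)
  exact key'.symm.trans (((refl (A := Aᵐᵒᵖ)).tensor h).trans (key C))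

theorem split_of_tensor_beq [Algebra.IsCentral k A] [IsSimpleRing A] [FiniteDimensional k A]
    (h : BEq k (A ⊗[k] B) A) : BEq k B k :=
  cancel_left (h.trans rid.symm)

/-- Brauer equivalent algebras have the same division algebra. -/
theorem divisionRing_equiv {D : Type x} [DivisionRing D] [Algebra k D] [FiniteDimensional k D]
    [Algebra.IsCentral k D] {D' : Type y} [DivisionRing D'] [Algebra k D'] [FiniteDimensional k D']
    (h : BEq k D D') : Nonempty (D ≃ₐ[k] D') :=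
  let ⟨_, _, hn, _, ⟨e⟩⟩ := h.out
  CSA.Division.divisionRing_unique hn e

end Groth.Agent.Lib.Brauer.BEq
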