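import Groth.Agent.Lib.Brauer.Maximal

/-!
# Base change of Brauer classes
-/

namespace Groth.Agent.Lib.Brauer.BaseChange

set_option linter.style.haveILetI false

open scoped TensorProduct
open Groth.Agent.Lib Groth.Agent.Lib.Brauer.BEq

universe u v w x

variable {k : Type u} [Field k] (K : Type x) [Field K] [Algebra k K]
variable {A : Type v} [Ring A] [Algebra k A] {B : Type w} [Ring B] [Algebra k B]
variable [Algebra.IsCentral k A] [IsSimpleRing A] [FiniteDimensional k A]
variable [Algebra.IsCentral k B] [IsSimpleRing B] [FiniteDimensional k B]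

variable (k) in
theorem csa (A : Type v) [Ring A] [Algebra k A] [Algebra.IsCentral k A] [IsSimpleRing A]
    [FiniteDimensional k A] :
    Algebra.IsCentral K (K ⊗[k] A) ∧ IsSimpleRing (K ⊗[k] A) ∧ FiniteDimensional K (K ⊗[k] A) :=
  ⟨CSA.Simple.isCentral_baseChange k K A, CSA.Simple.isSimpleRing_baseChange k K A, inferInstance⟩

omit [Algebra.IsCentral k B] [IsSimpleRing B] [FiniteDimensional k B] in
theorem beq_congr [Algebra.IsCentral k B] [IsSimpleRing B] [FiniteDimensional k B]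
    (h : BEq k A B) : BEq K (K ⊗[k] A) (K ⊗[k] B) := by
  obtain ⟨n, m, hn, hm, ⟨e⟩⟩ := h.out
  haveI : NeZero n := ⟨hn⟩
  haveI : NeZero m := ⟨hm⟩
  obtain ⟨f⟩ := CSA.Splitting.exists_matrix_tensor K A n (k := k)
  obtain ⟨g⟩ := CSA.Splitting.exists_matrix_tensor K B m (k := k)
  exact ⟨⟨n, m, hn, hm, ⟨f.symm.trans ((Algebra.TensorProduct.congr AlgEquiv.refl e).trans g)⟩⟩⟩

/-- Base change commutes with tensor products. -/
theorem exists_tensor_equiv :
    Nonempty (K ⊗[k] (A ⊗[k] B) ≃ₐ[K] (K ⊗[k] A) ⊗[K] (K ⊗[k] B)) := by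
  let h : (K ⊗[k] (A ⊗[k] B)) →ₐ[K] (K ⊗[k] A) ⊗[K] (K ⊗[k] B) :=
    Algebra.TensorProduct.lift (Algebra.ofId K _)
      (Algebra.TensorProduct.lift
        (((Algebra.TensorProduct.includeLeft : (K ⊗[k] A) →ₐ[K] _).restrictScalars k).comp
          Algebra.TensorProduct.includeRight)
        (((Algebra.TensorProduct.includeRight :
            (K ⊗[k] B) →ₐ[K] (K ⊗[k] A) ⊗[K] (K ⊗[k] B)).restrictScalars k).comp
          Algebra.TensorProduct.includeRight)
        fun a b => by simp [commute_iff_eq])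
      fun l x => Algebra.commutes l _
  haveI : IsSimpleRing (A ⊗[k] B) := CSA.Simple.isSimpleRing_tensor k A B
  haveI : Algebra.IsCentral k (A ⊗[k] B) := CSA.Simple.isCentral_tensor k A B
  obtain ⟨-, h1, -⟩ := csa k K A
  obtain ⟨-, h2, -⟩ := csa k K B
  obtain ⟨-, h3, -⟩ := csa k K (A ⊗[k] B)
  haveI : Nontrivial ((K ⊗[k] A) ⊗[K] (K ⊗[k] B)) := CSA.Simple.nontrivial_tensor
  refine ⟨AlgEquiv.ofBijective h (CSA.Splitting.bijective_of_simple h ?_)⟩
  simp [Module.finrank_tensorProduct, Module.finrank_baseChange]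

/-- Base change commutes with tensor powers up to Brauer equivalence. -/
theorem beq_tpow (n : ℕ) : BEq K (K ⊗[k] CSAGal.tpow k A n) (CSAGal.tpow K (K ⊗[k] A) n) := by
  induction n with
  | zero =>
    exact (of_algEquiv ((Algebra.TensorProduct.congr AlgEquiv.refl (TPow.tpowZero k A)).trans
      (Algebra.TensorProduct.rid k K K))).trans (of_algEquiv (TPow.tpowZero K (K ⊗[k] A))).symm
  | succ n ih =>
    obtain ⟨h1, h2, h3⟩ := Index.csa_tpow k A n
    obtain ⟨e⟩ := exists_tensor_equiv K (k := k) (A := CSAGal.tpow k A n) (B := A)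
    exact (of_algEquiv ((Algebra.TensorProduct.congr AlgEquiv.refl (TPow.tpowSucc k A n)).trans e)).trans
      ((ih.tensor refl).trans (of_algEquiv (TPow.tpowSucc K (K ⊗[k] A) n)).symm)

theorem splits_baseChange_iff : Curves.Splits K (K ⊗[k] A) K ↔ Curves.Splits k A K :=
  ⟨fun ⟨n, hn, ⟨e⟩⟩ => ⟨n, hn, ⟨(Algebra.TensorProduct.lid K (K ⊗[k] A)).symm.trans e⟩⟩,
    fun ⟨n, hn, ⟨e⟩⟩ => ⟨n, hn, ⟨(Algebra.TensorProduct.lid K (K ⊗[k] A)).trans e⟩⟩⟩

omit [Algebra.IsCentral k A] [IsSimpleRing A] [FiniteDimensional k A] in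
theorem splits_base (h : Curves.Splits k A k) [Algebra.IsCentral k A] [IsSimpleRing A]
    [FiniteDimensional k A] : Curves.Splits k A K :=
  CSA.Splitting.splits_mono k (Algebra.ofId k K) h

theorem splits_tpow_baseChange {n : ℕ} (h : Curves.Splits k (CSAGal.tpow k A n) k) :
    Curves.Splits K (CSAGal.tpow K (K ⊗[k] A) n) K := by
  obtain ⟨h1, h2, h3⟩ := Index.csa_tpow k A n
  obtain ⟨i1, i2, i3⟩ := csa k K A
  obtain ⟨j1, j2, j3⟩ := csa k K (CSAGal.tpow k A n)
  rw [Index.splits_tpow_iff]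
  exact (beq_tpow K n).symm.trans (of_splits ((splits_baseChange_iff K).mpr (splits_base K h)))

/-- A splitting field splits all tensor powers. -/
theorem splits_tpow (h : Curves.Splits k A K) (n : ℕ) : Curves.Splits k (CSAGal.tpow k A n) K := by
  obtain ⟨h1, h2, h3⟩ := Index.csa_tpow k A n
  obtain ⟨i1, i2, i3⟩ := csa k K A
  obtain ⟨j1, j2, j3⟩ := csa k K (CSAGal.tpow k A n)
  rw [← splits_baseChange_iff]
  refine splits_of_beq_base ((beq_tpow K n).trans ?_)
  exact (Index.tpow_congr (of_splits ((splits_baseChange_iff K).mpr h)) n).trans (Index.tpow_base n)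

/-- The index over a bigger field divides the index. -/
theorem index_baseChange_dvd {d d' : ℕ} (hd : CSAGal.IsIndex k A d)
    (hd' : CSAGal.IsIndex K (K ⊗[k] A) d') : d' ∣ d := by
  obtain ⟨hd0, m, D, _, _, _, _, -, hf, hb, -⟩ := Index.isIndex_elim hd
  obtain ⟨i1, i2, i3⟩ := csa k K A
  obtain ⟨j1, j2, j3⟩ := csa k K D
  have hKD := Index.index_congr hd' (beq_congr K hb)
  obtain ⟨-, s, E, _, _, _, _, -, hf', -, ⟨e⟩⟩ := Index.isIndex_elim hKD
  have h := e.toLinearEquiv.finrank_eq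
  rw [Module.finrank_baseChange, hf, Module.finrank_matrix, hf', Fintype.card_fin] at h
  refine ⟨s, ?_⟩
  refine Nat.pow_left_injective (show 2 ≠ 0 by norm_num) ?_
  show d ^ 2 = (d' * s) ^ 2
  rw [h]; ring

/-- Transitivity of base change. -/
theorem exists_cancel (L : Type w) [Field L] [Algebra k L] [Algebra K L] [IsScalarTower k K L] :
    Nonempty (L ⊗[k] A ≃ₐ[L] L ⊗[K] (K ⊗[k] A)) := by
  obtain ⟨i1, i2, i3⟩ := csa k K A
  obtain ⟨j1, j2, j3⟩ := csa k L A
  haveI : Nontrivial (L ⊗[K] (K ⊗[k] A)) := CSA.Simple.nontrivial_tensor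
  let f : L ⊗[k] A →ₐ[L] L ⊗[K] (K ⊗[k] A) :=
    Algebra.TensorProduct.lift (Algebra.ofId L _)
      (((Algebra.TensorProduct.includeRight : K ⊗[k] A →ₐ[K] _).restrictScalars k).comp
        Algebra.TensorProduct.includeRight) fun l x => Algebra.commutes l _
  refine ⟨AlgEquiv.ofBijective f (CSA.Splitting.bijective_of_simple f ?_)⟩
  simp [Module.finrank_baseChange]

/-- The index is at most the degree times the index over a bigger field. -/
theorem index_dvd_mul [FiniteDimensional k K] {d d' : ℕ} (hd : CSAGal.IsIndex k A d)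
    (hd' : CSAGal.IsIndex K (K ⊗[k] A) d') : d ∣ Module.finrank k K * d' := by
  obtain ⟨i1, i2, i3⟩ := csa k K A
  obtain ⟨hd0', m, D, _, _, _, _, -, hf, hb, -⟩ := Index.isIndex_elim hd'
  obtain ⟨L, _, _, -, hLfin, -, hLd, hLs⟩ := Maximal.exists_separable_degree D hf
  obtain ⟨n, hn, ⟨e⟩⟩ := splits_of_beq hb L hLs
  letI : Algebra k L := ((algebraMap K L).comp (algebraMap k K)).toAlgebra
  haveI : IsScalarTower k K L := IsScalarTower.of_algebraMap_eq fun _ => rfl
  haveI : FiniteDimensional k L := Module.Finite.trans K L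
  have hs : Curves.Splits k A L :=
    ⟨n, hn, ⟨(exists_cancel K L (k := k) (A := A)).some.trans e⟩⟩
  have h := Index.index_dvd_of_splits hd hs
  rwa [← Module.finrank_mul_finrank k K L, hLd] at h

end Groth.Agent.Lib.Brauer.BaseChange
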