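import Mathlib.LinearAlgebra.Dimension.Constructions
import Mathlib.LinearAlgebra.Matrix.ToLin
import Mathlib.RingTheory.Flat.Basic
import Mathlib.RingTheory.TensorProduct.Finite
import Mathlib.LinearAlgebra.FiniteDimensional.Lemmas

/-!
# Ranks of linear maps under base change, and the rank of right multiplication by a matrix
-/

namespace Groth.Agent.Lib.Brauer.BaseChangeRank

open scoped TensorProduct

universe u v w

theorem finrank_range_baseChange {k : Type u} [Field k] (L : Type w) [Field L] [Algebra k L]
    {V : Type v} [AddCommGroup V] [Module k V] {W : Type*} [AddCommGroup W] [Module k W]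
    [FiniteDimensional k W] (f : V →ₗ[k] W) :
    Module.finrank L (LinearMap.range (f.baseChange L)) =
      Module.finrank k (LinearMap.range f) := by
  have hsurj : Function.Surjective (f.rangeRestrict.baseChange L) :=
    LinearMap.lTensor_surjective L (LinearMap.surjective_rangeRestrict f)
  have hinj : Function.Injective ((LinearMap.range f).subtype.baseChange L) :=
    Module.Flat.lTensor_preserves_injective_linearMap _ Subtype.val_injective
  have hcomp : f.baseChange L =
      ((LinearMap.range f).subtype.baseChange L).comp (f.rangeRestrict.baseChange L) := by
    rw [← LinearMap.baseChange_comp]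
    congr 1
  rw [hcomp, LinearMap.range_comp, LinearMap.range_eq_top.mpr hsurj, Submodule.map_top,
    LinearMap.finrank_range_of_inj hinj, Module.finrank_baseChange]

/-- The rank of `M ↦ M * P` is the size times the row rank of `P`. -/
theorem finrank_range_mulRight {L : Type w} [Field L] {n : Type*} [Fintype n] [DecidableEq n]
    (P : Matrix n n L) :
    Module.finrank L (LinearMap.range (LinearMap.mulRight L P)) =
      Fintype.card n * Module.finrank L (LinearMap.range P.vecMulLinear) := by
  let g : LinearMap.range (LinearMap.mulRight L P) ≃ₗ[L] (n → LinearMap.range P.vecMulLinear) :=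
    LinearEquiv.ofBijective
      (LinearMap.pi fun i => LinearMap.codRestrict (LinearMap.range P.vecMulLinear)
        ((LinearMap.proj i).comp (LinearMap.range (LinearMap.mulRight L P)).subtype) (by
          rintro ⟨_, M, rfl⟩
          exact ⟨M i, rfl⟩))
      ⟨fun x y h => Subtype.ext (funext fun i => congrArg Subtype.val (congrFun h i)), fun f => by
        have hf : ∀ i, ∃ v, Matrix.vecMul v P = (f i : n → L) := fun i => (f i).2
        choose v hv using hf
        refine ⟨⟨Matrix.of v * P, Matrix.of v, rfl⟩, funext fun i => Subtype.ext ?_⟩
        exact hv i⟩
  rw [g.finrank_eq, Module.finrank_pi_fintype]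
  simp

end Groth.Agent.Lib.Brauer.BaseChangeRank
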