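import Groth.Agent.Lib.Azumaya.BaseChange
import Mathlib.RingTheory.PicardGroup
import Mathlib

/-! Isomorphisms of endomorphism algebras come from invertible modules. -/

set_option autoImplicit false
universe u v w x

open scoped TensorProduct

namespace Groth.Agent.Lib.Brauer.EndMorita

variable {R : Type u} [CommRing R] {F : Type v} [AddCommGroup F] [Module R F]
  {G : Type w} [AddCommGroup G] [Module R G] (φ : Module.End R F ≃ₐ[R] Module.End R G)

/-- The rank one operator `z ↦ η z • x`. -/
def op (η : Module.Dual R F) (x : F) : Module.End R F :=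
  (LinearMap.toSpanSingleton R F x).comp η

theorem op_apply (η : Module.Dual R F) (x z : F) : op η x z = η z • x := by
  simp [op]

/-- The equivariant maps. -/
def eqv : Submodule R (F →ₗ[R] G) where
  carrier := {l | ∀ f : Module.End R F, ∀ x, l (f x) = φ f (l x)}
  zero_mem' := fun f x => by simp
  add_mem' := fun {a b} ha hb f x => by simp [ha f x, hb f x]
  smul_mem' := fun r a ha f x => by simp [ha f x]

/-- Evaluation. -/
noncomputable def ev : F ⊗[R] eqv φ →ₗ[R] G :=
  TensorProduct.lift ((eqv φ).subtype.flip)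

theorem ev_tmul (x : F) (l : eqv φ) : ev φ (x ⊗ₜ l) = (l : F →ₗ[R] G) x := rfl

/-- The equivariant map attached to a functional and a vector. -/
noncomputable def mkHom (η : Module.Dual R F) (g : G) : eqv φ :=
  ⟨{ toFun := fun z => φ (op η z) g
     map_add' := fun a b => by
       rw [show op η (a + b) = op η a + op η b from LinearMap.ext fun z => by simp [op_apply],
         map_add, LinearMap.add_apply]
     map_smul' := fun r a => by
       rw [show op η (r • a) = r • op η a from LinearMap.ext fun z => by
         simp [op_apply, smul_comm r], map_smul, LinearMap.smul_apply, RingHom.id_apply] },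
   fun f z => by
     show φ (op η (f z)) g = φ f (φ (op η z) g)
     rw [← Module.End.mul_apply, ← map_mul]
     congr 2
     ext y
     simp [op_apply]⟩

theorem mkHom_apply (η : Module.Dual R F) (g : G) (z : F) :
    (mkHom φ η g : F →ₗ[R] G) z = φ (op η z) g := rfl

theorem exists_dualBasis (R : Type u) [CommRing R] (F : Type v) [AddCommGroup F] [Module R F]
    [Module.Finite R F] [Module.Projective R F] :
    ∃ (n : ℕ) (x : Fin n → F) (ψ : Fin n → Module.Dual R F), ∀ z, ∑ i, ψ i z • x i = z := by
  obtain ⟨n, π, i, -, -, hπi⟩ := Module.Finite.exists_comp_eq_id_of_projective R F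
  refine ⟨n, fun j => π fun l => if j = l then 1 else 0, fun j => (LinearMap.proj j).comp i,
    fun z => ?_⟩
  calc ∑ j, ((LinearMap.proj j).comp i) z • π (fun l => if j = l then 1 else 0)
      = π (∑ j, i z j • fun l => if j = l then 1 else 0) := by simp [map_sum]
    _ = π (i z) := by rw [← pi_eq_sum_univ]
    _ = z := LinearMap.congr_fun hπi z

theorem exists_trace (R : Type u) [CommRing R] (F : Type v) [AddCommGroup F] [Module R F]
    [Module.Finite R F] [Module.Projective R F] [FaithfulSMul R F] :
    ∃ (n : ℕ) (y : Fin n → F) (η : Fin n → Module.Dual R F), ∑ i, η i (y i) = 1 := by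
  classical
  have h : (1 : R) ∈ Groth.Agent.Lib.Azumaya.BaseChange.traceIdeal R F := by
    rw [Groth.Agent.Lib.Azumaya.BaseChange.traceIdeal_eq_top R F]; exact Submodule.mem_top
  obtain ⟨c, hc⟩ := Finsupp.mem_span_range_iff_exists_finsupp.mp h
  let e := c.support.equivFin
  refine ⟨c.support.card, fun j => c (e.symm j) • (e.symm j : Module.Dual R F × F).2,
    fun j => (e.symm j : Module.Dual R F × F).1, ?_⟩
  calc ∑ j, (e.symm j : Module.Dual R F × F).1 (c (e.symm j) • (e.symm j : Module.Dual R F × F).2)
      = ∑ j, (fun i : {x // x ∈ c.support} => c i.1 • i.1.1 i.1.2) (e.symm j) :=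
        Finset.sum_congr rfl fun j _ => map_smul _ _ _
    _ = ∑ i : {x // x ∈ c.support}, c i.1 • i.1.1 i.1.2 :=
        Equiv.sum_comp e.symm (fun i : {x // x ∈ c.support} => c i.1 • i.1.1 i.1.2)
    _ = 1 := by
        rw [← hc, Finsupp.sum]
        exact Finset.sum_coe_sort c.support (fun i => c i • i.1 i.2)

theorem ev_bijective [Module.Finite R F] [Module.Projective R F] : Function.Bijective (ev φ) := by
  obtain ⟨n, x, ψ, h⟩ := exists_dualBasis R F
  let inv : G → F ⊗[R] eqv φ := fun g => ∑ i, x i ⊗ₜ mkHom φ (ψ i) g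
  have hright : ∀ g, ev φ (inv g) = g := fun g => by
    have h1 : ∑ i, op (ψ i) (x i) = (1 : Module.End R F) := LinearMap.ext fun z => by
      simp [LinearMap.sum_apply, op_apply, h]
    calc ev φ (inv g) = ∑ i, φ (op (ψ i) (x i)) g := by simp [inv, ev_tmul, mkHom_apply]
      _ = g := by rw [← LinearMap.sum_apply, ← map_sum, h1, map_one, Module.End.one_apply]
  have hadd : ∀ a b, inv (a + b) = inv a + inv b := fun a b => by
    have : ∀ i, mkHom φ (ψ i) (a + b) = mkHom φ (ψ i) a + mkHom φ (ψ i) b := fun i =>
      Subtype.ext (LinearMap.ext fun z => by simp [mkHom_apply])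
    simp [inv, this, TensorProduct.tmul_add, Finset.sum_add_distrib]
  have hleft : ∀ t, inv (ev φ t) = t := fun t => by
    induction t using TensorProduct.induction_on with
    | zero => simpa using hadd 0 0
    | add a b ha hb => rw [map_add, hadd, ha, hb]
    | tmul z l =>
      have hl : ∀ i, mkHom φ (ψ i) ((l : F →ₗ[R] G) z) = ψ i z • l := fun i =>
        Subtype.ext (LinearMap.ext fun y => by
          rw [mkHom_apply, ← l.2 (op (ψ i) y) z, op_apply, map_smul]
          rfl)
      simp only [inv, ev_tmul, hl, TensorProduct.tmul_smul, TensorProduct.smul_tmul']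
      rw [← TensorProduct.sum_tmul, h]
  exact ⟨Function.LeftInverse.injective hleft, Function.RightInverse.surjective hright⟩

/-- An equivariant isomorphism `F ⊗ M ≅ F` forces `M ≅ R`. -/
theorem nonempty_equiv_of_equivariant [Module.Finite R F] [Module.Projective R F] [FaithfulSMul R F]
    {M : Type x} [AddCommMonoid M] [Module R M] (θ : F ⊗[R] M ≃ₗ[R] F)
    (hθ : ∀ (f : Module.End R F) (t : F ⊗[R] M), θ (f.rTensor M t) = f (θ t)) :
    Nonempty (M ≃ₗ[R] R) := by
  obtain ⟨n, y, η, h⟩ := exists_trace R F
  let κ : M →ₗ[R] R := ∑ j, (η j).comp (θ.toLinearMap.comp (TensorProduct.mk R F M (y j)))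
  let cj : Fin n → (F ⊗[R] M →ₗ[R] M) := fun j =>
    (TensorProduct.lid R M).toLinearMap.comp ((η j).rTensor M)
  let m₀ : M := ∑ j, cj j (θ.symm (y j))
  have hκ : ∀ z m, θ (z ⊗ₜ m) = κ m • z := fun z m => by
    have hj : ∀ j, η j (y j) • θ (z ⊗ₜ m) = η j (θ (y j ⊗ₜ m)) • z := fun j => by
      have := hθ (op (η j) z) (y j ⊗ₜ m)
      rwa [LinearMap.rTensor_tmul, op_apply, op_apply, ← TensorProduct.smul_tmul', map_smul] at this
    calc θ (z ⊗ₜ m) = ∑ j, η j (y j) • θ (z ⊗ₜ m) := by rw [← Finset.sum_smul, h, one_smul]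
      _ = κ m • z := by simp [hj, κ, Finset.sum_smul]
  have hm₀ : ∀ z, θ.symm z = z ⊗ₜ m₀ := fun z => by
    have hj : ∀ j, η j (y j) • θ.symm z = z ⊗ₜ cj j (θ.symm (y j)) := fun j => by
      have h1 := hθ (op (η j) z) (θ.symm (y j))
      rw [θ.apply_symm_apply, op_apply] at h1
      have h2 : (op (η j) z).rTensor M (θ.symm (y j)) = η j (y j) • θ.symm z := by
        apply θ.injective
        rw [h1, map_smul, θ.apply_symm_apply]
      rw [← h2]
      generalize θ.symm (y j) = t
      induction t using TensorProduct.induction_on with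
      | zero => simp
      | add a b ha hb => simp [TensorProduct.tmul_add, ha, hb]
      | tmul a m => simp [cj, op_apply, TensorProduct.smul_tmul]
    calc θ.symm z = ∑ j, η j (y j) • θ.symm z := by rw [← Finset.sum_smul, h, one_smul]
      _ = z ⊗ₜ m₀ := by simp [hj, m₀, TensorProduct.tmul_sum]
  have h1 : κ m₀ = 1 := by
    have : ∀ z : F, κ m₀ • z = z := fun z => by rw [← hκ, ← hm₀, θ.apply_symm_apply]
    calc κ m₀ = κ m₀ * ∑ j, η j (y j) := by rw [h, mul_one]
      _ = ∑ j, η j (κ m₀ • y j) := by simp [Finset.mul_sum]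
      _ = 1 := by simp only [this, h]
  have h2 : ∀ m, κ m • m₀ = m := fun m => by
    have hz : ∀ z : F, z ⊗ₜ[R] (κ m • m₀) = z ⊗ₜ[R] m := fun z => by
      apply θ.injective
      rw [TensorProduct.tmul_smul, map_smul, ← hm₀, θ.apply_symm_apply, hκ]
    have hc : ∀ (j) (m' : M), cj j (y j ⊗ₜ[R] m') = η j (y j) • m' := fun j m' => by simp [cj]
    calc κ m • m₀ = ∑ j, η j (y j) • (κ m • m₀) := by rw [← Finset.sum_smul, h, one_smul]
      _ = ∑ j, η j (y j) • m := Finset.sum_congr rfl fun j _ => by rw [← hc, hz, hc]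
      _ = m := by rw [← Finset.sum_smul, h, one_smul]
  exact ⟨LinearEquiv.ofLinear κ (LinearMap.toSpanSingleton R M m₀)
    (LinearMap.ext fun r => by simp [h1]) (LinearMap.ext fun m => by simp [h2])⟩

theorem invertible [Module.Finite R F] [Module.Projective R F] [FaithfulSMul R F]
    [Module.Finite R G] [Module.Projective R G] : Module.Invertible R (eqv φ) := by
  let ξ := LinearEquiv.ofBijective (ev φ) (ev_bijective φ)
  let ξ' := LinearEquiv.ofBijective (ev φ.symm) (ev_bijective φ.symm)
  let θ : F ⊗[R] (eqv φ ⊗[R] eqv φ.symm) ≃ₗ[R] F :=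
    (TensorProduct.assoc R F (eqv φ) (eqv φ.symm)).symm ≪≫ₗ ξ.rTensor (eqv φ.symm) ≪≫ₗ ξ'
  obtain ⟨e⟩ := nonempty_equiv_of_equivariant θ fun f t => by
    induction t using TensorProduct.induction_on with
    | zero => simp
    | add a b ha hb => simp [map_add, ha, hb]
    | tmul z p =>
      induction p using TensorProduct.induction_on with
      | zero => simp
      | add a b ha hb => simp only [TensorProduct.tmul_add, map_add, ha, hb]
      | tmul l l' =>
        simp only [θ, ξ, ξ', LinearMap.rTensor_tmul, LinearEquiv.trans_apply,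
          TensorProduct.assoc_symm_tmul, LinearEquiv.rTensor_tmul, LinearEquiv.ofBijective_apply,
          ev_tmul, l.2 f z]
        rw [l'.2 (φ f) ((l : F →ₗ[R] G) z), AlgEquiv.symm_apply_apply]
  exact Module.Invertible.left e

theorem conj_eq [Module.Finite R F] [Module.Projective R F] (f : Module.End R F) :
    φ f = (LinearEquiv.ofBijective (ev φ) (ev_bijective φ)).conj (TensorProduct.map f LinearMap.id) := by
  refine LinearMap.ext fun g => ?_
  obtain ⟨t, rfl⟩ := (ev_bijective φ).2 g
  rw [LinearEquiv.conj_apply_apply,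
    show (LinearEquiv.ofBijective (ev φ) (ev_bijective φ)).symm (ev φ t) = t from
      (LinearEquiv.ofBijective (ev φ) (ev_bijective φ)).symm_apply_apply t,
    LinearEquiv.ofBijective_apply]
  induction t using TensorProduct.induction_on with
  | zero => simp
  | add a b ha hb => simp [map_add, ha, hb]
  | tmul z l => simp [ev_tmul, l.2 f z]

end Groth.Agent.Lib.Brauer.EndMorita
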