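import Groth.Agent.Lib.Brauer.Index

/-!
# Maximal subfields split
-/

namespace Groth.Agent.Lib.Brauer.Maximal

set_option linter.style.haveILetI false

open scoped TensorProduct
open Groth.Agent.Lib

universe u v w

variable {k : Type u} [Field k]

/-- A subfield of degree equal to the degree of the algebra splits it. -/
theorem splits_of_subfield {A : Type v} [Ring A] [Algebra k A] [Algebra.IsCentral k A]
    [IsSimpleRing A] [FiniteDimensional k A] (L : Type w) [Field L] [Algebra k L]
    (ι : L →ₐ[k] A) (h : Module.finrank k A = Module.finrank k L ^ 2) :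
    Curves.Splits k A L := by
  have hι : Function.Injective ι := RingHom.injective ι.toRingHom
  haveI : FiniteDimensional k L := FiniteDimensional.of_injective ι.toLinearMap hι
  letI : Module L A := Module.compHom A
    (ι.toRingHom.toOpposite (fun x y => (Commute.all x y).map ι))
  have hmod : ∀ (l : L) (a : A), l • a = a * ι l := fun l a => rfl
  haveI := CSA.Splitting.tower_of_mod ι hmod
  have hpos : 0 < Module.finrank k L := Module.finrank_pos
  have hdim : Module.finrank L A = Module.finrank k L := by
    refine Nat.eq_of_mul_eq_mul_left hpos ?_
    rw [Module.finrank_mul_finrank, h, sq]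
  obtain ⟨e⟩ := CSA.Splitting.exists_regular_equiv ι hmod hι hdim
  exact ⟨_, hpos.ne', ⟨e⟩⟩

/-- A central division algebra of dimension `d²` is split by a separable field of degree `d`. -/
theorem exists_separable_degree (D : Type v) [DivisionRing D] [Algebra k D]
    [Algebra.IsCentral k D] [FiniteDimensional k D] {d : ℕ} (hd : Module.finrank k D = d ^ 2) :
    ∃ (L : Type v) (_ : Field L) (_ : Algebra k L) (_ : L →ₐ[k] D), FiniteDimensional k L ∧
      Algebra.IsSeparable k L ∧ Module.finrank k L = d ∧ Curves.Splits k D L := by
  obtain ⟨L, hcomm, hsep, hc⟩ := CSA.Division.exists_separable_maximal (k := k) (D := D)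
  have hdim : Module.finrank k L = d := by
    have := CSA.Division.finrank_eq_sq L hcomm hc
    exact Nat.pow_left_injective (show 2 ≠ 0 by norm_num) (this.symm.trans hd)
  letI : Field L := CSA.Division.fieldOfComm L hcomm
  refine ⟨L, inferInstance, inferInstance, L.val, inferInstance, hsep, hdim, ?_⟩
  exact splits_of_subfield L L.val (by rw [hd, ← hdim])

end Groth.Agent.Lib.Brauer.Maximal
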