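import Groth.Agent.Lib.Brauer.Index
import Groth.Agent.Lib.CSA.SimpleModule
import Mathlib.RingTheory.SimpleModule.WedderburnArtin

/-!
# Dimensions of modules over a central simple algebra
-/

namespace Groth.Agent.Lib.Brauer.ModuleDim

set_option linter.style.haveILetI false

open Groth.Agent.Lib Groth.Agent.Lib.Brauer.BEq

universe u v w

variable {k : Type u} [Field k] {A : Type v} [Ring A] [Algebra k A] [Algebra.IsCentral k A]
  [IsSimpleRing A] [FiniteDimensional k A]

/-- The dimension of a module is divisible by degree times index. -/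
theorem deg_mul_index_dvd {N d : ℕ} (hN : Module.finrank k A = N ^ 2) (hd : CSAGal.IsIndex k A d)
    (M : Type w) [AddCommGroup M] [Module A M] [Module k M] [IsScalarTower k A M]
    [FiniteDimensional k M] : N * d ∣ Module.finrank k M := by
  haveI := IsArtinianRing.of_finite k A
  obtain ⟨n, hn, I, hI, ⟨e⟩⟩ := IsSimpleRing.exists_algEquiv_matrix_end_mulOpposite k (R := A)
  haveI : Module.Finite A M := Module.Finite.of_restrictScalars_finite k A M
  obtain ⟨a, ⟨ea⟩⟩ := CSA.SimpleModule.exists_pow_equiv k I M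
  obtain ⟨r, ⟨er⟩⟩ := CSA.SimpleModule.exists_pow_equiv k I A
  haveI : Module.Finite k I := Module.Finite.of_injective
    ((Submodule.subtype I).restrictScalars k) Subtype.val_injective
  -- the division algebra part
  classical
  letI : DivisionRing (Module.End A I) := Module.End.instDivisionRing
  haveI : Module.Finite k (Matrix (Fin n) (Fin n) (Module.End A I)ᵐᵒᵖ) :=
    Module.Finite.equiv e.toLinearEquiv
  haveI : Module.Finite k (Module.End A I)ᵐᵒᵖ := Module.Finite.of_surjective
    (Matrix.entryLinearMap k (Module.End A I)ᵐᵒᵖ (0 : Fin n) (0 : Fin n))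
    fun y => ⟨fun _ _ => y, rfl⟩
  haveI : Algebra.IsCentral k (Matrix (Fin n) (Fin n) (Module.End A I)ᵐᵒᵖ) :=
    CSA.Splitting.isCentral_of_algEquiv e
  haveI : Algebra.IsCentral k (Module.End A I)ᵐᵒᵖ := CSA.Division.isCentral_of_matrix (n := n)
  obtain ⟨-, m, D, _, _, _, _, -, hf, hb, -⟩ := Index.isIndex_elim hd
  obtain ⟨g⟩ := divisionRing_equiv (D := D) (D' := (Module.End A I)ᵐᵒᵖ)
    (hb.symm.trans (of_matrix_equiv (NeZero.ne n) e))
  have hE : Module.finrank k (Module.End A I) = d ^ 2 := by
    rw [← CSA.Basic.finrank_op, ← g.toLinearEquiv.finrank_eq, hf]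
  have hnd : N = n * d := by
    have h := e.toLinearEquiv.finrank_eq
    rw [Module.finrank_matrix, CSA.Basic.finrank_op, hE, hN] at h
    refine Nat.pow_left_injective (show 2 ≠ 0 by norm_num) ?_
    simp only [Fintype.card_fin] at h
    show N ^ 2 = (n * d) ^ 2
    rw [h]; ring
  have hAI : Module.finrank k A = r * Module.finrank k I := by
    rw [(er.restrictScalars k).finrank_eq, Module.finrank_pi_fintype]; simp
  have hA : Module.finrank k A = r * r * d ^ 2 := by
    have e₀ : Aᵐᵒᵖ ≃ₐ[k] Matrix (Fin r) (Fin r) (Module.End A I) :=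
      (AlgEquiv.moduleEndSelf k).trans
        ((er.conjAlgEquiv k).trans (endVecAlgEquivMatrixEnd (Fin r) k A I))
    rw [← CSA.Basic.finrank_op, e₀.toLinearEquiv.finrank_eq, Module.finrank_matrix, hE]
    simp
  have hdpos : 0 < d := hd.1
  have hApos : 0 < Module.finrank k A := Module.finrank_pos
  have hrn : r = n := by
    have : (r * d) ^ 2 = (n * d) ^ 2 := by
      rw [← hnd, ← hN, hA]; ring
    exact Nat.eq_of_mul_eq_mul_right hdpos (Nat.pow_left_injective (by norm_num) this)
  have hI' : Module.finrank k I = n * d ^ 2 := by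
    refine Nat.eq_of_mul_eq_mul_left (n := r) ?_ ?_
    · rcases Nat.eq_zero_or_pos r with h0 | h0
      · simp [hAI, h0] at hApos
      · exact h0
    · rw [← hAI, hA, hrn]; ring
  refine ⟨a, ?_⟩
  rw [(ea.restrictScalars k).finrank_eq, Module.finrank_pi_fintype]
  simp [hI', hnd]
  ring

end Groth.Agent.Lib.Brauer.ModuleDim
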