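import Groth.Agent.Lib.Brauer.Antisym
import Groth.Agent.Lib.Brauer.ModuleDim
import Mathlib.FieldTheory.IsSepClosed
import Mathlib.FieldTheory.Galois.Infinite
import Mathlib.RingTheory.TensorProduct.Free

/-!
# The index of a tensor power divides a binomial coefficient
-/

namespace Groth.Agent.Lib.Brauer.TPowIndex

set_option linter.style.haveILetI false

open scoped TensorProduct
open Groth.Agent.Lib Groth.Agent.Lib.Brauer.BEq

universe u v w

variable {k : Type u} [Field k] {D : Type v} [Ring D] [Algebra k D]

section rep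

variable {L : Type w} [Field L] [Algebra k L] {d : ℕ}

/-- The `r`-th tensor power of a matrix representation. -/
noncomputable def repPow (ρ : D →ₐ[k] Matrix (Fin d) (Fin d) L) (r : ℕ) :
    CSAGal.tpow k D r →ₐ[k] Matrix (Fin r → Fin d) (Fin r → Fin d) L :=
  let m : MultilinearMap k (fun _ : Fin r => D) (Matrix (Fin r → Fin d) (Fin r → Fin d) L) :=
    (Matrix.ofLinearEquiv k).toLinearMap.compMultilinearMap
      (MultilinearMap.pi fun I => MultilinearMap.pi fun J =>
        (MultilinearMap.mkPiAlgebra k (Fin r) L).compLinearMap fun i =>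
          (Matrix.entryLinearMap k L (I i) (J i)).comp ρ.toLinearMap)
  have hm : ∀ v, m v = Antisym.tensorMat (fun i => ρ (v i)) := fun v => by
    ext I J
    rfl
  PiTensorProduct.liftAlgHom m
    (by rw [hm]; simp [← Antisym.tensorMat_one, Pi.one_def])
    (fun x y => by simp [hm, Antisym.tensorMat_mul])

theorem repPow_tprod (ρ : D →ₐ[k] Matrix (Fin d) (Fin d) L) (r : ℕ) (v : Fin r → D) :
    repPow ρ r (PiTensorProduct.tprod k v) = Antisym.tensorMat (fun i => ρ (v i)) := by
  refine (PiTensorProduct.lift.tprod v).trans ?_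
  ext I J
  rfl

end rep

variable [Algebra.IsCentral k D] [IsSimpleRing D] [FiniteDimensional k D]

/-- An element of the tensor power whose left ideal has the dimension of an exterior power. -/
theorem exists_antisym_element_aux (L : Type w) [Field L] [Algebra k L] [IsSepClosed L] [IsGalois k L]
    {d : ℕ} (hd : Module.finrank k D = d ^ 2) (r : ℕ) :
    ∃ a : CSAGal.tpow k D r, Module.finrank k (LinearMap.range (LinearMap.mulRight k a)) =
      d ^ r * Nat.choose d r := by
  classical
  haveI : IsSimpleRing (L ⊗[k] D) := CSA.Simple.isSimpleRing_baseChange k L D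
  haveI : Algebra.IsCentral L (L ⊗[k] D) := CSA.Simple.isCentral_baseChange k L D
  obtain ⟨d', hd', ⟨φ⟩⟩ := CSA.Basic.exists_algEquiv_matrix_of_isSepClosed L (L ⊗[k] D)
  have hdd : d' = d := by
    have h := φ.toLinearEquiv.finrank_eq
    rw [Module.finrank_baseChange, Module.finrank_matrix, hd, Fintype.card_fin, Module.finrank_self,
      mul_one] at h
    exact Nat.mul_self_inj.mp (h.symm.trans (sq d))
  subst hdd
  let ρ : D →ₐ[k] Matrix (Fin d') (Fin d') L :=
    (φ.toAlgHom.restrictScalars k).comp Algebra.TensorProduct.includeRight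
  obtain ⟨hC1, hC2, hC3⟩ := Index.csa_tpow k D r
  haveI : IsSimpleRing (L ⊗[k] CSAGal.tpow k D r) := CSA.Simple.isSimpleRing_baseChange k L _
  haveI : NeZero d' := ⟨hd'⟩
  let Φ₀ : L ⊗[k] CSAGal.tpow k D r →ₐ[L] Matrix (Fin r → Fin d') (Fin r → Fin d') L :=
    Algebra.TensorProduct.lift (Algebra.ofId L _) (repPow ρ r) fun l M => Algebra.commutes l _
  have hΦ : Function.Bijective Φ₀ := by
    refine CSA.Splitting.bijective_of_simple Φ₀ ?_
    rw [Module.finrank_baseChange, Index.finrank_tpow, hd, Module.finrank_matrix]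
    simp [← pow_mul, sq, ← pow_add]
    ring_nf
  let Φ := AlgEquiv.ofBijective Φ₀ hΦ
  set α := Φ.symm (Antisym.antisym L d' r) with hα
  have hΦα : Φ₀ α = Antisym.antisym L d' r := Φ.apply_symm_apply _
  have hfix : ∀ τ : L ≃ₐ[k] L,
      Algebra.TensorProduct.map (τ : L →ₐ[k] L) (AlgHom.id k _) α = α := by
    intro τ
    -- the twisted representation is conjugate to the original one
    let ρ' : D →ₐ[k] Matrix (Fin d') (Fin d') L := (τ : L →ₐ[k] L).mapMatrix.comp ρ
    let ψ : L ⊗[k] D →ₐ[L] Matrix (Fin d') (Fin d') L :=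
      Algebra.TensorProduct.lift (Algebra.ofId L _) ρ' fun l M => Algebra.commutes l _
    haveI : FiniteDimensional L (Matrix (Fin d') (Fin d') L) := inferInstance
    obtain ⟨u, hu⟩ := CSA.SkolemNoether.skolemNoether (k := L) φ.toAlgHom ψ
    have hu' : ∀ x : D, ρ' x = (u : Matrix (Fin d') (Fin d') L) * ρ x *
        ((u⁻¹ : (Matrix (Fin d') (Fin d') L)ˣ) : Matrix (Fin d') (Fin d') L) := fun x => by
      have h := hu ((1 : L) ⊗ₜ x)
      have e : ψ ((1 : L) ⊗ₜ x) = ρ' x := by
        show algebraMap L _ (1 : L) * ρ' x = _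
        rw [map_one, one_mul]
      rw [← e]; exact h
    let U := Antisym.tensorMat (r := r) fun _ : Fin r => (u : Matrix (Fin d') (Fin d') L)
    let V := Antisym.tensorMat (r := r) fun _ : Fin r => ((u⁻¹ : (Matrix (Fin d') (Fin d') L)ˣ) : Matrix (Fin d') (Fin d') L)
    have hUV : U * V = 1 := by simp [U, V, Antisym.tensorMat_mul, ← Antisym.tensorMat_one, Pi.one_def]
    have hVU : V * U = 1 := by simp [U, V, Antisym.tensorMat_mul, ← Antisym.tensorMat_one, Pi.one_def]
    have key : ∀ x, (Φ₀ x).map τ =
        U * Φ₀ (Algebra.TensorProduct.map (τ : L →ₐ[k] L) (AlgHom.id k _) x) * V := by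
      intro x
      induction x using TensorProduct.induction_on with
      | zero => simp
      | add x y hx hy => simp [map_add, mul_add, add_mul, ← hx, ← hy, Matrix.map_add]
      | tmul l c =>
        induction c using PiTensorProduct.induction_on with
        | add a b ha hb =>
          simp only [TensorProduct.tmul_add, map_add, mul_add, add_mul] at *
          rw [← ha, ← hb]; ext; simp
        | smul_tprod c v =>
          have hΦt : ∀ l' : L, Φ₀ (l' ⊗ₜ (c • PiTensorProduct.tprod k v)) =
              l' • c • Antisym.tensorMat (fun i => ρ (v i)) := fun l' => by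
            show algebraMap L (Matrix (Fin r → Fin d') (Fin r → Fin d') L) l' *
              repPow ρ r (c • PiTensorProduct.tprod k v) = _
            rw [map_smul, repPow_tprod, ← Algebra.smul_def]
          rw [Algebra.TensorProduct.map_tmul, AlgHom.id_apply, hΦt, hΦt, Matrix.mul_smul,
            Matrix.mul_smul, Matrix.smul_mul, Matrix.smul_mul]
          simp only [U, V, Antisym.tensorMat_mul]
          ext I J
          simp only [Matrix.map_apply, Matrix.smul_apply, Antisym.tensorMat, Matrix.of_apply,
            ← hu', ρ', AlgHom.comp_apply, AlgHom.mapMatrix_apply]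
          simp [Algebra.smul_def, map_prod]
    have h := key α
    rw [hΦα, show (τ : L → L) = ((τ : L →+* L) : L → L) from rfl, Antisym.antisym_map] at h
    apply hΦ.1
    rw [hΦα]
    calc Φ₀ (Algebra.TensorProduct.map (τ : L →ₐ[k] L) (AlgHom.id k _) α)
        = V * (U * Φ₀ (Algebra.TensorProduct.map (τ : L →ₐ[k] L) (AlgHom.id k _) α) * V) * U := by
          simp only [mul_assoc, hVU, mul_one]
          rw [← mul_assoc, hVU, one_mul]
      _ = Antisym.antisym L d' r := by
          rw [← h, mul_assoc, Antisym.antisym_comm, ← mul_assoc, hVU, one_mul]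
  -- descend
  let b := Module.Free.chooseBasis k (CSAGal.tpow k D r)
  have hcoord : ∀ i, (Algebra.TensorProduct.basis L b).repr α i ∈ Set.range (algebraMap k L) := by
    intro i
    rw [InfiniteGalois.mem_range_algebraMap_iff_fixed]
    intro τ
    have hnat : ∀ x : L ⊗[k] CSAGal.tpow k D r, (Algebra.TensorProduct.basis L b).repr
        (Algebra.TensorProduct.map (τ : L →ₐ[k] L) (AlgHom.id k _) x) i =
        τ ((Algebra.TensorProduct.basis L b).repr x i) := by
      intro x
      induction x using TensorProduct.induction_on with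
      | zero => simp
      | add x y hx hy => simp [map_add, hx, hy]
      | tmul l c => simp [Algebra.TensorProduct.basis_repr_tmul, map_mul, Algebra.smul_def]
    rw [← hnat, hfix]
  choose c hc using hcoord
  refine ⟨∑ i, c i • b i, ?_⟩
  have hαeq : α = (1 : L) ⊗ₜ ∑ i, c i • b i := by
    apply (Algebra.TensorProduct.basis L b).repr.injective
    ext i
    simp [← hc i, Algebra.TensorProduct.basis_repr_tmul, Finsupp.single_apply, Algebra.algebraMap_eq_smul_one]
  rw [← BaseChangeRank.finrank_range_baseChange L]
  have hmul : (LinearMap.mulRight k (∑ i, c i • b i)).baseChange L =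
      LinearMap.mulRight L α := by
    ext x
    simp [hαeq]
  have hconj : LinearMap.mulRight L (Antisym.antisym L d' r) =
      (Φ.toLinearEquiv.toLinearMap ∘ₗ LinearMap.mulRight L α) ∘ₗ Φ.symm.toLinearEquiv.toLinearMap := by
    ext1 M
    simp [hα]
  rw [hmul]
  have h := BaseChangeRank.finrank_range_mulRight (Antisym.antisym L d' r)
  rw [hconj, LinearMap.range_comp_of_range_eq_top _ (LinearEquiv.range _), LinearMap.range_comp,
    LinearEquiv.finrank_map_eq, Antisym.finrank_range] at h
  rw [h]
  simp

/-- An element of the tensor power whose left ideal has the dimension of an exterior power. -/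
theorem exists_antisym_element {d : ℕ} (hd : Module.finrank k D = d ^ 2) (r : ℕ) :
    ∃ a : CSAGal.tpow k D r, Module.finrank k (LinearMap.range (LinearMap.mulRight k a)) =
      d ^ r * Nat.choose d r :=
  exists_antisym_element_aux (SeparableClosure k) hd r

/-- The index of the `r`-th power divides `d` choose `r`. -/
theorem index_dvd_choose {d : ℕ} (hd : Module.finrank k D = d ^ 2) (r : ℕ) {e : ℕ}
    (he : CSAGal.IsIndex k (CSAGal.tpow k D r) e) : e ∣ Nat.choose d r := by
  obtain ⟨a, ha⟩ := exists_antisym_element hd r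
  obtain ⟨h1, h2, h3⟩ := Index.csa_tpow k D r
  let M : Submodule (CSAGal.tpow k D r) (CSAGal.tpow k D r) :=
    Submodule.span (CSAGal.tpow k D r) {a}
  have hM : Module.finrank k M = d ^ r * Nat.choose d r := by
    rw [← ha]
    have : M.restrictScalars k = LinearMap.range (LinearMap.mulRight k a) := by
      ext x
      simp [M, Submodule.mem_span_singleton]
    rw [← this]
    exact ((Submodule.restrictScalarsEquiv k (CSAGal.tpow k D r) _ M).restrictScalars k).finrank_eq.symm
  haveI : FiniteDimensional k M := Module.Finite.of_injective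
    ((Submodule.subtype M).restrictScalars k) Subtype.val_injective
  have hN : Module.finrank k (CSAGal.tpow k D r) = (d ^ r) ^ 2 := by
    rw [Index.finrank_tpow, hd, ← pow_mul, ← pow_mul, mul_comm]
  have h := ModuleDim.deg_mul_index_dvd hN he M
  rw [hM] at h
  refine Nat.dvd_of_mul_dvd_mul_left ?_ h
  rcases Nat.eq_zero_or_pos d with h0 | h0
  · simp [h0] at hd
    exact absurd hd (Module.finrank_pos (R := k) (M := D)).ne'
  · exact pow_pos h0 r

omit [IsSimpleRing D] in
/-- General form: tensor powers of an algebra of index `d`. -/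
theorem index_tpow_dvd_choose [IsSimpleRing D] {d : ℕ} (hd : CSAGal.IsIndex k D d) (r : ℕ) {e : ℕ}
    (he : CSAGal.IsIndex k (CSAGal.tpow k D r) e) : e ∣ Nat.choose d r := by
  obtain ⟨-, m, E, _, _, _, _, -, hf, hb, -⟩ := Index.isIndex_elim hd
  obtain ⟨h1, h2, h3⟩ := Index.csa_tpow k D r
  obtain ⟨i1, i2, i3⟩ := Index.csa_tpow k E r
  exact index_dvd_choose hf r (Index.index_congr he (Index.tpow_congr hb r))

theorem splits_tpow_index {d : ℕ} (hd : CSAGal.IsIndex k D d) :
    Curves.Splits k (CSAGal.tpow k D d) k := by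
  obtain ⟨h1, h2, h3⟩ := Index.csa_tpow k D d
  obtain ⟨e, he⟩ := Index.exists_index k (CSAGal.tpow k D d)
  have := index_tpow_dvd_choose hd d he
  rw [Nat.choose_self, Nat.dvd_one] at this
  exact (Index.splits_iff_index_one he).mpr this

end Groth.Agent.Lib.Brauer.TPowIndex
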