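import Groth.Agent.Lib.Brauer.BEq
import Groth.Agent.Lib.CSA.SplittingModule
import Groth.Agent.Lib.CSA.Wedderburn

/-!
# Tensor powers in the Brauer group, index, period
-/

namespace Groth.Agent.Lib.Brauer.Index

set_option linter.style.haveILetI false

open scoped TensorProduct
open Groth.Agent.Lib Groth.Agent.Lib.Brauer.BEq Groth.Agent.Lib.Brauer.TPow

universe u v w x

variable {k : Type u} [Field k]

section csa

variable (k) (A : Type v) [Ring A] [Algebra k A]

theorem csa_base : Algebra.IsCentral k k ∧ IsSimpleRing k ∧ FiniteDimensional k k :=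
  ⟨⟨fun x _ => Algebra.mem_bot.mpr ⟨x, rfl⟩⟩, inferInstance, inferInstance⟩

theorem csa_congr {B : Type w} [Ring B] [Algebra k B] (e : A ≃ₐ[k] B)
    [Algebra.IsCentral k A] [IsSimpleRing A] [FiniteDimensional k A] :
    Algebra.IsCentral k B ∧ IsSimpleRing B ∧ FiniteDimensional k B :=
  ⟨CSA.Splitting.isCentral_of_algEquiv e, IsSimpleRing.of_ringEquiv e.toRingEquiv inferInstance,
    Module.Finite.equiv e.toLinearEquiv⟩

variable [Algebra.IsCentral k A] [IsSimpleRing A] [FiniteDimensional k A]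

theorem csa_tpow (n : ℕ) : Algebra.IsCentral k (CSAGal.tpow k A n) ∧
    IsSimpleRing (CSAGal.tpow k A n) ∧ FiniteDimensional k (CSAGal.tpow k A n) := by
  induction n with
  | zero =>
    obtain ⟨h1, h2, h3⟩ := csa_base k
    exact csa_congr k k (tpowZero k A).symm
  | succ n ih =>
    obtain ⟨h1, h2, h3⟩ := ih
    haveI : Algebra.IsCentral k (CSAGal.tpow k A n ⊗[k] A) := CSA.Simple.isCentral_tensor k _ _
    haveI : IsSimpleRing (CSAGal.tpow k A n ⊗[k] A) := CSA.Simple.isSimpleRing_tensor k _ _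
    exact csa_congr k _ (tpowSucc k A n).symm

theorem finrank_tpow (n : ℕ) :
    Module.finrank k (CSAGal.tpow k A n) = Module.finrank k A ^ n := by
  induction n with
  | zero => rw [(tpowZero k A).toLinearEquiv.finrank_eq, Module.finrank_self, pow_zero]
  | succ n ih =>
    haveI := (csa_tpow k A n).2.2
    rw [(tpowSucc k A n).toLinearEquiv.finrank_eq, Module.finrank_tensorProduct, ih, pow_succ]

end csa

section tpow

variable {A : Type v} [Ring A] [Algebra k A] {B : Type w} [Ring B] [Algebra k B]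

theorem tpow_congr (h : BEq k A B) (n : ℕ) : BEq k (CSAGal.tpow k A n) (CSAGal.tpow k B n) := by
  induction n with
  | zero => exact (of_algEquiv (tpowZero k A)).trans (of_algEquiv (tpowZero k B)).symm
  | succ n ih =>
    exact (of_algEquiv (tpowSucc k A n)).trans
      ((ih.tensor h).trans (of_algEquiv (tpowSucc k B n)).symm)

theorem tpow_add (a b : ℕ) :
    BEq k (CSAGal.tpow k A (a + b)) (CSAGal.tpow k A a ⊗[k] CSAGal.tpow k A b) :=
  (of_algEquiv (tpowAdd k A a b)).symm

theorem tpow_base (n : ℕ) : BEq k (CSAGal.tpow k k n) k := by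
  induction n with
  | zero => exact of_algEquiv (tpowZero k k)
  | succ n ih => exact (of_algEquiv (tpowSucc k k n)).trans ((ih.tensor refl).trans rid)

theorem tpow_mul (a b : ℕ) :
    BEq k (CSAGal.tpow k A (a * b)) (CSAGal.tpow k (CSAGal.tpow k A a) b) := by
  induction b with
  | zero =>
    exact (of_algEquiv (tpowZero k A)).trans (of_algEquiv (tpowZero k (CSAGal.tpow k A a))).symm
  | succ b ih =>
    rw [Nat.mul_succ]
    exact (tpow_add (a * b) a).trans
      ((ih.tensor refl).trans (of_algEquiv (tpowSucc k (CSAGal.tpow k A a) b)).symm)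

theorem tpow_mul_split {a : ℕ} (h : BEq k (CSAGal.tpow k A a) k) (b : ℕ) :
    BEq k (CSAGal.tpow k A (a * b)) k :=
  (tpow_mul a b).trans ((tpow_congr h b).trans (tpow_base b))

theorem tpow_tensor (n : ℕ) :
    BEq k (CSAGal.tpow k (A ⊗[k] B) n) (CSAGal.tpow k A n ⊗[k] CSAGal.tpow k B n) := by
  induction n with
  | zero =>
    exact (of_algEquiv (tpowZero k (A ⊗[k] B))).trans
      ((rid (A := k)).symm.trans
        ((of_algEquiv (tpowZero k A)).symm.tensor (of_algEquiv (tpowZero k B)).symm))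
  | succ n ih =>
    refine (of_algEquiv (tpowSucc k _ n)).trans ((ih.tensor refl).trans ?_)
    exact (of_algEquiv (Algebra.TensorProduct.tensorTensorTensorComm k k k k (CSAGal.tpow k A n)
      (CSAGal.tpow k B n) A B)).trans
      ((of_algEquiv (tpowSucc k A n)).symm.tensor (of_algEquiv (tpowSucc k B n)).symm)

variable [Algebra.IsCentral k A] [IsSimpleRing A] [FiniteDimensional k A]

theorem splits_tpow_iff (n : ℕ) :
    Curves.Splits k (CSAGal.tpow k A n) k ↔ BEq k (CSAGal.tpow k A n) k := by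
  obtain ⟨h1, h2, h3⟩ := csa_tpow k A n
  exact ⟨of_splits, splits_of_beq_base⟩

/-- The split exponents are the multiples of the period. -/
theorem period_dvd {e : ℕ} (he : CSAGal.IsPeriod k A e) (n : ℕ) :
    Curves.Splits k (CSAGal.tpow k A n) k ↔ e ∣ n := by
  obtain ⟨hpos, hsp, hmin⟩ := he
  rw [splits_tpow_iff] at hsp ⊢
  constructor
  · intro h
    have hr : BEq k (CSAGal.tpow k A (n % e)) k := by
      have h' : BEq k (CSAGal.tpow k A (e * (n / e) + n % e)) k := by rwa [Nat.div_add_mod]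
      exact (((tpow_mul_split hsp (n / e)).tensor refl).trans lid).symm.trans
        ((tpow_add _ _).symm.trans h')
    by_contra hne
    exact hmin (n % e) (Nat.pos_of_ne_zero fun h0 => hne (Nat.dvd_of_mod_eq_zero h0))
      (Nat.mod_lt _ hpos) ((splits_tpow_iff _).mpr hr)
  · rintro ⟨b, rfl⟩
    exact tpow_mul_split hsp b

theorem exists_period_dvd {n : ℕ} (hn : 0 < n) (h : Curves.Splits k (CSAGal.tpow k A n) k) :
    ∃ e, CSAGal.IsPeriod k A e ∧ e ∣ n := by
  classical
  have hex : ∃ e, 0 < e ∧ Curves.Splits k (CSAGal.tpow k A e) k := ⟨n, hn, h⟩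
  have hp : CSAGal.IsPeriod k A (Nat.find hex) := ⟨(Nat.find_spec hex).1, (Nat.find_spec hex).2,
    fun e' h0 hlt hs => Nat.find_min hex hlt ⟨h0, hs⟩⟩
  exact ⟨_, hp, (period_dvd hp n).mp h⟩

end tpow

section index

variable {A : Type v} [Ring A] [Algebra k A] [Algebra.IsCentral k A] [IsSimpleRing A]
  [FiniteDimensional k A]

/-- Unfolded index with the division algebra part being central. -/
theorem isIndex_elim {d : ℕ} (h : CSAGal.IsIndex k A d) :
    0 < d ∧ ∃ (m : ℕ) (D : Type v) (_ : DivisionRing D) (_ : Algebra k D)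
      (_ : Algebra.IsCentral k D) (_ : FiniteDimensional k D),
      0 < m ∧ Module.finrank k D = d ^ 2 ∧ BEq k A D ∧
        Nonempty (A ≃ₐ[k] Matrix (Fin m) (Fin m) D) := by
  obtain ⟨hd, m, D, iD, iA, hm, hf, ⟨e⟩⟩ := h
  haveI : NeZero m := ⟨hm.ne'⟩
  haveI : Algebra.IsCentral k (Matrix (Fin m) (Fin m) D) := CSA.Splitting.isCentral_of_algEquiv e
  refine ⟨hd, m, D, iD, iA, CSA.Division.isCentral_of_matrix (n := m),
    FiniteDimensional.of_finrank_pos (hf ▸ pow_pos hd 2), hm, hf, of_matrix_equiv hm.ne' e, ⟨e⟩⟩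

theorem exists_index (k : Type u) [Field k] (A : Type v) [Ring A] [Algebra k A]
    [Algebra.IsCentral k A] [IsSimpleRing A] [FiniteDimensional k A] :
    ∃ d, CSAGal.IsIndex k A d := by
  obtain ⟨n, hn, D, _, _, _, _, ⟨e⟩⟩ := CSA.Division.exists_matrix (k := k) A
  obtain ⟨d, hd, hf⟩ := CSA.Basic.exists_finrank_eq_sq k D
  exact ⟨d, hd, n, D, _, _, Nat.pos_of_ne_zero hn.out, hf, ⟨e⟩⟩

theorem isIndex_of_beq {d : ℕ} (hd : 0 < d) {D : Type w} [DivisionRing D] [Algebra k D]
    [Algebra.IsCentral k D] [FiniteDimensional k D] (hf : Module.finrank k D = d ^ 2)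
    (h : BEq k A D) : CSAGal.IsIndex k A d := by
  obtain ⟨d', hd'⟩ := exists_index k A
  obtain ⟨hd'0, m, D', _, _, _, _, hm, hf', hb, _⟩ := isIndex_elim hd'
  obtain ⟨g⟩ := divisionRing_equiv (hb.symm.trans h)
  have : d' = d := by
    have := g.toLinearEquiv.finrank_eq
    rw [hf', hf] at this
    exact Nat.pow_left_injective (by norm_num) this
  exact this ▸ hd'

theorem index_unique {B : Type w} [Ring B] [Algebra k B] [Algebra.IsCentral k B] [IsSimpleRing B]
    [FiniteDimensional k B] {d d' : ℕ} (hd : CSAGal.IsIndex k A d) (hd' : CSAGal.IsIndex k B d')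
    (h : BEq k A B) : d = d' := by
  obtain ⟨-, m, D, _, _, _, _, -, hf, hb, -⟩ := isIndex_elim hd
  obtain ⟨-, m', D', _, _, _, _, -, hf', hb', -⟩ := isIndex_elim hd'
  obtain ⟨g⟩ := divisionRing_equiv (hb.symm.trans (h.trans hb'))
  have := g.toLinearEquiv.finrank_eq
  rw [hf, hf'] at this
  exact Nat.pow_left_injective (by norm_num) this

theorem index_congr {B : Type w} [Ring B] [Algebra k B] [Algebra.IsCentral k B] [IsSimpleRing B]
    [FiniteDimensional k B] {d : ℕ} (hd : CSAGal.IsIndex k A d) (h : BEq k A B) :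
    CSAGal.IsIndex k B d := by
  obtain ⟨d', hd'⟩ := exists_index k B
  exact (index_unique hd hd' h) ▸ hd'

theorem splits_iff_index_one {d : ℕ} (hd : CSAGal.IsIndex k A d) :
    Curves.Splits k A k ↔ d = 1 := by
  obtain ⟨hd0, m, D, _, _, _, _, hm, hf, hb, ⟨e⟩⟩ := isIndex_elim hd
  constructor
  · intro h
    obtain ⟨g⟩ := divisionRing_equiv (D' := k) (hb.symm.trans (of_splits h))
    have := g.toLinearEquiv.finrank_eq
    rw [hf, Module.finrank_self] at this
    exact (pow_eq_one_iff.mp this).resolve_right (by norm_num)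
  · rintro rfl
    haveI : NeZero m := ⟨hm.ne'⟩
    have hb' : Function.Bijective (Algebra.ofId k D) := CSA.Splitting.bijective_of_simple
      (Algebra.ofId k D) (by rw [Module.finrank_self, hf, one_pow])
    exact BEq.splits_iff.mpr ⟨m, hm.ne', ⟨e.trans (AlgEquiv.ofBijective _ hb').symm.mapMatrix⟩⟩

theorem index_dvd_of_splits {L : Type x} [Field L] [Algebra k L] [FiniteDimensional k L] {d : ℕ}
    (hd : CSAGal.IsIndex k A d) (h : Curves.Splits k A L) : d ∣ Module.finrank k L := by
  obtain ⟨hd0, m, D, _, _, _, _, hm, hf, hb, -⟩ := isIndex_elim hd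
  obtain ⟨d', m', -, -, -, hD, hL⟩ := CSA.SplittingModule.exists_degree (splits_of_beq hb.symm L h)
  have : d' = d := Nat.mul_self_inj.mp (by rw [← hD, hf, sq])
  exact ⟨m', by rw [hL, this, mul_comm]⟩

end index

end Groth.Agent.Lib.Brauer.Index
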