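import Groth.Agent.Lib.Brauer.BaseChange
import Groth.Agent.Lib.Brauer.TPowIndex
import Mathlib.GroupTheory.Sylow
import Mathlib.FieldTheory.Galois.Basic
import Mathlib.FieldTheory.Normal.Closure
import Mathlib.Data.Nat.Factorization.Basic

/-!
# Period and index
-/

namespace Groth.Agent.Lib.Brauer.Period

set_option linter.style.haveILetI false

open scoped TensorProduct
open Groth.Agent.Lib Groth.Agent.Lib.Brauer.BEq

universe u v w

variable {k : Type u} [Field k] {A : Type v} [Ring A] [Algebra k A] [Algebra.IsCentral k A]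
  [IsSimpleRing A] [FiniteDimensional k A]

theorem exists_period {d : ℕ} (hd : CSAGal.IsIndex k A d) :
    ∃ e, CSAGal.IsPeriod k A e ∧ e ∣ d :=
  Index.exists_period_dvd hd.1 (TPowIndex.splits_tpow_index hd)

theorem splits_of_coprime {d e : ℕ} (hd : CSAGal.IsIndex k A d) (he : 0 < e)
    (h : Curves.Splits k (CSAGal.tpow k A e) k) (hco : Nat.Coprime d e) : Curves.Splits k A k := by
  obtain ⟨p, hp, hpd⟩ := exists_period hd
  have hpe := (Index.period_dvd hp e).mp h
  have hp1 : p = 1 := Nat.dvd_one.mp (hco ▸ Nat.dvd_gcd hpd hpe)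
  subst hp1
  obtain ⟨h1, h2, h3⟩ := Index.csa_tpow k A 1
  exact splits_of_beq_base ((of_algEquiv (TPow.tpowOne k A)).symm.trans (of_splits hp.2.1))

/-- Every prime factor of the index divides every splitting exponent. -/
theorem prime_dvd {d e : ℕ} (hd : CSAGal.IsIndex k A d) (he : 0 < e)
    (h : Curves.Splits k (CSAGal.tpow k A e) k) {p : ℕ} (hp : p.Prime) (hpd : p ∣ d) : p ∣ e := by
  classical
  by_contra hpe
  obtain ⟨k', hfin, hs⟩ := CSA.Splitting.exists_separable_splitting k A
  let N := IntermediateField.normalClosure k k' (SeparableClosure k)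
  haveI : FiniteDimensional k N := normalClosure.is_finiteDimensional k k' (SeparableClosure k)
  haveI : IsGalois k N := { }
  let ι : k' →ₐ[k] N := IntermediateField.inclusion (IntermediateField.le_normalClosure k')
  have hsN : Curves.Splits k A N := CSA.Splitting.splits_mono k' ι hs
  haveI := Fact.mk hp
  let P : Sylow p Gal(N/k) := default
  let L₀ := IntermediateField.fixedField (P : Subgroup Gal(N/k))
  obtain ⟨a, ha⟩ := P.isPGroup'.exists_card_eq
  have hdeg : Module.finrank L₀ N = p ^ a := by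
    rw [IntermediateField.finrank_fixedField_eq_card]; exact ha
  have hnot : ¬ p ∣ Module.finrank k L₀ := by
    have h1 := Module.finrank_mul_finrank k L₀ N
    rw [IntermediateField.finrank_fixedField_eq_card, ← IsGalois.card_aut_eq_finrank k N,
      ← Subgroup.index_mul_card (P : Subgroup Gal(N/k))] at h1
    have hcard : 0 < Nat.card (P : Subgroup Gal(N/k)) := Nat.card_pos
    rw [Nat.eq_of_mul_eq_mul_right hcard h1]
    exact P.not_dvd_index
  obtain ⟨i1, i2, i3⟩ := BaseChange.csa k L₀ A
  obtain ⟨d₀, hd₀⟩ := Index.exists_index L₀ (L₀ ⊗[k] A)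
  have hs₀ : Curves.Splits L₀ (L₀ ⊗[k] A) N := by
    obtain ⟨n, hn, ⟨f⟩⟩ := hsN
    exact ⟨n, hn, ⟨(BaseChange.exists_cancel L₀ N (k := k) (A := A)).some.symm.trans f⟩⟩
  have hd₀p : d₀ ∣ p ^ a := hdeg ▸ Index.index_dvd_of_splits hd₀ hs₀
  obtain ⟨b, -, rfl⟩ := (Nat.dvd_prime_pow hp).mp hd₀p
  have hsplit : Curves.Splits L₀ (L₀ ⊗[k] A) L₀ :=
    splits_of_coprime hd₀ he (BaseChange.splits_tpow_baseChange L₀ h)
      (Nat.Coprime.pow_left _ (hp.coprime_iff_not_dvd.mpr hpe))
  have h2 := BaseChange.index_dvd_mul L₀ hd hd₀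
  rw [(Index.splits_iff_index_one hd₀).mp hsplit, mul_one] at h2
  exact hnot (hpd.trans h2)

/-- The index divides a power of any splitting exponent. -/
theorem index_dvd_pow {d e : ℕ} (hd : CSAGal.IsIndex k A d) (he : 0 < e)
    (h : Curves.Splits k (CSAGal.tpow k A e) k) : d ∣ e ^ (d - 1) := by
  rw [← Nat.factorization_le_iff_dvd hd.1.ne' (pow_pos he _).ne']
  intro p
  rw [Nat.factorization_pow]
  simp only [Finsupp.smul_apply, smul_eq_mul]
  by_cases hp : p.Prime
  · by_cases hpd : p ∣ d
    · have h1 : 1 ≤ e.factorization p :=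
        hp.factorization_pos_of_dvd he.ne' (prime_dvd hd he h hp hpd)
      have h2 : p ^ d.factorization p ≤ d := Nat.le_of_dvd hd.1 (Nat.ordProj_dvd d p)
      have h3 := Nat.lt_pow_self (n := d.factorization p) hp.one_lt
      calc d.factorization p ≤ d - 1 := by omega
        _ = (d - 1) * 1 := (mul_one _).symm
        _ ≤ (d - 1) * e.factorization p := Nat.mul_le_mul_left _ h1
    · simp [Nat.factorization_eq_zero_of_not_dvd hpd]
  · simp [Nat.factorization_eq_zero_of_not_prime _ hp]

theorem coprime_index {d e n : ℕ} (hd : CSAGal.IsIndex k A d) (he : 0 < e)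
    (h : Curves.Splits k (CSAGal.tpow k A e) k) (hco : Nat.Coprime e n) : Nat.Coprime d n :=
  Nat.Coprime.coprime_dvd_left (index_dvd_pow hd he h) (hco.pow_left _)

theorem index_dvd_of_coprime_ext {d n : ℕ} (hd : CSAGal.IsIndex k A d) (hn : 0 < n)
    (h : Curves.Splits k (CSAGal.tpow k A n) k) (L : Type w) [Field L] [Algebra k L]
    [FiniteDimensional k L] (hco : Nat.Coprime n (Module.finrank k L)) {d' : ℕ}
    (hd' : CSAGal.IsIndex L (L ⊗[k] A) d') (hdvd : d' ∣ n) : d ∣ n :=
  ((coprime_index hd hn h hco).dvd_of_dvd_mul_left (BaseChange.index_dvd_mul L hd hd')).trans hdvd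

theorem isIndex_of_division {D : Type v} [DivisionRing D] [Algebra k D] [Algebra.IsCentral k D]
    [FiniteDimensional k D] {m : ℕ} (e : A ≃ₐ[k] Matrix (Fin m) (Fin m) D) {d : ℕ}
    (hd : Module.finrank k D = d ^ 2) : CSAGal.IsIndex k A d := by
  have hdpos : 0 < d := by
    rcases Nat.eq_zero_or_pos d with h0 | h0
    · exact absurd (hd.trans (by simp [h0])) (Module.finrank_pos (R := k) (M := D)).ne'
    · exact h0
  refine Index.isIndex_of_beq hdpos hd (of_matrix_equiv (fun hm => ?_) e)
  subst hm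
  exact not_subsingleton A e.toEquiv.subsingleton

end Groth.Agent.Lib.Brauer.Period
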