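import Mathlib.LinearAlgebra.Matrix.Charpoly.Basic
import Mathlib.LinearAlgebra.Charpoly.ToMatrix
import Mathlib.LinearAlgebra.Matrix.StdBasis
import Mathlib.RingTheory.AlgebraTower
import Mathlib.RingTheory.Polynomial.UniqueFactorization
import Mathlib.RingTheory.IntegralClosure.IntegrallyClosed
import Mathlib.RingTheory.Polynomial.IsIntegral
import Mathlib.RingTheory.PrincipalIdealDomain

/-!
# Characteristic polynomials of left multiplications
-/

namespace Groth.Agent.Lib.Brauer.MatCharpoly

open Polynomial

universe u v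

theorem charpoly_blockDiagonal {R : Type u} [CommRing R] {n o : Type*} [Fintype n] [DecidableEq n]
    [Fintype o] [DecidableEq o] (A : o → Matrix n n R) :
    (Matrix.blockDiagonal A).charpoly = ∏ i, (A i).charpoly := by
  have h : (Matrix.blockDiagonal A).charmatrix = Matrix.blockDiagonal fun i => (A i).charmatrix := by
    ext ⟨i, k⟩ ⟨j, l⟩
    by_cases hij : i = j <;> by_cases hkl : k = l <;>
      simp [Matrix.charmatrix_apply, Matrix.blockDiagonal_apply, hij, hkl]
  simp only [Matrix.charpoly, h, Matrix.det_blockDiagonal]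

theorem toMatrix_mulLeft {R : Type u} [CommRing R] {n : ℕ} (M : Matrix (Fin n) (Fin n) R) :
    LinearMap.toMatrix (Matrix.stdBasis R (Fin n) (Fin n)) (Matrix.stdBasis R (Fin n) (Fin n))
      (LinearMap.mulLeft R M) = Matrix.blockDiagonal fun _ : Fin n => M := by
  classical
  ext ⟨i, j⟩ ⟨i', j'⟩
  rw [LinearMap.toMatrix_apply, Matrix.stdBasis_eq_single, LinearMap.mulLeft_apply,
    Matrix.blockDiagonal_apply]
  have hrepr : ∀ N : Matrix (Fin n) (Fin n) R,
      (Matrix.stdBasis R (Fin n) (Fin n)).repr N (i, j) = N i j := fun N => by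
    simp [Matrix.stdBasis]
  rw [hrepr]
  by_cases hj : j = j'
  · subst hj; simp
  · simp [hj]

/-- Left multiplication by a matrix on matrices. -/
theorem charpoly_lmul_matrix {R : Type u} [CommRing R] [Nontrivial R] {n : ℕ}
    (M : Matrix (Fin n) (Fin n) R) :
    (LinearMap.mulLeft R M).charpoly = M.charpoly ^ n := by
  classical
  rw [← LinearMap.charpoly_toMatrix _ (Matrix.stdBasis R (Fin n) (Fin n))]
  rw [toMatrix_mulLeft, charpoly_blockDiagonal, Finset.prod_const, Finset.card_univ, Fintype.card_fin]

/-- Two monic polynomials over a field with equal positive powers are equal. -/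
theorem monic_eq_of_pow_eq {k : Type u} [Field k] {p q : k[X]} (hp : p.Monic) (hq : q.Monic) {n : ℕ}
    (hn : n ≠ 0) (h : p ^ n = q ^ n) : p = q :=
  Polynomial.eq_of_monic_of_associated hp hq
    (associated_of_dvd_dvd ((IsIntegrallyClosed.pow_dvd_pow_iff hn).mp h.dvd)
      ((IsIntegrallyClosed.pow_dvd_pow_iff hn).mp h.symm.dvd))

end Groth.Agent.Lib.Brauer.MatCharpoly
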