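import Groth.Agent.Lib.Brauer.EndMorita

/-! The line bundle of liftings of an automorphism of a matrix algebra is torsion in `Pic`. -/

set_option autoImplicit false
universe u v w

open scoped TensorProduct

namespace Groth.Agent.Lib.Brauer.MatrixAutPic

open Groth.Agent.Lib.Brauer.EndMorita

theorem invertible_tpow (R : Type u) [CommRing R] (M : Type v) [AddCommGroup M] [Module R M]
    [Module.Invertible R M] : ∀ n : ℕ, Module.Invertible R (⨂[R] _ : Fin n, M)
  | 0 => Module.Invertible.congr (PiTensorProduct.isEmptyEquiv (Fin 0)).symm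
  | n + 1 => by
    haveI := invertible_tpow R M n
    haveI : Module.Invertible R (⨂[R] _ : Fin 1, M) :=
      Module.Invertible.congr (PiTensorProduct.subsingletonEquiv (s := fun _ : Fin 1 => M) (0 : Fin 1)).symm
    exact Module.Invertible.congr
      (TensorPower.mulEquiv : (⨂[R]^n M) ⊗[R] (⨂[R]^1 M) ≃ₗ[R] ⨂[R]^(n + 1) M)

variable {R : Type u} [CommRing R] {n : ℕ}

noncomputable def phi (α : Matrix (Fin n) (Fin n) R ≃ₐ[R] Matrix (Fin n) (Fin n) R) :
    Module.End R (Fin n → R) ≃ₐ[R] Module.End R (Fin n → R) :=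
  (LinearMap.toMatrixAlgEquiv' (R := R) (n := Fin n)).trans
    (α.trans (Matrix.toLinAlgEquiv' (R := R) (n := Fin n)))

theorem mem_eqv_iff (α : Matrix (Fin n) (Fin n) R ≃ₐ[R] Matrix (Fin n) (Fin n) R)
    (M : Matrix (Fin n) (Fin n) R) :
    Matrix.toLinAlgEquiv' M ∈ eqv (phi α) ↔ ∀ N, M * N = α N * M := by
  constructor
  · intro h N
    apply (Matrix.toLinAlgEquiv' (R := R) (n := Fin n)).injective
    rw [map_mul, map_mul]
    refine LinearMap.ext fun x => ?_
    have := h (Matrix.toLinAlgEquiv' N) x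
    simpa [phi, LinearMap.toMatrixAlgEquiv'_toLinAlgEquiv'] using this
  · intro h f x
    obtain ⟨N, rfl⟩ := (Matrix.toLinAlgEquiv' (R := R) (n := Fin n)).surjective f
    simp only [phi, AlgEquiv.trans_apply, LinearMap.toMatrixAlgEquiv'_toLinAlgEquiv']
    rw [← Module.End.mul_apply, ← Module.End.mul_apply, ← map_mul, ← map_mul, h]

theorem main (hn : 0 < n) (α : Matrix (Fin n) (Fin n) R ≃ₐ[R] Matrix (Fin n) (Fin n) R)
    (L : Submodule R (Matrix (Fin n) (Fin n) R)) (hL : ∀ M, M ∈ L ↔ ∀ N, M * N = α N * M) :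
    Module.Invertible R L ∧ Nonempty ((⨂[R] _ : Fin n, L) ≃ₗ[R] R) := by
  classical
  haveI : Nonempty (Fin n) := ⟨⟨0, hn⟩⟩
  let e : L ≃ₗ[R] eqv (phi α) :=
    (Matrix.toLinAlgEquiv' (R := R) (n := Fin n)).toLinearEquiv.ofSubmodules L (eqv (phi α)) (by
      apply Submodule.ext
      intro f
      obtain ⟨M, rfl⟩ := (Matrix.toLinAlgEquiv' (R := R) (n := Fin n)).surjective f
      rw [Submodule.mem_map]
      constructor
      · rintro ⟨M', hM', h⟩
        rw [← (Matrix.toLinAlgEquiv' (R := R) (n := Fin n)).injective h]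
        exact (mem_eqv_iff α M').mpr ((hL M').mp hM')
      · exact fun h => ⟨M, (hL M).mpr ((mem_eqv_iff α M).mp h), rfl⟩)
  haveI : FaithfulSMul R (Fin n → R) :=
    ⟨fun {a b} h => by simpa using congrFun (h fun _ => 1) ⟨0, hn⟩⟩
  haveI := invertible (phi α)
  haveI hinv : Module.Invertible R L := Module.Invertible.congr e.symm
  refine ⟨hinv, ?_⟩
  haveI := invertible_tpow R L n
  let row : Fin n → (L →ₗ[R] Fin n → R) := fun j =>
    { toFun := fun l i => (l : Matrix (Fin n) (Fin n) R) i j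
      map_add' := fun a b => rfl
      map_smul' := fun r a => rfl }
  let δ : (⨂[R] _ : Fin n, L) →ₗ[R] R :=
    PiTensorProduct.lift ((Matrix.detRowAlternating (n := Fin n) (R := R)).toMultilinearMap.compLinearMap row)
  have hδ : ∀ l : L, δ (PiTensorProduct.tprod R fun _ => l) = (l : Matrix (Fin n) (Fin n) R).det := fun l => by
    rw [← Matrix.det_transpose (l : Matrix (Fin n) (Fin n) R)]
    simp only [δ, PiTensorProduct.lift.tprod]
    rfl
  have hsurj : Function.Surjective δ := by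
    rw [← LinearMap.range_eq_top]
    by_contra hne
    obtain ⟨m, hm, hle⟩ := Ideal.exists_le_maximal (LinearMap.range δ) hne
    let κ := R ⧸ m
    letI : Field κ := Ideal.Quotient.field m
    let Ψ₀ : L →ₗ[R] Matrix (Fin n) (Fin n) κ :=
      ((Algebra.linearMap R κ).mapMatrix).comp L.subtype
    let Ψ : κ ⊗[R] L →ₗ[κ] Matrix (Fin n) (Fin n) κ := Ψ₀.liftBaseChange κ
    haveI : Module.Invertible κ (κ ⊗[R] L) := inferInstance
    obtain ⟨b⟩ : Nonempty (Module.Basis (Fin 1) κ (κ ⊗[R] L)) :=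
      ⟨Module.finBasisOfFinrankEq κ _ (Module.Invertible.finrank_eq_one κ (κ ⊗[R] L))⟩
    obtain ⟨l₀, hl₀⟩ := TensorProduct.mk_surjective R L κ Ideal.Quotient.mk_surjective (b 0)
    let g : Matrix (Fin n) (Fin n) κ := Ψ₀ l₀
    have hall : ∀ l : L, ∃ c : κ, Ψ₀ l = c • g := fun l => by
      refine ⟨b.repr ((1 : κ) ⊗ₜ[R] l) 0, ?_⟩
      have h1 := b.sum_repr ((1 : κ) ⊗ₜ[R] l)
      rw [Fin.sum_univ_one] at h1
      calc Ψ₀ l = Ψ ((1 : κ) ⊗ₜ[R] l) := by simp [Ψ]
        _ = b.repr ((1 : κ) ⊗ₜ[R] l) 0 • g := by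
          conv_lhs => rw [← h1, map_smul, ← hl₀]
          simp [Ψ, g]
    have hspan : ∀ t : (Fin n → R) ⊗[R] eqv (phi α),
        ∃ y : Fin n → κ, g.mulVec y = algebraMap R κ ∘ ev (phi α) t := fun t => by
      induction t using TensorProduct.induction_on with
      | zero => exact ⟨0, by ext; simp⟩
      | add a c ha hc =>
        obtain ⟨ya, hya⟩ := ha
        obtain ⟨yc, hyc⟩ := hc
        exact ⟨ya + yc, by rw [Matrix.mulVec_add, hya, hyc]; ext; simp⟩
      | tmul x f =>
        obtain ⟨l, rfl⟩ := e.surjective f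
        obtain ⟨c, hc⟩ := hall l
        refine ⟨c • (algebraMap R κ ∘ x), ?_⟩
        rw [Matrix.mulVec_smul, ← Matrix.smul_mulVec, ← hc]
        ext i
        exact (RingHom.map_mulVec (algebraMap R κ) (l : Matrix (Fin n) (Fin n) R) x i).symm
    have hgu : IsUnit g.det := by
      rw [← Matrix.isUnit_iff_isUnit_det, ← Matrix.mulVec_surjective_iff_isUnit]
      intro y
      choose z hz using fun i : Fin n => Ideal.Quotient.mk_surjective (y i)
      obtain ⟨t, ht⟩ := (ev_bijective (phi α)).2 z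
      obtain ⟨y', hy'⟩ := hspan t
      exact ⟨y', by rw [hy', ht]; funext i; exact hz i⟩
    apply hgu.ne_zero
    have hmem : (l₀ : Matrix (Fin n) (Fin n) R).det ∈ m := hle ⟨_, hδ l₀⟩
    show ((algebraMap R κ).mapMatrix (l₀ : Matrix (Fin n) (Fin n) R)).det = 0
    rw [← RingHom.map_det]
    exact Ideal.Quotient.eq_zero_iff_mem.mpr hmem
  exact ⟨LinearEquiv.ofBijective δ (Module.Invertible.bijective_of_surjective hsurj)⟩

end Groth.Agent.Lib.Brauer.MatrixAutPic
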