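import Groth.Agent.Lib.Brauer.Period
import Groth.Agent.Lib.Brauer.Maximal
import Mathlib.Algebra.BigOperators.Fin
import Mathlib.Data.Nat.ChineseRemainder
import Mathlib.RingTheory.Coprime.Lemmas

/-!
# Primary decomposition in the Brauer group
-/

namespace Groth.Agent.Lib.Brauer.Primary

set_option linter.style.haveILetI false

open scoped TensorProduct
open Groth.Agent.Lib Groth.Agent.Lib.Brauer.BEq Groth.Agent.Lib.Brauer.TPow

universe u v w

variable {k : Type u} [Field k]

theorem pi_csa (ι : Type) [Fintype ι] :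
    ∀ (A : ι → Type v) [∀ i, Ring (A i)] [∀ i, Algebra k (A i)],
    (∀ i, Algebra.IsCentral k (A i) ∧ IsSimpleRing (A i) ∧ FiniteDimensional k (A i)) →
    (Algebra.IsCentral k (⨂[k] i, A i) ∧ IsSimpleRing (⨂[k] i, A i) ∧
        FiniteDimensional k (⨂[k] i, A i)) ∧
      Module.finrank k (⨂[k] i, A i) = ∏ i, Module.finrank k (A i) := by
  refine Fintype.induction_empty_option
    (P := fun ι _ => ∀ (A : ι → Type v) [∀ i, Ring (A i)] [∀ i, Algebra k (A i)],
      (∀ i, Algebra.IsCentral k (A i) ∧ IsSimpleRing (A i) ∧ FiniteDimensional k (A i)) →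
      (Algebra.IsCentral k (⨂[k] i, A i) ∧ IsSimpleRing (⨂[k] i, A i) ∧
          FiniteDimensional k (⨂[k] i, A i)) ∧
        Module.finrank k (⨂[k] i, A i) = ∏ i, Module.finrank k (A i)) ?_ ?_ ?_ ι
  · intro α β _ e ih A _ _ h
    letI := Fintype.ofEquiv β e.symm
    obtain ⟨⟨h1, h2, h3⟩, hf⟩ := ih (fun a => A (e a)) fun a => h (e a)
    let E : (⨂[k] a, A (e a)) ≃ₐ[k] ⨂[k] b, A b :=
      (reindexEquiv A e.symm).symm
    refine ⟨Index.csa_congr k _ E, ?_⟩
    rw [← E.toLinearEquiv.finrank_eq, hf]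
    exact Fintype.prod_equiv e _ _ fun _ => rfl
  · intro A _ _ _
    obtain ⟨h1, h2, h3⟩ := Index.csa_base k
    refine ⟨Index.csa_congr k k (emptyEquiv A).symm, ?_⟩
    rw [(emptyEquiv A).toLinearEquiv.finrank_eq, Module.finrank_self, Finset.univ_eq_empty,
      Finset.prod_empty]
  · intro α _ ih A _ _ h
    let e : α ⊕ PUnit.{1} ≃ Option α := (Equiv.optionEquivSumPUnit α).symm
    obtain ⟨⟨h1, h2, h3⟩, hf⟩ := ih (fun a => A (some a)) fun a => h (some a)
    obtain ⟨g1, g2, g3⟩ := h none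
    haveI : Algebra.IsCentral k ((⨂[k] a, A (some a)) ⊗[k] A none) := CSA.Simple.isCentral_tensor k _ _
    haveI : IsSimpleRing ((⨂[k] a, A (some a)) ⊗[k] A none) := CSA.Simple.isSimpleRing_tensor k _ _
    let E : ((⨂[k] a, A (some a)) ⊗[k] A none) ≃ₐ[k] ⨂[k] i, A i :=
      ((Algebra.TensorProduct.congr AlgEquiv.refl
        (uniqueEquiv PUnit.unit (fun _ : PUnit.{1} => A none)).symm).trans
          (sumEquiv (k := k) (fun s : α ⊕ PUnit.{1} => A (e s)))).trans (reindexEquiv A e.symm).symm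
    refine ⟨Index.csa_congr k _ E, ?_⟩
    rw [← E.toLinearEquiv.finrank_eq, Module.finrank_tensorProduct, hf, Fintype.prod_option, mul_comm]

/-- Tensor products of powers of one algebra. -/
theorem pi_tpow (D : Type v) [Ring D] [Algebra k D] (ι : Type) [Fintype ι] :
    ∀ (A : ι → Type v) [∀ i, Ring (A i)] [∀ i, Algebra k (A i)] (a : ι → ℕ),
    (∀ i, BEq k (A i) (CSAGal.tpow k D (a i))) →
    BEq k (⨂[k] i, A i) (CSAGal.tpow k D (∑ i, a i)) := by
  refine Fintype.induction_empty_option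
    (P := fun ι _ => ∀ (A : ι → Type v) [∀ i, Ring (A i)] [∀ i, Algebra k (A i)] (a : ι → ℕ),
      (∀ i, BEq k (A i) (CSAGal.tpow k D (a i))) →
      BEq k (⨂[k] i, A i) (CSAGal.tpow k D (∑ i, a i))) ?_ ?_ ?_ ι
  · intro α β _ e ih A _ _ a h
    letI := Fintype.ofEquiv β e.symm
    rw [← Fintype.sum_equiv e (fun x => a (e x)) a fun _ => rfl]
    exact (of_algEquiv (reindexEquiv A e.symm)).trans (ih (fun x => A (e x)) _ fun x => h (e x))
  · intro A _ _ a _
    rw [Finset.univ_eq_empty, Finset.sum_empty]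
    exact (of_algEquiv (emptyEquiv A)).trans (of_algEquiv (tpowZero k D)).symm
  · intro α _ ih A _ _ a h
    let e : α ⊕ PUnit.{1} ≃ Option α := (Equiv.optionEquivSumPUnit α).symm
    let E : ((⨂[k] x, A (some x)) ⊗[k] A none) ≃ₐ[k] ⨂[k] i, A i :=
      ((Algebra.TensorProduct.congr AlgEquiv.refl
        (uniqueEquiv PUnit.unit (fun _ : PUnit.{1} => A none)).symm).trans
          (sumEquiv (k := k) (fun s : α ⊕ PUnit.{1} => A (e s)))).trans (reindexEquiv A e.symm).symm
    rw [Fintype.sum_option, add_comm]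
    exact (of_algEquiv E).symm.trans
      (((ih (fun x => A (some x)) _ fun x => h (some x)).tensor (h none)).trans (Index.tpow_add _ _).symm)

/-- Tensor products of algebras killed by `m`. -/
theorem pi_tpow_split (ι : Type) [Fintype ι] (m : ℕ) :
    ∀ (A : ι → Type v) [∀ i, Ring (A i)] [∀ i, Algebra k (A i)],
    (∀ i, BEq k (CSAGal.tpow k (A i) m) k) → BEq k (CSAGal.tpow k (⨂[k] i, A i) m) k := by
  refine Fintype.induction_empty_option
    (P := fun ι _ => ∀ (A : ι → Type v) [∀ i, Ring (A i)] [∀ i, Algebra k (A i)],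
      (∀ i, BEq k (CSAGal.tpow k (A i) m) k) → BEq k (CSAGal.tpow k (⨂[k] i, A i) m) k) ?_ ?_ ?_ ι
  · intro α β _ e ih A _ _ h
    letI := Fintype.ofEquiv β e.symm
    exact (Index.tpow_congr (of_algEquiv (reindexEquiv A e.symm)) m).trans
      (ih (fun x => A (e x)) fun x => h (e x))
  · intro A _ _ _
    exact (Index.tpow_congr (of_algEquiv (emptyEquiv A)) m).trans (Index.tpow_base m)
  · intro α _ ih A _ _ h
    let e : α ⊕ PUnit.{1} ≃ Option α := (Equiv.optionEquivSumPUnit α).symm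
    let E : ((⨂[k] x, A (some x)) ⊗[k] A none) ≃ₐ[k] ⨂[k] i, A i :=
      ((Algebra.TensorProduct.congr AlgEquiv.refl
        (uniqueEquiv PUnit.unit (fun _ : PUnit.{1} => A none)).symm).trans
          (sumEquiv (k := k) (fun s : α ⊕ PUnit.{1} => A (e s)))).trans (reindexEquiv A e.symm).symm
    exact (Index.tpow_congr (of_algEquiv E).symm m).trans ((Index.tpow_tensor m).trans
      (((ih (fun x => A (some x)) fun x => h (some x)).tensor (h none)).trans lid))

/-- Isolating one factor. -/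
theorem tpow_eq_single {ι : Type} [Fintype ι] [DecidableEq ι] (A : ι → Type v) [∀ i, Ring (A i)]
    [∀ i, Algebra k (A i)] (p : ι) (m : ℕ) (h : ∀ i, i ≠ p → BEq k (CSAGal.tpow k (A i) m) k) :
    BEq k (CSAGal.tpow k (⨂[k] i, A i) m) (CSAGal.tpow k (A p) m) := by
  let e : {i // i ≠ p} ⊕ PUnit.{1} ≃ ι :=
    { toFun := Sum.elim Subtype.val fun _ => p
      invFun := fun i => if h : i ≠ p then .inl ⟨i, h⟩ else .inr PUnit.unit
      left_inv := by rintro (⟨i, hi⟩ | u) <;> simp [*]
      right_inv := fun i => by by_cases h : i = p <;> simp [h] }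
  let E : ((⨂[k] i : {i // i ≠ p}, A i) ⊗[k] A p) ≃ₐ[k] ⨂[k] i, A i :=
    ((Algebra.TensorProduct.congr AlgEquiv.refl
      (uniqueEquiv PUnit.unit (fun _ : PUnit.{1} => A p)).symm).trans
        (sumEquiv (k := k) (fun s : {i // i ≠ p} ⊕ PUnit.{1} => A (e s)))).trans (reindexEquiv A e.symm).symm
  exact (Index.tpow_congr (of_algEquiv E).symm m).trans ((Index.tpow_tensor m).trans
    (((pi_tpow_split _ m (fun i : {i // i ≠ p} => A i) fun i => h i i.2).tensor refl).trans lid))

theorem tpow_mod {A : Type v} [Ring A] [Algebra k A] {n : ℕ} (h : BEq k (CSAGal.tpow k A n) k) (m : ℕ) :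
    BEq k (CSAGal.tpow k A m) (CSAGal.tpow k A (m % n)) := by
  have h1 : BEq k (CSAGal.tpow k A (n * (m / n) + m % n)) (CSAGal.tpow k A (m % n)) :=
    (Index.tpow_add _ _).trans (((Index.tpow_mul_split h _).tensor refl).trans lid)
  rwa [Nat.div_add_mod] at h1

theorem tpow_modEq {A : Type v} [Ring A] [Algebra k A] {n a b : ℕ} (h : BEq k (CSAGal.tpow k A n) k)
    (hab : a ≡ b [MOD n]) : BEq k (CSAGal.tpow k A a) (CSAGal.tpow k A b) := by
  have hb := (tpow_mod h b).symm
  rw [← hab] at hb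
  exact (tpow_mod h a).trans hb

end Groth.Agent.Lib.Brauer.Primary
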