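import Mathlib.Algebra.QuaternionBasis
import Mathlib.LinearAlgebra.Dimension.Finite
import Mathlib.Algebra.Central.Defs
import Mathlib.Tactic
import Groth.Agent.Lib.CSA.Basic
import Groth.Agent.Lib.CSA.SkolemNoether
import Mathlib.RingTheory.AdjoinRoot
import Mathlib.FieldTheory.Minpoly.Field

/-! Four-dimensional central division algebras are quaternion algebras. -/

set_option autoImplicit false
universe u v

namespace Groth.Agent.Lib.Brauer.Quaternion

variable {k : Type u} [Field k]

theorem exists_quadratic {D : Type v} [DivisionRing D] [Algebra k D] [Algebra.IsCentral k D]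
    (hD : Module.finrank k D = 4) :
    ∃ x : D, x ∉ Set.range (algebraMap k D) ∧ ∃ p q : k, x * x = p • x + algebraMap k D q := by
  haveI : FiniteDimensional k D := FiniteDimensional.of_finrank_pos (by omega)
  obtain ⟨x, hx⟩ : ∃ x : D, x ∉ Set.range (algebraMap k D) := by
    by_contra! h
    have htop : (⊥ : Subalgebra k D) = ⊤ :=
      eq_top_iff.mpr fun x _ => Algebra.mem_bot.mpr (h x)
    have := Subalgebra.bot_eq_top_iff_finrank_eq_one.mp htop
    omega
  refine ⟨x, hx, ?_⟩
  have hint : IsIntegral k x := IsIntegral.of_finite k x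
  have hirr := minpoly.irreducible hint
  have h2 : 2 ≤ (minpoly k x).natDegree :=
    (minpoly.two_le_natDegree_iff hint).mpr hx
  -- the field k(x)
  haveI := Fact.mk hirr
  let φ : AdjoinRoot (minpoly k x) →ₐ[k] D :=
    Ideal.Quotient.liftₐ (Ideal.span {minpoly k x}) (Polynomial.aeval x) fun a ha => by
      obtain ⟨c, rfl⟩ := Ideal.mem_span_singleton.mp ha
      simp
  haveI : FiniteDimensional k (AdjoinRoot (minpoly k x)) :=
    (AdjoinRoot.powerBasis hirr.ne_zero).finite
  have hB : Module.finrank k (AdjoinRoot (minpoly k x)) = (minpoly k x).natDegree := by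
    rw [(AdjoinRoot.powerBasis hirr.ne_zero).finrank, AdjoinRoot.powerBasis_dim]
  have hcen := Groth.Agent.Lib.CSA.SkolemNoether.finrank_centralizer_mul φ
  have hφ : Function.Injective φ.toLinearMap := φ.toRingHom.injective
  have hle : Module.finrank k (AdjoinRoot (minpoly k x)) ≤
      Module.finrank k (Subalgebra.centralizer k (φ.range : Set D)) := by
    refine LinearMap.finrank_le_finrank_of_injective (f := LinearMap.codRestrict
      (Subalgebra.toSubmodule (Subalgebra.centralizer k (φ.range : Set D))) φ.toLinearMap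
      (fun b => ?_)) (fun a b h => hφ (congrArg Subtype.val h))
    show φ b ∈ Subalgebra.centralizer k (φ.range : Set D)
    rw [Subalgebra.mem_centralizer_iff]
    rintro _ ⟨b', rfl⟩
    show φ b' * φ b = φ b * φ b'
    rw [← map_mul, ← map_mul, mul_comm]
  rw [hD, hB] at hcen
  rw [hB] at hle
  have hd : (minpoly k x).natDegree = 2 := by nlinarith
  have h0 := minpoly.aeval k x
  have hm : (minpoly k x).coeff (minpoly k x).natDegree = 1 := minpoly.monic hint
  rw [hd] at hm
  rw [Polynomial.aeval_eq_sum_range, hd] at h0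
  simp [Finset.sum_range_succ, hm, pow_two] at h0
  refine ⟨-(minpoly k x).coeff 1, -(minpoly k x).coeff 0, ?_⟩
  rw [map_neg, neg_smul, ← neg_add, eq_neg_iff_add_eq_zero, ← h0, Algebra.algebraMap_eq_smul_one]
  abel

theorem exists_algEquiv {D : Type v} [DivisionRing D] [Algebra k D] [Algebra.IsCentral k D]
    (h2 : (2 : k) ≠ 0) (hD : Module.finrank k D = 4) :
    ∃ a b : k, Nonempty (QuaternionAlgebra k a 0 b ≃ₐ[k] D) := by
  haveI : FiniteDimensional k D := FiniteDimensional.of_finrank_pos (by omega)
  obtain ⟨x₀, hx₀, p, q, hpq⟩ := exists_quadratic hD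
  let x : D := x₀ - (2⁻¹ * p) • (1 : D)
  let a : k := q + (2⁻¹ * p) * (2⁻¹ * p)
  have hp : p = 2⁻¹ * p + 2⁻¹ * p := by field_simp; ring
  have hx : x ∉ Set.range (algebraMap k D) := by
    rintro ⟨r, hr⟩
    exact hx₀ ⟨r + 2⁻¹ * p, by rw [map_add, hr, Algebra.algebraMap_eq_smul_one]; simp only [x]; abel⟩
  have hxx : x * x = a • (1 : D) := by
    simp only [x, a, sub_mul, mul_sub, hpq, smul_mul_assoc, mul_smul_comm, one_mul, mul_one,
      Algebra.algebraMap_eq_smul_one]
    rw [show p • x₀ = (2⁻¹ * p) • x₀ + (2⁻¹ * p) • x₀ by rw [← add_smul, ← hp]]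
    module
  have hx0 : x ≠ 0 := fun h => hx ⟨0, by rw [map_zero, h]⟩
  have ha : a ≠ 0 := fun h => by
    rw [h, zero_smul] at hxx
    exact hx0 (mul_self_eq_zero.mp hxx)
  obtain ⟨y, hy0, hy⟩ : ∃ y : D, y ≠ 0 ∧ x * y = -(y * x) := by
    by_contra! hne
    apply hx
    have hc : x ∈ Subalgebra.center k D := by
      rw [Subalgebra.mem_center_iff]
      intro z
      by_contra hz
      refine hne (z * x - x * z) (sub_ne_zero.mpr hz) ?_
      simp only [mul_sub, sub_mul, ← mul_assoc, hxx]
      simp only [mul_assoc, hxx, smul_mul_assoc, mul_smul_comm, one_mul, mul_one]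
      abel
    rw [Algebra.IsCentral.center_eq_bot, Algebra.mem_bot] at hc
    exact hc
  have hli : LinearIndependent k ![(1 : D), x, y, x * y] := by
    rw [Fintype.linearIndependent_iff]
    intro g hg
    simp [Fin.sum_univ_four] at hg
    let u : D := g 0 • 1 + g 1 • x
    let v : D := g 2 • y + g 3 • (x * y)
    have huv : u + v = 0 := by rw [← hg]; simp only [u, v]; abel
    have hu : x * u = u * x := by
      simp only [u, mul_add, add_mul, smul_mul_assoc, mul_smul_comm, one_mul, mul_one]
    have hv : x * v = -(v * x) := by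
      have hyx : y * x = -(x * y) := by rw [hy, neg_neg]
      have hxyx : x * y * x = -(a • y) := by
        rw [mul_assoc, hyx, mul_neg, ← mul_assoc, hxx, smul_mul_assoc, one_mul]
      simp only [v, mul_add, add_mul, smul_mul_assoc, mul_smul_comm, neg_add, ← mul_assoc, hxx]
      simp only [hxyx, hyx, smul_neg, neg_neg, smul_mul_assoc, one_mul]
    have hv0 : v = 0 := by
      have h := congrArg (fun z => x * z) huv
      have h' := congrArg (fun z => z * x) huv
      simp only [mul_add, add_mul, mul_zero, zero_mul] at h h'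
      rw [hu, hv] at h
      have h3 : (2 : k) • (v * x) = 0 := by
        rw [two_smul]
        linear_combination (norm := abel) h' - h
      exact (mul_eq_zero.mp ((smul_eq_zero.mp h3).resolve_left h2)).resolve_right hx0
    have hu0 : u = 0 := by rwa [hv0, add_zero] at huv
    have key : ∀ s t : k, s • (1 : D) + t • x = 0 → s = 0 ∧ t = 0 := by
      intro s t hst
      by_cases ht : t = 0
      · subst ht
        simpa using hst
      · exfalso
        apply hx
        refine ⟨-(t⁻¹ * s), ?_⟩
        have h := congrArg (fun z => t⁻¹ • z) hst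
        simp only [smul_add, smul_smul, inv_mul_cancel₀ ht, one_smul, smul_zero] at h
        rw [map_neg, Algebra.algebraMap_eq_smul_one]
        exact (eq_neg_of_add_eq_zero_right h).symm
    obtain ⟨h0, h1⟩ := key _ _ hu0
    have h23 : (g 2 • (1 : D) + g 3 • x) * y = 0 := by
      rw [← hv0]
      simp only [v, add_mul, smul_mul_assoc, one_mul]
    obtain ⟨h2', h3'⟩ := key _ _ ((mul_eq_zero.mp h23).resolve_right hy0)
    intro i
    fin_cases i <;> assumption
  have hspan := hli.span_eq_top_of_card_eq_finrank (by simp [hD])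
  have hyc : y * y ∈ Subalgebra.center k D := by
    rw [Subalgebra.mem_center_iff]
    intro z
    have hz : z ∈ Submodule.span k (Set.range ![(1 : D), x, y, x * y]) := by
      rw [hspan]; exact Submodule.mem_top
    have hxyy : x * (y * y) = y * y * x := by
      rw [← mul_assoc, hy, neg_mul, mul_assoc, hy, mul_neg, neg_neg, mul_assoc]
    induction hz using Submodule.span_induction with
    | mem w hw =>
      obtain ⟨i, rfl⟩ := hw
      fin_cases i
      · simp
      · exact hxyy
      · simp [mul_assoc]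
      · show x * y * (y * y) = y * y * (x * y)
        rw [← mul_assoc (y * y) x, ← hxyy]
        simp only [mul_assoc]
    | zero => simp
    | add w w' _ _ h h' => rw [add_mul, h, h', mul_add]
    | smul c w _ h => rw [smul_mul_assoc, h, mul_smul_comm]
  rw [Algebra.IsCentral.center_eq_bot, Algebra.mem_bot] at hyc
  obtain ⟨b, hb⟩ := hyc
  let Q : QuaternionAlgebra.Basis D a 0 b :=
    { i := x, j := y, k := x * y
      i_mul_i := by rw [hxx, zero_smul, add_zero]
      j_mul_j := by rw [← hb, Algebra.algebraMap_eq_smul_one]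
      i_mul_j := rfl
      j_mul_i := by rw [zero_smul, zero_sub, hy, neg_neg] }
  have hsurj : Function.Surjective Q.liftHom := by
    rw [← AlgHom.range_eq_top, ← top_le_iff]
    intro z _
    have hz : z ∈ Submodule.span k (Set.range ![(1 : D), x, y, x * y]) := by
      rw [hspan]; exact Submodule.mem_top
    refine (Submodule.span_le (p := Subalgebra.toSubmodule Q.liftHom.range)).mpr ?_ hz
    rintro _ ⟨i, rfl⟩
    fin_cases i
    · exact one_mem Q.liftHom.range
    · exact ⟨⟨0, 1, 0, 0⟩, by simp [QuaternionAlgebra.Basis.liftHom, QuaternionAlgebra.Basis.lift, Q]⟩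
    · exact ⟨⟨0, 0, 1, 0⟩, by simp [QuaternionAlgebra.Basis.liftHom, QuaternionAlgebra.Basis.lift, Q]⟩
    · exact ⟨⟨0, 0, 0, 1⟩, by simp [QuaternionAlgebra.Basis.liftHom, QuaternionAlgebra.Basis.lift, Q]⟩
  have hinj : Function.Injective Q.liftHom.toLinearMap :=
    (LinearMap.injective_iff_surjective_of_finrank_eq_finrank
      (by rw [QuaternionAlgebra.finrank_eq_four, hD])).mpr hsurj
  exact ⟨a, b, ⟨AlgEquiv.ofBijective Q.liftHom ⟨hinj, hsurj⟩⟩⟩

theorem isCentral (a b : k) (h2 : (2 : k) ≠ 0)
    (hQ : ∀ x : QuaternionAlgebra k a 0 b, x ≠ 0 → IsUnit x) :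
    Algebra.IsCentral k (QuaternionAlgebra k a 0 b) := by
  have hne : ∀ x : QuaternionAlgebra k a 0 b, x ≠ 0 → x * x ≠ 0 := fun x hx h =>
    hx ((hQ x hx).mul_right_eq_zero.mp h)
  have ha : a ≠ 0 := fun ha => hne ⟨0, 1, 0, 0⟩
    (fun h => one_ne_zero (congrArg QuaternionAlgebra.imI h))
    (by ext <;> simp [ha])
  have hb : b ≠ 0 := fun hb => hne ⟨0, 0, 1, 0⟩
    (fun h => one_ne_zero (congrArg QuaternionAlgebra.imJ h))
    (by ext <;> simp [hb])
  refine ⟨fun z hz => ?_⟩
  rw [Subalgebra.mem_center_iff] at hz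
  have hi := hz ⟨0, 1, 0, 0⟩
  have hj := hz ⟨0, 0, 1, 0⟩
  have h1 := congrArg QuaternionAlgebra.imK hi
  have h3 := congrArg QuaternionAlgebra.imJ hi
  have h4 := congrArg QuaternionAlgebra.imK hj
  simp at h1 h3 h4
  have hJ : z.imJ = 0 :=
    (mul_eq_zero.mp (by linear_combination h1 : (2 : k) * z.imJ = 0)).resolve_left h2
  have hK : z.imK = 0 :=
    (mul_eq_zero.mp (by linear_combination h3 : (2 * a) * z.imK = 0)).resolve_left
      (mul_ne_zero h2 ha)
  have hI : z.imI = 0 :=
    (mul_eq_zero.mp (by linear_combination -h4 : (2 : k) * z.imI = 0)).resolve_left h2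
  rw [Algebra.mem_bot]
  exact ⟨z.re, by ext <;> simp [hI, hJ, hK]⟩

end Groth.Agent.Lib.Brauer.Quaternion
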