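import Groth.Agent.Lib.CSA.Simple
import Mathlib.RingTheory.Etale.Field
import Mathlib.RingTheory.Unramified.Field
import Mathlib.RingTheory.TensorProduct.Pi
import Mathlib.RingTheory.SimpleModule.WedderburnArtin
import Mathlib.RingTheory.Artinian.Module

/-! Semisimple algebras with separable centre stay semisimple under field extension. -/

set_option autoImplicit false
universe u v w z

open scoped TensorProduct

namespace Groth.Agent.Lib.Brauer.SepSemisimple

/-- A central simple algebra over a separable extension `Z` of `k`, viewed over `k`. -/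
theorem baseChange_simple (k : Type u) [Field k] (Z : Type z) [Field Z] [Algebra k Z]
    [FiniteDimensional k Z] [Algebra.IsSeparable k Z]
    (A : Type v) [Ring A] [Algebra k A] [Algebra Z A] [IsScalarTower k Z A]
    [Algebra.IsCentral Z A] [IsSimpleRing A] [FiniteDimensional Z A]
    (k' : Type w) [Field k'] [Algebra k k'] : IsSemisimpleRing (k' ⊗[k] A) := by
  haveI : Algebra.FormallyEtale k Z := Algebra.FormallyEtale.of_isSeparable k Z
  haveI hred' : IsReduced (k' ⊗[k] Z) := Algebra.FormallyUnramified.isReduced_of_field k' _
  haveI : IsArtinianRing (k' ⊗[k] Z) := IsArtinianRing.of_finite k' _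
  let eR : (k' ⊗[k] Z) ≃ₐ[k] (Z ⊗[k] k') := Algebra.TensorProduct.comm k k' Z
  haveI : IsArtinianRing (Z ⊗[k] k') :=
    (eR.surjective : Function.Surjective eR.toRingEquiv.toRingHom).isArtinianRing
  haveI : IsReduced (Z ⊗[k] k') := isReduced_of_injective eR.symm eR.symm.injective
  classical
  let R := Z ⊗[k] k'
  letI : Fintype (MaximalSpectrum R) := Fintype.ofFinite _
  let K := fun m : MaximalSpectrum R => R ⧸ m.asIdeal
  letI : ∀ m, Field (K m) := fun m => Ideal.Quotient.field m.asIdeal
  have hsimple : ∀ m, IsSemisimpleRing (A ⊗[Z] K m) := fun m => by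
    haveI := Groth.Agent.Lib.CSA.Simple.isSimpleRing_baseChange Z (K m) A
    haveI : IsArtinianRing (K m ⊗[Z] A) := IsArtinianRing.of_finite (K m) _
    exact (Algebra.TensorProduct.comm Z (K m) A).toRingEquiv.isSemisimpleRing
  haveI : IsSemisimpleRing (∀ m, A ⊗[Z] K m) := inferInstance
  haveI : IsSemisimpleRing (A ⊗[Z] (∀ m, K m)) :=
    (Algebra.TensorProduct.piRight Z Z A K).symm.toRingEquiv.isSemisimpleRing
  let eP : R ≃ₐ[Z] (∀ m, K m) := (IsArtinianRing.equivPi R).restrictScalars Z
  haveI : IsSemisimpleRing (A ⊗[Z] R) :=
    (Algebra.TensorProduct.congr (AlgEquiv.refl : A ≃ₐ[Z] A) eP.symm).toRingEquiv.isSemisimpleRing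
  let l := TensorProduct.AlgebraTensorModule.cancelBaseChange k Z Z A k'
  have hmul : ∀ x y, l (x * y) = l x * l y :=
    LinearMap.map_mul_of_map_mul_tmul (f := l.toLinearMap) fun a c b d => by
      induction b using TensorProduct.induction_on with
      | zero => simp
      | add b b' hb hb' =>
        simp only [TensorProduct.tmul_add, add_mul, map_add] at hb hb' ⊢
        rw [hb, hb']
      | tmul z x =>
        induction d using TensorProduct.induction_on with
        | zero => simp
        | add d d' hd hd' =>
          simp only [TensorProduct.tmul_add, mul_add, map_add] at hd hd' ⊢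
          rw [hd, hd']
        | tmul z' y =>
          simp [l, smul_smul, mul_comm z z']
  let e1 : (A ⊗[Z] R) ≃+* (A ⊗[k] k') :=
    { l.toAddEquiv with map_mul' := hmul }
  haveI := e1.isSemisimpleRing
  exact (Algebra.TensorProduct.comm k A k').toRingEquiv.isSemisimpleRing

theorem baseChange (k : Type u) [Field k] (A : Type v) [Ring A] [Algebra k A]
    [FiniteDimensional k A] [IsSemisimpleRing A] [Algebra.IsSeparable k (Subalgebra.center k A)]
    (k' : Type w) [Field k'] [Algebra k k'] : IsSemisimpleRing (k' ⊗[k] A) := by
  classical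
  obtain ⟨n, D, d, iD, iA, iF, hd, ⟨e⟩⟩ :=
    IsSemisimpleRing.exists_algEquiv_pi_matrix_divisionRing_finite k A
  haveI := hd
  let M := fun i => Matrix (Fin (d i)) (Fin (d i)) (D i)
  have hM : ∀ i, IsSemisimpleRing (k' ⊗[k] M i) := fun i => by
    haveI : IsSimpleRing (M i) := inferInstance
    have hsepZ : Algebra.IsSeparable k (Subalgebra.center k (M i)) := by
      refine ⟨fun z => ?_⟩
      have hz : e.symm (Pi.single i (z : M i)) ∈ Subalgebra.center k A := by
        rw [Subalgebra.mem_center_iff]
        intro b
        apply e.injective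
        simp only [map_mul, AlgEquiv.apply_symm_apply]
        funext j
        rcases eq_or_ne j i with rfl | hj
        · simp [Subalgebra.mem_center_iff.mp z.2 (e b j)]
        · simp [Pi.single_eq_of_ne hj]
      have hsep : IsSeparable k (⟨_, hz⟩ : Subalgebra.center k A) :=
        Algebra.IsSeparable.isSeparable k _
      refine Polynomial.Separable.of_dvd hsep (minpoly.dvd k z ?_)
      apply Subtype.val_injective
      let w : Subalgebra.center k A := ⟨_, hz⟩
      let φ : Subalgebra.center k A →ₐ[k] M i :=
        ((Pi.evalAlgHom k M i).comp e.toAlgHom).comp (Subalgebra.val _)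
      have hw : φ w = (z : M i) := by simp [φ, w]
      have h0 := congrArg φ (minpoly.aeval k w)
      rw [← Polynomial.aeval_algHom_apply, map_zero, hw] at h0
      exact (Polynomial.aeval_algHom_apply (Subalgebra.val (Subalgebra.center k (M i))) z
        (minpoly k w)).symm.trans h0
    letI : Field (Subalgebra.center k (M i)) :=
      { (inferInstance : CommRing (Subalgebra.center k (M i))),
        (IsSimpleRing.isField_center (M i) : IsField (Subalgebra.center k (M i))).toField with }
    letI iZ : Algebra (Subalgebra.center k (M i)) (M i) :=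
      (Subalgebra.val (Subalgebra.center k (M i))).toRingHom.toAlgebra'
        (fun c x => (Subalgebra.mem_center_iff.mp c.2 x).symm)
    haveI : IsScalarTower k (Subalgebra.center k (M i)) (M i) :=
      IsScalarTower.of_algebraMap_eq' rfl
    haveI : Algebra.IsCentral (Subalgebra.center k (M i)) (M i) := by
      refine ⟨fun x hx => Algebra.mem_bot.mpr ⟨⟨x, ?_⟩, rfl⟩⟩
      rw [Subalgebra.mem_center_iff] at hx ⊢
      exact hx
    haveI : FiniteDimensional (Subalgebra.center k (M i)) (M i) :=
      Module.Finite.of_restrictScalars_finite k _ _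
    haveI : Algebra.IsSeparable k (Subalgebra.center k (M i)) := hsepZ
    set_option backward.isDefEq.respectTransparency false in
    exact baseChange_simple k (Subalgebra.center k (M i)) (M i) k'
  haveI : IsSemisimpleRing (∀ i, k' ⊗[k] M i) := inferInstance
  haveI : IsSemisimpleRing (k' ⊗[k] (∀ i, M i)) :=
    (Algebra.TensorProduct.piRight k k k' M).symm.toRingEquiv.isSemisimpleRing
  exact (Algebra.TensorProduct.congr (AlgEquiv.refl : k' ≃ₐ[k] k') e.symm).toRingEquiv.isSemisimpleRing

end Groth.Agent.Lib.Brauer.SepSemisimple
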